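import Cfsg.Agent.Lib.SL2Pres.AnyField
import Cfsg.Agent.Lib.Classical.SL2Sylow
import Cfsg.Agent.Lib.Schur.Congr
import Cfsg.Agent.S3963
import Cfsg.Agent.S3979

/-!
# Rank one groups inside images of `SL₂`

A homomorphism out of `SL₂` is injective when opposite root images meet trivially, the root map is
injective and `-1` survives; Sylow subgroups for other primes then have trivial multiplier.
-/

set_option autoImplicit false
set_option linter.unusedSectionVars false
set_option linter.style.haveILetI false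

namespace Cfsg.Agent.CentralSection.SL2Img

open Matrix (SpecialLinearGroup)
open SL2Pres (up low wS diagS)

variable {F : Type*} [Field F] {H : Type*} [Group H]

local notation "SL" => SpecialLinearGroup (Fin 2) F

theorem neg_one_cases {a : F} (h : a * a = 1) : a = 1 ∨ a = -1 := mul_self_eq_one_iff.1 h

theorem injective_of (φ : SL →* H) (hopp : ∀ z c : F, φ (low c) = φ (up z) → c = 0)
    (hm : φ (diagS F (-1)) = 1 → diagS F (-1) = 1) : Function.Injective φ := by
  have hc : ∀ γ : SL, φ γ = 1 → γ.1 1 0 = 0 := by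
    intro γ hγ
    by_contra hc
    obtain ⟨a, b, c, d, hγv⟩ : ∃ a b c d, γ.1 = !![a, b; c, d] := ⟨_, _, _, _, Matrix.eta_fin_two _⟩
    rw [hγv] at hc
    change c ≠ 0 at hc
    have hdet : a * d - b * c = 1 := by
      have := γ.2; rwa [hγv, Matrix.det_fin_two_of] at this
    have hdec : γ = up ((a - 1) / c) * low c * up ((d - 1) / c) := by
      apply Subtype.ext
      show γ.1 = (up ((a - 1) / c)).1 * (low c).1 * (up ((d - 1) / c)).1
      rw [hγv, SL2Pres.up_val, SL2Pres.low_val,
        SL2Pres.up_val, Matrix.mul_fin_two, Matrix.mul_fin_two]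
      ext i j
      fin_cases i <;> fin_cases j <;> simp <;> field_simp
      all_goals first | linear_combination hdet | linear_combination -hdet | ring
    rw [hdec, map_mul, map_mul, mul_assoc, mul_eq_one_iff_inv_eq] at hγ
    have hγ2 := eq_mul_inv_of_mul_eq hγ.symm
    have hup : ∀ x : F, (up x)⁻¹ = up (-x) := fun x => inv_eq_of_mul_eq_one_right (by
      rw [SL2Pres.up_add, add_neg_cancel, SL2Pres.up_zero])
    refine hc (hopp (-((a - 1) / c) + -((d - 1) / c)) c ?_)
    rw [hγ2, ← map_inv, ← map_inv, ← map_mul]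
    exact congrArg φ (by rw [hup, hup, SL2Pres.up_add])
  rw [← MonoidHom.ker_eq_bot_iff, Subgroup.eq_bot_iff_forall]
  intro γ hγ
  have hγ' : φ γ = 1 := hγ
  obtain ⟨a, b, c, d, hγv⟩ : ∃ a b c d, γ.1 = !![a, b; c, d] := ⟨_, _, _, _, Matrix.eta_fin_two _⟩
  have hc0 : c = 0 := by have := hc γ hγ'; rwa [hγv] at this
  have hconj : ∀ g : SL, φ (g * γ * g⁻¹) = 1 := fun g => by
    rw [map_mul, map_mul, map_inv, hγ', mul_one, mul_inv_cancel]
  have hb : b = 0 := by
    have h := hc _ (hconj (wS F))
    simp [hγv, hc0, SL2Pres.wS_val, Matrix.SpecialLinearGroup.coe_inv, Matrix.adjugate_fin_two_of] at h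
    exact h
  have had : a = d := by
    have h := hc _ (hconj (low 1))
    simp [hγv, hc0, hb, SL2Pres.low_val, Matrix.SpecialLinearGroup.coe_inv,
      Matrix.adjugate_fin_two_of] at h
    first | linear_combination h | linear_combination -h
  have hdet : a * d = 1 := by
    have := γ.2; rw [hγv, Matrix.det_fin_two_of, hc0, mul_zero, sub_zero] at this; exact this
  rw [← had] at hdet
  rcases neg_one_cases hdet with h | h
  · apply Subtype.ext
    rw [hγv, hb, hc0, ← had, h]
    simp [Matrix.one_fin_two]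
  · have e : γ = diagS F (-1) := Subtype.ext (by
      rw [hγv, hb, hc0, ← had, h, SL2Pres.diagS_val]
      simp [inv_neg])
    rw [e] at hγ' ⊢
    exact hm hγ'

/-- the reflection is a product of root elements -/
theorem wS_eq : wS F = up 1 * (wS F * up 1 * (wS F)⁻¹) * up 1 := by
  have h := SL2Pres.up_low_up (K := F) 1
  rw [Units.val_one, inv_one, map_one, one_mul] at h
  exact h.symm

theorem wS_root : wS F = up 1 * low (-1) * up 1 :=
  Subtype.ext (by simp [SL2Pres.up_val, SL2Pres.low_val, SL2Pres.wS_val, Matrix.mul_fin_two])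

/-- the group generated by a root image and its conjugate by the reflection -/
theorem le_range (φ : SL →* H) {R : Subgroup H} (hR : ∀ x ∈ R, ∃ t, φ (up t) = x) :
    R ⊔ R.map (MulAut.conj (φ (wS F))).toMonoidHom ≤ φ.range := by
  refine sup_le (fun x hx => ?_) ?_
  · obtain ⟨t, rfl⟩ := hR x hx
    exact ⟨_, rfl⟩
  · rintro _ ⟨x, hx, rfl⟩
    obtain ⟨t, rfl⟩ := hR x hx
    exact ⟨wS F * up t * (wS F)⁻¹, by simp⟩

/-- the reflection is in that group -/
theorem refl_mem (φ : SL →* H) {R : Subgroup H} (h1 : φ (up 1) ∈ R) :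
    φ (wS F) ∈ R ⊔ R.map (MulAut.conj (φ (wS F))).toMonoidHom := by
  have e : φ (wS F) = φ (up 1) * (φ (wS F) * φ (up 1) * (φ (wS F))⁻¹) * φ (up 1) := by
    conv_lhs => rw [wS_eq]
    simp
  have h := mul_mem (mul_mem (Subgroup.mem_sup_left (T := R.map (MulAut.conj (φ (wS F))).toMonoidHom) h1)
    (Subgroup.mem_sup_right ⟨_, h1, rfl⟩)) (Subgroup.mem_sup_left h1)
  rw [MulEquiv.coe_toMonoidHom, MulAut.conj_apply, ← e] at h
  exact h

/-- `p'`-subgroups of `SL₂` of prime power order have trivial multiplier -/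
theorem mult_sl2 [Fintype F] {p r : ℕ} [Fact p.Prime] [CharP F p] (hr : r.Prime) (hrp : r ≠ p)
    {P : Type*} [Group P] (hP : IsPGroup r P) (f : P →* SL) (hf : Function.Injective f) :
    Cfsg.HasCyclicSchurMultiplier P 1 := by
  classical
  haveI := Fact.mk hr
  have hS : IsPGroup r f.range := hP.of_equiv (MonoidHom.ofInjective hf)
  refine Schur.hasCyclicSchurMultiplier_of_mulEquiv (MonoidHom.ofInjective hf).symm ?_
  by_cases hr2 : r = 2
  · subst hr2
    have hp2 : p ≠ 2 := fun e => hrp e.symm
    by_cases hnc : ∃ x ∈ f.range, ∃ y ∈ f.range, x * y ≠ y * x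
    · obtain ⟨k, -, ⟨E⟩⟩ := SL2Sylow.quaternion_of_twoGroup p hp2 _ hS hnc
      haveI : NeZero (2 ^ k) := ⟨pow_ne_zero _ two_ne_zero⟩
      exact Schur.hasCyclicSchurMultiplier_of_mulEquiv E.symm (Cfsg.Agent.S3963.result (2 ^ k))
    · push Not at hnc
      haveI : IsMulCommutative f.range := ⟨⟨fun a b => Subtype.ext (hnc a a.2 b b.2)⟩⟩
      haveI : IsCyclic f.range := by
        obtain ⟨k, hk⟩ := IsPGroup.iff_card.1 hS
        refine SL2Sylow.isCyclic_of_isMulCommutative p _ ?_
        rw [hk]
        exact ((Nat.coprime_primes Nat.prime_two (Fact.out : p.Prime)).2 hrp).pow_left k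
      exact Cfsg.Agent.S3979.result
  · haveI := SL2Sylow.sylow_odd_cyclic (F := F) p r hr2 hrp _ hS
    exact Cfsg.Agent.S3979.result

/-- Sylow subgroups of a group inside an injective image of `SL₂` -/
theorem mult_sylow [Fintype F] {p r : ℕ} [Fact p.Prime] [CharP F p] (hr : r.Prime) (hrp : r ≠ p)
    (φ : SL →* H) (hφ : Function.Injective φ) {L : Type*} [Group L] (i : L →* H)
    (hi : Function.Injective i) (hle : i.range ≤ φ.range) (P : Sylow r L) :
    Cfsg.HasCyclicSchurMultiplier (P : Subgroup L) 1 := by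
  let e := MonoidHom.ofInjective hφ
  let f : L →* SL := e.symm.toMonoidHom.comp ((Subgroup.inclusion hle).comp i.rangeRestrict)
  have hf : Function.Injective f := e.symm.injective.comp
    ((Subgroup.inclusion_injective hle).comp fun a b h => hi (congrArg Subtype.val h))
  exact mult_sl2 (p := p) hr hrp P.isPGroup' (f.comp (P : Subgroup L).subtype)
    (hf.comp (P : Subgroup L).subtype_injective)

end Cfsg.Agent.CentralSection.SL2Img
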