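import Cfsg.Agent.Lib.CentralSection.PLift

/-!
# Rank two

A group generated by a `p`-group `U` and two elements `n₀`, `n₁`, with a torus, rank one relations
and a dihedral Weyl group: in a central extension with kernel of order prime to `p` the canonical
lifts of the two rank one groups generate a complement to the kernel.
-/

set_option autoImplicit false
set_option linter.unusedSectionVars false
set_option linter.style.haveILetI false

namespace Cfsg.Agent.CentralSection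

open scoped commutatorElement

/-- the data -/
structure Frame (G : Type*) [Group G] where
  /-- the maximal unipotent subgroup -/
  U : Subgroup G
  /-- the torus -/
  T : Subgroup G
  /-- the two root groups -/
  R : Fin 2 → Subgroup G
  /-- the two reflections -/
  n : Fin 2 → G
  /-- half the order of their product -/
  h : ℕ

namespace Frame

variable {G : Type*} [Group G] (Φ : Frame G)

/-- the monomial group -/
def N0 : Subgroup G := Φ.T ⊔ Subgroup.closure (Set.range Φ.n)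

/-- the opposite root groups -/
def R' (i : Fin 2) : Subgroup G := (Φ.R i).map (MulAut.conj (Φ.n i)).toMonoidHom

/-- the rank one groups -/
def L (i : Fin 2) : Subgroup G := Φ.R i ⊔ Φ.R' i

/-- the product of the two reflections -/
def r : G := Φ.n 1 * Φ.n 0

/-- the element commuting with the first reflection -/
def v : G := Φ.r ^ (Φ.h - 1) * Φ.n 1

/-- the relations -/
structure Axioms (p : ℕ) : Prop where
  h_pos : 0 < Φ.h
  pU : IsPGroup p Φ.U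
  R_le : ∀ i, Φ.R i ≤ Φ.U
  T_U : Φ.T ≤ Subgroup.normalizer (Φ.U : Set G)
  T_R : ∀ i, Φ.T ≤ Subgroup.normalizer (Φ.R i : Set G)
  n_T : ∀ i, Φ.n i ∈ Subgroup.normalizer (Φ.T : Set G)
  n_sq : ∀ i, Φ.n i * Φ.n i ∈ Φ.T
  n_mem : ∀ i, Φ.n i ∈ Φ.L i
  U_N : ∀ x ∈ Φ.U, x ∈ Φ.N0 → x = 1
  split : ∀ i, ∀ u ∈ Φ.U, ∃ u0 ∈ Φ.U, Φ.n i * u0 * (Φ.n i)⁻¹ ∈ Φ.U ∧ ∃ z ∈ Φ.R i, u = u0 * z
  rank1 : ∀ i, ∀ z ∈ Φ.R i, z ≠ 1 →
    ∃ a ∈ Φ.R i, ∃ t ∈ Φ.T, ∃ b ∈ Φ.R i, Φ.n i * z * (Φ.n i)⁻¹ = a * t * Φ.n i * b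
  dich : ∀ i, ∀ ν ∈ Φ.N0, (∀ z ∈ Φ.R i, ν⁻¹ * z * ν ∈ Φ.U) ∨
    (∀ z ∈ Φ.R i, (Φ.n i * ν)⁻¹ * z * (Φ.n i * ν) ∈ Φ.U)
  fix0 : ∀ z ∈ Φ.R 0, Φ.v * z * Φ.v⁻¹ ∈ Φ.R 0
  fix0' : ∀ z ∈ Φ.R' 0, Φ.v * z * Φ.v⁻¹ ∈ Φ.R' 0
  comm0 : Φ.v * Φ.n 0 * Φ.v⁻¹ * (Φ.n 0)⁻¹ ∈ Φ.T
  rot : ∀ k, 0 < k → k < 2 * Φ.h → Φ.r ^ k ∉ Φ.T
  refl : ∀ k, k < 2 * Φ.h → Φ.r ^ k * Φ.n 1 ∉ Φ.T
  indep : ∀ t ∈ Φ.L 0, t ∈ Φ.L 1 → t ∈ Φ.T → t = 1
  gen : Φ.U ⊔ Subgroup.closure (Set.range Φ.n) = ⊤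

end Frame

/-- elements of a group generated by two involutions -/
theorem dihedral_elems {Q : Type*} [Group Q] {a b : Q} (ha : a * a = 1) (hb : b * b = 1) {M : ℕ}
    (hM : 0 < M) (hab : (b * a) ^ M = 1) {x : Q} (hx : x ∈ Subgroup.closure {a, b}) :
    ∃ k < M, x = (b * a) ^ k ∨ x = (b * a) ^ k * b := by
  set r := b * a with hr
  have hmod : ∀ k : ℕ, ∃ l < M, r ^ k = r ^ l := fun k => ⟨k % M, Nat.mod_lt _ hM, pow_eq_pow_mod k hab⟩
  have hinv : ∀ k : ℕ, ∃ l < M, (r ^ k)⁻¹ = r ^ l := fun k => by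
    obtain ⟨l, hl, e⟩ := hmod k
    obtain ⟨j, hj, e'⟩ := hmod (M - l)
    refine ⟨j, hj, ?_⟩
    rw [e, ← e', inv_eq_of_mul_eq_one_right]
    rw [← pow_add, Nat.add_sub_cancel' hl.le, hab]
  have hbk : ∀ k : ℕ, b * r ^ k = (r ^ k)⁻¹ * b := fun k => by
    have hbi : b⁻¹ = b := inv_eq_of_mul_eq_one_right hb
    have h1 : b * r * b⁻¹ = r⁻¹ := by
      rw [hr, hbi, _root_.mul_inv_rev, inv_eq_of_mul_eq_one_right ha, hbi, ← mul_assoc b b, hb, one_mul]
    have h2 := conj_pow (i := k) (a := b) (b := r)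
    rw [h1, inv_pow] at h2
    rw [h2, inv_mul_cancel_right]
  have stepb : ∀ x, (∃ k < M, x = r ^ k ∨ x = r ^ k * b) → ∃ k < M, b * x = r ^ k ∨ b * x = r ^ k * b := by
    rintro _ ⟨k, -, rfl | rfl⟩ <;> obtain ⟨l, hl, e⟩ := hinv k
    · exact ⟨l, hl, Or.inr (by rw [hbk, e])⟩
    · exact ⟨l, hl, Or.inl (by rw [← mul_assoc, hbk, e, mul_assoc, hb, mul_one])⟩
  have stepa : ∀ x, (∃ k < M, x = r ^ k ∨ x = r ^ k * b) → ∃ k < M, a * x = r ^ k ∨ a * x = r ^ k * b := by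
    rintro x ⟨k, hk, e⟩
    have ea : a * x = b * (r * x) := by rw [hr, ← mul_assoc, ← mul_assoc, hb, one_mul]
    obtain ⟨l, hl, el⟩ := hmod (k + 1)
    rw [ea]
    refine stepb _ ⟨l, hl, ?_⟩
    rcases e with rfl | rfl
    · exact Or.inl (by rw [← pow_succ', el])
    · exact Or.inr (by rw [← mul_assoc, ← pow_succ', el])
  induction hx using Subgroup.closure_induction_left with
  | one => exact ⟨0, hM, Or.inl (by simp)⟩
  | mul_left g hg y _ ih =>
    rcases hg with rfl | rfl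
    exacts [stepa y ih, stepb y ih]
  | inv_mul_cancel g hg y _ ih =>
    rcases hg with rfl | rfl
    · rw [inv_eq_of_mul_eq_one_right ha]; exact stepa y ih
    · rw [inv_eq_of_mul_eq_one_right hb]; exact stepb y ih

variable {X G : Type*} [Group X] [Group G] [Finite X] {ξ : X →* G} {p : ℕ} [Fact p.Prime]

/-- The kernel of a central extension of a framed group misses the commutator subgroup. -/
theorem PExt.inf_commutator (E : PExt ξ p) (Φ : Frame G) (A : Φ.Axioms p)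
    (hL : ∀ i, ∀ r : ℕ, r.Prime → r ≠ p → ∀ P : Sylow r (Φ.L i),
      Cfsg.HasCyclicSchurMultiplier (P : Subgroup (Φ.L i)) 1) :
    ξ.ker ⊓ commutator X = ⊥ := by
  classical
  haveI : Finite G := Finite.of_surjective ξ E.surj
  have hR'p : ∀ i, IsPGroup p (Φ.R' i) := fun i =>
    ((A.pU.to_le (A.R_le i)).map _)
  have hTR' : ∀ i, ∀ t ∈ Φ.T, ∀ z ∈ Φ.R' i, t * z * t⁻¹ ∈ Φ.R' i := by
    rintro i t ht _ ⟨z, hz, rfl⟩
    have ht' : (Φ.n i)⁻¹ * t * (Φ.n i)⁻¹⁻¹ ∈ Φ.T :=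
      (Subgroup.mem_normalizer_iff.1 (inv_mem (A.n_T i)) t).1 ht
    exact ⟨_, (Subgroup.mem_normalizer_iff.1 (A.T_R i ht') z).1 hz, by simp; group⟩
  have hRc : ∀ i, ∀ g, ξ g ∈ Φ.T → ∀ z ∈ Φ.R i, ξ g * z * (ξ g)⁻¹ ∈ Φ.R i := fun i g hg z hz =>
    (Subgroup.mem_normalizer_iff.1 (A.T_R i hg) z).1 hz
  let Lh : Fin 2 → Subgroup X := fun i => lf ξ p (Φ.R i) ⊔ lf ξ p (Φ.R' i)
  have hLmap : ∀ i, (Lh i).map ξ = Φ.L i := fun i => by
    simp only [Lh, Frame.L, Subgroup.map_sup]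
    rw [(E.lf_spec (A.pU.to_le (A.R_le i))).1.map, (E.lf_spec (hR'p i)).1.map]
  have hLinj : ∀ i, ∀ x ∈ Lh i, ξ x = 1 → x = 1 := fun i x hx => by
    have e : Lh i = Subgroup.closure ({x | PElt p x ∧ ξ x ∈ Φ.R i} ∪ {x | PElt p x ∧ ξ x ∈ Φ.R' i}) :=
      (Subgroup.closure_union _ _).symm
    refine E.inj_of_gen (L := Φ.L i) ?_ (e ▸ hLmap i) (hL i) x (e ▸ hx)
    rintro a (ha | ha) <;> exact ha.1
  have hLlift : ∀ i, ∀ g ∈ Φ.L i, ∃ x ∈ Lh i, ξ x = g := fun i g hg =>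
    Subgroup.mem_map.1 ((hLmap i).symm ▸ hg)
  have hLim : ∀ i, ∀ x ∈ Lh i, ξ x ∈ Φ.L i := fun i x hx => hLmap i ▸ Subgroup.mem_map_of_mem ξ hx
  have hLeq : ∀ i, ∀ x ∈ Lh i, ∀ y ∈ Lh i, ξ x = ξ y → x = y := fun i x hx y hy e =>
    mul_inv_eq_one.1 (hLinj i _ (mul_mem hx (inv_mem hy)) (by rw [map_mul, map_inv, e, mul_inv_cancel]))
  -- conjugation
  have hLconj : ∀ i g, (∀ z ∈ Φ.R i, ξ g * z * (ξ g)⁻¹ ∈ Φ.R i) →
      (∀ z ∈ Φ.R' i, ξ g * z * (ξ g)⁻¹ ∈ Φ.R' i) → ∀ x ∈ Lh i, g * x * g⁻¹ ∈ Lh i := fun i g h h' x hx => by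
    have hle : Lh i ≤ (Lh i).comap (MulAut.conj g).toMonoidHom := sup_le
      (fun y hy => Subgroup.mem_sup_left (lf_conj h hy)) (fun y hy => Subgroup.mem_sup_right (lf_conj h' hy))
    exact hle hx
  have hLT : ∀ i g, ξ g ∈ Φ.T → ∀ x ∈ Lh i, g * x * g⁻¹ ∈ Lh i := fun i g hg =>
    hLconj i g (hRc i g hg) (hTR' i _ hg)
  choose nh hnhL hnh using fun i => hLlift i _ (A.n_mem i)
  -- the torus
  let D' : Fin 2 → Subgroup X := fun i => Lh i ⊓ Φ.T.comap ξ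
  let D : Subgroup X := D' 0 ⊔ D' 1
  have hD'T : ∀ i, ∀ d ∈ D' i, ξ d ∈ Φ.T := fun i d hd => (Subgroup.mem_inf.1 hd).2
  have hDT : ∀ d ∈ D, ξ d ∈ Φ.T := fun d hd =>
    (sup_le (inf_le_right : D' 0 ≤ _) (inf_le_right : D' 1 ≤ _)) hd
  have hcomm : ∀ a ∈ D' 0, ∀ b ∈ D' 1, a * b = b * a := by
    intro a ha b hb
    obtain ⟨ha1, ha2⟩ := Subgroup.mem_inf.1 ha
    obtain ⟨hb1, hb2⟩ := Subgroup.mem_inf.1 hb
    have h0 : ⁅a, b⁆ ∈ Lh 0 := by
      rw [show ⁅a, b⁆ = a * (b * a⁻¹ * b⁻¹) by simp only [commutatorElement_def]; group]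
      exact mul_mem ha1 (hLT 0 b hb2 _ (inv_mem ha1))
    have h1 : ⁅a, b⁆ ∈ Lh 1 := mul_mem (hLT 1 a ha2 b hb1) (inv_mem hb1)
    refine commutatorElement_eq_one_iff_mul_comm.1 (hLinj 0 _ h0 ?_)
    refine A.indep _ (hLim 0 _ h0) (hLim 1 _ h1) ?_
    rw [map_commutatorElement, commutatorElement_def]
    exact mul_mem (mul_mem (mul_mem ha2 hb2) (inv_mem ha2)) (inv_mem hb2)
  have hDdec : ∀ d ∈ D, ∃ a ∈ D' 0, ∃ b ∈ D' 1, d = a * b := by
    intro d hd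
    have hle : D ≤ Subgroup.closure ((D' 0 : Set X) ∪ D' 1) := by
      rw [Subgroup.closure_union, Subgroup.closure_eq, Subgroup.closure_eq]
    induction (hle hd) using Subgroup.closure_induction_left with
    | one => exact ⟨1, one_mem _, 1, one_mem _, by simp⟩
    | mul_left g hg y _ ih =>
      obtain ⟨a, ha, b, hb, rfl⟩ := ih (by
        exact (Subgroup.closure_le _).2 (Set.union_subset (fun x hx => Subgroup.mem_sup_left hx)
          (fun x hx => Subgroup.mem_sup_right hx)) ‹_›)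
      rcases hg with hg | hg
      · exact ⟨g * a, mul_mem hg ha, b, hb, by group⟩
      · exact ⟨a, ha, g * b, mul_mem hg hb, by rw [← mul_assoc, ← hcomm a ha g hg, mul_assoc]⟩
    | inv_mul_cancel g hg y _ ih =>
      obtain ⟨a, ha, b, hb, rfl⟩ := ih (by
        exact (Subgroup.closure_le _).2 (Set.union_subset (fun x hx => Subgroup.mem_sup_left hx)
          (fun x hx => Subgroup.mem_sup_right hx)) ‹_›)
      rcases hg with hg | hg
      · exact ⟨g⁻¹ * a, mul_mem (inv_mem hg) ha, b, hb, by group⟩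
      · exact ⟨a, ha, g⁻¹ * b, mul_mem (inv_mem hg) hb, by
          rw [← mul_assoc, ← hcomm a ha g⁻¹ (inv_mem hg), mul_assoc]⟩
  have hDinj : ∀ d ∈ D, ξ d = 1 → d = 1 := by
    intro d hd e
    obtain ⟨a, ha, b, hb, rfl⟩ := hDdec d hd
    obtain ⟨ha1, ha2⟩ := Subgroup.mem_inf.1 ha
    obtain ⟨hb1, hb2⟩ := Subgroup.mem_inf.1 hb
    rw [map_mul, mul_eq_one_iff_eq_inv] at e
    have h1 := A.indep _ (hLim 0 a ha1) (e ▸ inv_mem (hLim 1 b hb1)) ha2
    rw [hLinj 0 a ha1 h1, one_mul]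
    exact hLinj 1 b hb1 (inv_eq_one.1 (e.symm.trans h1))
  have hnsq : ∀ i, nh i * nh i ∈ D := fun i => by
    have : nh i * nh i ∈ D' i := Subgroup.mem_inf.2 ⟨mul_mem (hnhL i) (hnhL i), by
      rw [Subgroup.mem_comap, map_mul, hnh]; exact A.n_sq i⟩
    fin_cases i
    · exact Subgroup.mem_sup_left this
    · exact Subgroup.mem_sup_right this
  have hD'le : ∀ i, D' i ≤ D := fun i => by
    fin_cases i
    · exact le_sup_left
    · exact le_sup_right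
  have hnD : ∀ j, ∀ d ∈ D, nh j * d * (nh j)⁻¹ ∈ D := by
    intro j d hd
    have key : ∀ i, ∀ d ∈ D' i, nh j * d * (nh j)⁻¹ ∈ D := by
      intro i d hd'
      have hdT := hD'T i d hd'
      have h2 : d⁻¹ * nh j * d * (nh j)⁻¹ ∈ D' j := Subgroup.mem_inf.2
        ⟨mul_mem (by simpa using hLT j d⁻¹ (by rw [map_inv]; exact inv_mem hdT) _ (hnhL j))
          (inv_mem (hnhL j)), by
          rw [Subgroup.mem_comap, map_mul, map_mul, map_mul, map_inv, map_inv, hnh,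
            show (ξ d)⁻¹ * Φ.n j * ξ d * (Φ.n j)⁻¹ = (ξ d)⁻¹ * (Φ.n j * ξ d * (Φ.n j)⁻¹) by group]
          exact mul_mem (inv_mem hdT) ((Subgroup.mem_normalizer_iff.1 (A.n_T j) _).1 hdT)⟩
      rw [show nh j * d * (nh j)⁻¹ = d * (d⁻¹ * nh j * d * (nh j)⁻¹) by group]
      exact mul_mem (hD'le i hd') (hD'le j h2)
    obtain ⟨a, ha, b, hb, rfl⟩ := hDdec d hd
    rw [show nh j * (a * b) * (nh j)⁻¹ = (nh j * a * (nh j)⁻¹) * (nh j * b * (nh j)⁻¹) by group]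
    exact mul_mem (key 0 a ha) (key 1 b hb)
  let Nh : Subgroup X := D ⊔ Subgroup.closure (Set.range nh)
  have hNhN : ∀ x ∈ Nh, ξ x ∈ Φ.N0 := by
    have hle : Nh ≤ Φ.N0.comap ξ := sup_le
      (fun d hd => Subgroup.mem_sup_left (hDT d hd)) ((Subgroup.closure_le _).2 (by
        rintro _ ⟨i, rfl⟩
        show ξ (nh i) ∈ Φ.N0
        rw [hnh]
        exact Subgroup.mem_sup_right (Subgroup.subset_closure ⟨i, rfl⟩)))
    exact fun x hx => hle hx
  have hDnorm : Nh ≤ Subgroup.normalizer (D : Set X) := by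
    refine sup_le Subgroup.le_normalizer ((Subgroup.closure_le _).2 ?_)
    rintro _ ⟨i, rfl⟩
    refine Subgroup.mem_normalizer_iff.2 fun d => ⟨hnD i d, fun h => ?_⟩
    have h1 := mul_mem (mul_mem (inv_mem (hnsq i)) (hnD i _ h)) (hnsq i)
    rwa [show (nh i * nh i)⁻¹ * (nh i * (nh i * d * (nh i)⁻¹) * (nh i)⁻¹) * (nh i * nh i) = d by group] at h1
  -- elements of `Nh` over `T`
  have hNT : ∀ x ∈ Nh, ξ x ∈ Φ.T → x ∈ D := by
    intro x hx hxT
    let DN : Subgroup Nh := D.subgroupOf Nh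
    haveI : DN.Normal := Subgroup.normal_subgroupOf_of_le_normalizer hDnorm
    let π : Nh →* Nh ⧸ DN := QuotientGroup.mk' DN
    have hπ : ∀ (y : Nh), π y = 1 ↔ (y : X) ∈ D := fun y => by
      rw [QuotientGroup.mk'_apply, QuotientGroup.eq_one_iff, Subgroup.mem_subgroupOf]
    let nn : Fin 2 → Nh := fun i => ⟨nh i, Subgroup.mem_sup_right (Subgroup.subset_closure ⟨i, rfl⟩)⟩
    have hsq : ∀ i, π (nn i) * π (nn i) = 1 := fun i => by
      rw [← map_mul, hπ]; exact hnsq i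
    set a := π (nn 0) with hA
    set b := π (nn 1) with hB
    let rr : Nh := nn 1 * nn 0
    let vv : Nh := rr ^ (Φ.h - 1) * nn 1
    have hξrr : ∀ k : ℕ, ξ ((rr : X) ^ k) = Φ.r ^ k := fun k => by
      simp [rr, nn, Frame.r, map_pow, hnh]
    have hξv : ξ (vv : X) = Φ.v := by
      simp [vv, rr, nn, Frame.v, Frame.r, map_pow, hnh]
    have hva : π vv * a * (π vv)⁻¹ * a⁻¹ = 1 := by
      rw [← map_inv, ← map_mul, ← map_mul, ← map_inv, ← map_mul, hπ]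
      refine hD'le 0 (Subgroup.mem_inf.2 ⟨?_, ?_⟩)
      · refine mul_mem (hLconj 0 (vv : X) ?_ ?_ _ (hnhL 0)) (inv_mem (hnhL 0))
        · rw [hξv]; exact A.fix0
        · rw [hξv]; exact A.fix0'
      · show ξ _ ∈ Φ.T
        simp only [Subgroup.coe_mul, Subgroup.coe_inv, map_mul, map_inv, hξv]
        show Φ.v * ξ (nh 0) * Φ.v⁻¹ * (ξ (nh 0))⁻¹ ∈ Φ.T
        rw [hnh]
        exact A.comm0
    have hbinv : ∀ k : ℕ, ((b * a) ^ k * b) * ((b * a) ^ k * b) = 1 := by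
      intro k
      induction k with
      | zero => simpa using hsq 1
      | succ k ih =>
        have e : (b * a) ^ (k + 1) * b = b * a * ((b * a) ^ k * b) := by rw [pow_succ']; group
        have e' : (b * a) ^ (k + 1) * b = ((b * a) ^ k * b) * (a * b) := by rw [pow_succ]; group
        generalize hW : (b * a) ^ k * b = W at ih e e'
        nth_rw 1 [e']
        rw [e, show W * (a * b) * (b * a * W) = W * (a * (b * b) * a) * W by group, hsq 1, mul_one, hsq 0,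
          mul_one, ih]
    have hord : (b * a) ^ (2 * Φ.h) = 1 := by
      have hv : π vv = (b * a) ^ (Φ.h - 1) * b := by simp [vv, rr, a, b]
      have h1 : (b * a) ^ Φ.h = π vv * a := by
        conv_lhs => rw [show Φ.h = Φ.h - 1 + 1 from (Nat.sub_add_cancel A.h_pos).symm, pow_succ]
        rw [hv]; group
      have h2 : π vv * a = a * π vv := mul_inv_eq_iff_eq_mul.1 (mul_inv_eq_one.1 hva)
      rw [two_mul, pow_add, h1]
      nth_rw 2 [h2]
      rw [show π vv * a * (a * π vv) = π vv * (a * a) * π vv by group, hsq 0, mul_one, hv]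
      exact hbinv _
    have hcl : π ⟨x, hx⟩ ∈ Subgroup.closure {a, b} := by
      have hNle : Nh ≤ ((Subgroup.closure {a, b}).comap π).map Nh.subtype := by
        refine sup_le (fun d hd => ?_) ((Subgroup.closure_le _).2 ?_)
        · exact ⟨⟨d, Subgroup.mem_sup_left hd⟩, by
            show π _ ∈ Subgroup.closure {a, b}
            rw [(hπ ⟨d, Subgroup.mem_sup_left hd⟩).2 hd]; exact one_mem _, rfl⟩
        · rintro _ ⟨i, rfl⟩
          refine ⟨nn i, Subgroup.mem_comap.2 (Subgroup.subset_closure ?_), rfl⟩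
          fin_cases i
          · exact Or.inl rfl
          · exact Or.inr rfl
      obtain ⟨y, hy, e⟩ := hNle hx
      rwa [show y = ⟨x, hx⟩ from Subtype.ext e] at hy
    obtain ⟨k, hk, e⟩ := dihedral_elems (hsq 0) (hsq 1) (by have := A.h_pos; omega) hord hcl
    have hT' : ∀ y : Nh, π ⟨x, hx⟩ = π y → ξ (y : X) ∈ Φ.T := by
      intro y hy
      have : π (y⁻¹ * ⟨x, hx⟩) = 1 := by rw [map_mul, map_inv, hy, inv_mul_cancel]
      have h := hDT _ ((hπ _).1 this)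
      simp only [Subgroup.coe_mul, Subgroup.coe_inv, map_mul, map_inv] at h
      have := mul_mem hxT (inv_mem h)
      simpa using this
    rcases e with e | e
    · rcases Nat.eq_zero_or_pos k with rfl | hk0
      · rw [pow_zero] at e
        exact (hπ _).1 e
      · refine absurd ?_ (A.rot k hk0 hk)
        have h := hT' (rr ^ k) (by rw [e]; simp [rr, a, b])
        rwa [SubgroupClass.coe_pow, hξrr] at h
    · refine absurd ?_ (A.refl k hk)
      have h := hT' (rr ^ k * nn 1) (by rw [e]; simp [rr, a, b])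
      simp only [Subgroup.coe_mul, SubgroupClass.coe_pow, map_mul, hξrr] at h
      rwa [show ξ (nn 1 : X) = Φ.n 1 from hnh 1] at h
  -- the Bruhat set
  set UF := lf ξ p Φ.U with hUF
  have hUs := (E.lf_spec A.pU).1
  let Ys : Set X := {x | ∃ u ∈ UF, ∃ ν ∈ Nh, ∃ u' ∈ UF, x = u * ν * u'}
  have hDY : ∀ d ∈ D, ∀ y ∈ Ys, d * y ∈ Ys := by
    rintro d hd _ ⟨u, hu, ν, hν, u', hu', rfl⟩
    refine ⟨d * u * d⁻¹, lf_conj (fun w hw => ?_) hu, d * ν, mul_mem (Subgroup.mem_sup_left hd) hν, u',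
      hu', by group⟩
    exact (Subgroup.mem_normalizer_iff.1 (A.T_U (hDT d hd)) w).1 hw
  have hUY : ∀ w ∈ UF, ∀ y ∈ Ys, w * y ∈ Ys := by
    rintro w hw _ ⟨u, hu, ν, hν, u', hu', rfl⟩
    exact ⟨w * u, mul_mem hw hu, ν, hν, u', hu', by group⟩
  have hnY : ∀ i, ∀ y ∈ Ys, nh i * y ∈ Ys := by
    rintro i _ ⟨u, hu, ν, hν, u', hu', rfl⟩
    have hnN : nh i ∈ Nh := Subgroup.mem_sup_right (Subgroup.subset_closure ⟨i, rfl⟩)
    obtain ⟨u0, hu0, hcu0, z, hz, e⟩ := A.split i _ (hUs.mem hu)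
    obtain ⟨a0, ha0, ea0⟩ := hUs.lift hu0
    obtain ⟨az, haz, eaz⟩ := (E.lf_spec (A.pU.to_le (A.R_le i))).1.lift hz
    have eu : u = a0 * az := hUs.ext hu (mul_mem ha0 (lf_mono (A.R_le i) haz)) (by rw [map_mul, ea0, eaz, e])
    have hw : nh i * a0 * (nh i)⁻¹ ∈ UF := by
      obtain ⟨c, hc, ec⟩ := hUs.lift hcu0
      rw [E.eq_of_pelt (pelt_conj ((E.lf_spec A.pU).2 a0 ha0) (nh i)) ((E.lf_spec A.pU).2 c hc)
        (by rw [map_mul, map_mul, map_inv, hnh, ea0, ec])]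
      exact hc
    suffices h : nh i * az * ν ∈ Ys by
      obtain ⟨p1, hp1, p2, hp2, p3, hp3, e'⟩ := h
      refine ⟨nh i * a0 * (nh i)⁻¹ * p1, mul_mem hw hp1, p2, hp2, p3 * u', mul_mem hp3 hu', ?_⟩
      rw [eu, show nh i * (a0 * az * ν * u') = nh i * a0 * (nh i)⁻¹ * (nh i * az * ν) * u' by group, e']
      group
    have hUconj : ∀ g : X, (∀ w ∈ Φ.R i, (ξ g)⁻¹ * w * ξ g ∈ Φ.U) → ∀ y ∈ lf ξ p (Φ.R i),
        g⁻¹ * y * g ∈ UF := fun g h y hy => by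
      have := lf_conj (g := g⁻¹) (H' := Φ.U) (fun w hw => by rw [map_inv, inv_inv]; exact h w hw) hy
      rwa [inv_inv] at this
    rcases A.dich i _ (hNhN ν hν) with hd | hd
    · exact ⟨1, one_mem _, nh i * ν, mul_mem hnN hν, _, hUconj ν hd az haz, by group⟩
    by_cases hz1 : z = 1
    · have : az = 1 := (E.lf_spec (A.pU.to_le (A.R_le i))).1.inj _ haz (eaz.trans hz1)
      exact ⟨1, one_mem _, nh i * ν, mul_mem hnN hν, 1, one_mem _, by rw [this]; group⟩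
    obtain ⟨a, ha, t, ht, b, hb, er⟩ := A.rank1 i z hz hz1
    obtain ⟨aa, haa, eaa⟩ := (E.lf_spec (A.pU.to_le (A.R_le i))).1.lift ha
    obtain ⟨bb, hbb, ebb⟩ := (E.lf_spec (A.pU.to_le (A.R_le i))).1.lift hb
    have hin : ∀ {w}, w ∈ Φ.R i → w ∈ Φ.L i := fun h => Subgroup.mem_sup_left h
    obtain ⟨d, hd', ed⟩ := hLlift i t (by
      have : t = a⁻¹ * (Φ.n i * z * (Φ.n i)⁻¹) * b⁻¹ * (Φ.n i)⁻¹ := by rw [er]; group
      rw [this]
      exact mul_mem (mul_mem (mul_mem (inv_mem (hin ha)) (mul_mem (mul_mem (A.n_mem i) (hin hz))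
        (inv_mem (A.n_mem i)))) (inv_mem (hin hb))) (inv_mem (A.n_mem i)))
    have hdD : d ∈ D := hD'le i (Subgroup.mem_inf.2 ⟨hd', by rw [Subgroup.mem_comap, ed]; exact ht⟩)
    have hinh : ∀ {w}, w ∈ lf ξ p (Φ.R i) → w ∈ Lh i := fun h => Subgroup.mem_sup_left h
    have eX : nh i * az * (nh i)⁻¹ = aa * d * nh i * bb :=
      hLeq i _ (mul_mem (mul_mem (hnhL i) (hinh haz)) (inv_mem (hnhL i))) _
        (mul_mem (mul_mem (mul_mem (hinh haa) hd') (hnhL i)) (hinh hbb))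
        (by simp only [map_mul, map_inv, hnh, eaz, eaa, ed, ebb, er])
    have hb' : (nh i * ν)⁻¹ * bb * (nh i * ν) ∈ UF :=
      hUconj (nh i * ν) (fun w hw => by rw [map_mul, hnh]; exact hd w hw) bb hbb
    refine ⟨aa, lf_mono (A.R_le i) haa, d * nh i * (nh i * ν),
      mul_mem (mul_mem (Subgroup.mem_sup_left hdD) hnN) (mul_mem hnN hν), _, hb', ?_⟩
    rw [show nh i * az * ν = (nh i * az * (nh i)⁻¹) * (nh i * ν) by group, eX]
    group
  let Y : Subgroup X := UF ⊔ Subgroup.closure (Set.range nh)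
  have hY : ∀ y ∈ Y, y ∈ Ys := by
    intro y hy
    have hle : Y = Subgroup.closure ((UF : Set X) ∪ Set.range nh) := by
      rw [Subgroup.closure_union, Subgroup.closure_eq]
    rw [hle] at hy
    induction hy using Subgroup.closure_induction_left with
    | one => exact ⟨1, one_mem _, 1, one_mem _, 1, one_mem _, by simp⟩
    | mul_left g hg w _ ih =>
      rcases hg with hg | ⟨i, rfl⟩
      exacts [hUY g hg w ih, hnY i w ih]
    | inv_mul_cancel g hg w _ ih =>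
      rcases hg with hg | ⟨i, rfl⟩
      · exact hUY g⁻¹ (inv_mem hg) w ih
      · rw [show (nh i)⁻¹ * w = nh i * ((nh i * nh i)⁻¹ * w) by group]
        exact hnY i _ (hDY _ (inv_mem (hnsq i)) w ih)
  have hYinj : ∀ y ∈ Y, ξ y = 1 → y = 1 := by
    intro y hy e
    obtain ⟨u, hu, ν, hν, u', hu', rfl⟩ := hY y hy
    rw [map_mul, map_mul] at e
    have hνU : ξ ν ∈ Φ.U := by
      rw [show ξ ν = (ξ u)⁻¹ * (ξ u')⁻¹ by
        calc ξ ν = (ξ u)⁻¹ * (ξ u * ξ ν * ξ u') * (ξ u')⁻¹ := by group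
          _ = _ := by rw [e]; group]
      exact mul_mem (inv_mem (hUs.mem hu)) (inv_mem (hUs.mem hu'))
    have hν1 := A.U_N _ hνU (hNhN ν hν)
    have hν' := hDinj ν (hNT ν hν (hν1 ▸ one_mem _)) hν1
    rw [hν', mul_one]
    exact hUs.inj _ (mul_mem hu hu') (by rw [map_mul, ← e, hν1, mul_one])
  have hYmap : ∀ g : G, ∃ y ∈ Y, ξ y = g := by
    have : Y.map ξ = ⊤ := by
      rw [eq_top_iff, ← A.gen]
      simp only [Y, Subgroup.map_sup]
      refine sup_le_sup (hUs.map.ge) ((Subgroup.closure_le _).2 ?_)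
      rintro _ ⟨i, rfl⟩
      exact ⟨nh i, Subgroup.subset_closure ⟨i, rfl⟩, hnh i⟩
    exact fun g => Subgroup.mem_map.1 (this ▸ Subgroup.mem_top g)
  have hXY : commutator X ≤ Y := by
    rw [commutator_def, Subgroup.commutator_le]
    intro x _ y _
    obtain ⟨x', hx', ex⟩ := hYmap (ξ x)
    obtain ⟨y', hy', ey⟩ := hYmap (ξ y)
    rw [comm_congr ξ E.central ex.symm ey.symm]
    exact mul_mem (mul_mem (mul_mem hx' hy') (inv_mem hx')) (inv_mem hy')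
  rw [eq_bot_iff]
  rintro z ⟨hz, hzc⟩
  exact Subgroup.mem_bot.2 (hYinj z (hXY hzc) hz)

end Cfsg.Agent.CentralSection
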