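import Cfsg.Agent.Lib.CentralSection.Main
import Mathlib.GroupTheory.Coxeter.Basic
import Mathlib.GroupTheory.NoncommPiCoprod

/-!
# Any rank

A group generated by a `p`-group `U` and elements `n_i` with a commutative torus, rank one relations
and a Weyl group with a Coxeter presentation (bond orders at most four): the kernel of a perfect
central extension is bounded by the relations between the torus parts of the rank one groups.
-/

set_option autoImplicit false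
set_option linter.unusedSectionVars false
set_option linter.style.haveILetI false

namespace Cfsg.Agent.CentralSection

open scoped commutatorElement

universe u v

/-- the data -/
structure FrameN (G : Type*) [Group G] (m : ℕ) where
  /-- the maximal unipotent subgroup -/
  U : Subgroup G
  /-- the torus -/
  T : Subgroup G
  /-- the root groups -/
  R : Fin m → Subgroup G
  /-- the reflections -/
  n : Fin m → G

/-- a word carrying the first reflection of a bond of order `M` to the one it is braided with -/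
def braidW {m : ℕ} (M : ℕ) (i j : Fin m) : List (Fin m) × Fin m :=
  if M = 2 then ([j], i) else if M = 3 then ([i, j], j) else ([j, i, j], i)

theorem braid_order {Q : Type*} [Group Q] {m : ℕ} (a : Fin m → Q) (ha : ∀ i, a i * a i = 1) {M : ℕ}
    {i j : Fin m} (hM : M = 2 ∨ M = 3 ∨ M = 4)
    (h : ((braidW M i j).1.map a).prod * a i * ((braidW M i j).1.map a).prod⁻¹ = a (braidW M i j).2) :
    (a i * a j) ^ M = 1 := by
  have hi : ∀ i, (a i)⁻¹ = a i := fun i => inv_eq_of_mul_eq_one_right (ha i)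
  rcases hM with rfl | rfl | rfl
  · simp [braidW, hi] at h
    simp only [pow_succ, pow_zero, one_mul]
    calc a i * a j * (a i * a j) = a i * (a j * a i * a j) := by group
      _ = _ := by rw [h, ha]
  · simp [braidW, hi] at h
    simp only [pow_succ, pow_zero, one_mul]
    calc a i * a j * (a i * a j) * (a i * a j) = (a i * a j * a i * (a j * a i)) * a j := by group
      _ = _ := by rw [h, ha]
  · simp [braidW, hi] at h
    simp only [pow_succ, pow_zero, one_mul]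
    calc a i * a j * (a i * a j) * (a i * a j) * (a i * a j) =
          a i * (a j * (a i * a j) * a i * (a j * a i * a j)) := by group
      _ = _ := by rw [h, ha]

namespace FrameN

variable {G : Type*} [Group G] {m : ℕ} (Φ : FrameN G m)

/-- the monomial group -/
def N0 : Subgroup G := Φ.T ⊔ Subgroup.closure (Set.range Φ.n)

theorem n_N0 (i : Fin m) : Φ.n i ∈ Φ.N0 :=
  Subgroup.mem_sup_right (Subgroup.subset_closure ⟨i, rfl⟩)

/-- the opposite root groups -/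
def R' (i : Fin m) : Subgroup G := (Φ.R i).map (MulAut.conj (Φ.n i)).toMonoidHom

/-- the rank one groups -/
def L (i : Fin m) : Subgroup G := Φ.R i ⊔ Φ.R' i

/-- the relations -/
structure Axioms (p : ℕ) (M : CoxeterMatrix (Fin m)) : Prop where
  pU : IsPGroup p Φ.U
  R_le : ∀ i, Φ.R i ≤ Φ.U
  T_U : Φ.T ≤ Subgroup.normalizer (Φ.U : Set G)
  T_R : ∀ i, Φ.T ≤ Subgroup.normalizer (Φ.R i : Set G)
  T_comm : ∀ a ∈ Φ.T, ∀ b ∈ Φ.T, a * b = b * a
  n_T : ∀ i, Φ.n i ∈ Subgroup.normalizer (Φ.T : Set G)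
  n_sq : ∀ i, Φ.n i * Φ.n i ∈ Φ.T
  n_mem : ∀ i, Φ.n i ∈ Φ.L i
  U_N : ∀ x ∈ Φ.U, x ∈ Φ.N0 → x = 1
  split : ∀ i, ∀ u ∈ Φ.U, ∃ u0 ∈ Φ.U, Φ.n i * u0 * (Φ.n i)⁻¹ ∈ Φ.U ∧ ∃ z ∈ Φ.R i, u = u0 * z
  rank1 : ∀ i, ∀ z ∈ Φ.R i, z ≠ 1 →
    ∃ a ∈ Φ.R i, ∃ t ∈ Φ.T, ∃ b ∈ Φ.R i, Φ.n i * z * (Φ.n i)⁻¹ = a * t * Φ.n i * b
  dich : ∀ i, ∀ ν ∈ Φ.N0, (∀ z ∈ Φ.R i, ν⁻¹ * z * ν ∈ Φ.U) ∨
    (∀ z ∈ Φ.R i, (Φ.n i * ν)⁻¹ * z * (Φ.n i * ν) ∈ Φ.U)
  bond : ∀ i j, i ≠ j → M i j = 2 ∨ M i j = 3 ∨ M i j = 4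
  braidR : ∀ i j, i ≠ j → ∀ z ∈ Φ.R i, ((braidW (M i j) i j).1.map Φ.n).prod * z *
    ((braidW (M i j) i j).1.map Φ.n).prod⁻¹ ∈ Φ.R (braidW (M i j) i j).2
  braidN : ∀ i j, i ≠ j → ((braidW (M i j) i j).1.map Φ.n).prod * Φ.n i *
    ((braidW (M i j) i j).1.map Φ.n).prod⁻¹ * (Φ.n (braidW (M i j) i j).2)⁻¹ ∈ Φ.T
  weyl : ∃ φ : Φ.N0 →* M.Group, (∀ i, φ ⟨Φ.n i, Φ.n_N0 i⟩ = M.simple i) ∧
    ∀ (t : G) (ht : t ∈ Φ.T), φ ⟨t, Subgroup.mem_sup_left ht⟩ = 1
  gen : Φ.U ⊔ Subgroup.closure (Set.range Φ.n) = ⊤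

end FrameN

variable {X G : Type*} [Group X] [Group G] [Finite X] {ξ : X →* G} {p : ℕ} [Fact p.Prime] {m : ℕ}

/-- The kernel on the commutator subgroup is bounded by the relations in the torus. -/
theorem PExt.card_inf_le (E : PExt ξ p) (Φ : FrameN G m) {M : CoxeterMatrix (Fin m)} (A : Φ.Axioms p M)
    (hL : ∀ i, ∀ r : ℕ, r.Prime → r ≠ p → ∀ P : Sylow r (Φ.L i),
      Cfsg.HasCyclicSchurMultiplier (P : Subgroup (Φ.L i)) 1) {B : ℕ}
    (hB : ∀ τ : ((i : Fin m) → ↥(Φ.L i ⊓ Φ.T)) →* G,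
      (∀ i t, τ (Pi.mulSingle i t) = (t : G)) → Nat.card τ.ker ≤ B) :
    Nat.card ↥(ξ.ker ⊓ commutator X) ≤ B := by
  classical
  haveI : Finite G := Finite.of_surjective ξ E.surj
  have hR'p : ∀ i, IsPGroup p (Φ.R' i) := fun i =>
    ((A.pU.to_le (A.R_le i)).map _)
  have hTR' : ∀ i, ∀ t ∈ Φ.T, ∀ z ∈ Φ.R' i, t * z * t⁻¹ ∈ Φ.R' i := by
    rintro i t ht _ ⟨z, hz, rfl⟩
    have ht' : (Φ.n i)⁻¹ * t * (Φ.n i)⁻¹⁻¹ ∈ Φ.T :=
      (Subgroup.mem_normalizer_iff.1 (inv_mem (A.n_T i)) t).1 ht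
    exact ⟨_, (Subgroup.mem_normalizer_iff.1 (A.T_R i ht') z).1 hz, by simp; group⟩
  have hRc : ∀ i, ∀ g, ξ g ∈ Φ.T → ∀ z ∈ Φ.R i, ξ g * z * (ξ g)⁻¹ ∈ Φ.R i := fun i g hg z hz =>
    (Subgroup.mem_normalizer_iff.1 (A.T_R i hg) z).1 hz
  let Lh : Fin m → Subgroup X := fun i => lf ξ p (Φ.R i) ⊔ lf ξ p (Φ.R' i)
  have hLmap : ∀ i, (Lh i).map ξ = Φ.L i := fun i => by
    simp only [Lh, FrameN.L, Subgroup.map_sup]
    rw [(E.lf_spec (A.pU.to_le (A.R_le i))).1.map, (E.lf_spec (hR'p i)).1.map]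
  have hLinj : ∀ i, ∀ x ∈ Lh i, ξ x = 1 → x = 1 := fun i x hx => by
    have e : Lh i = Subgroup.closure ({x | PElt p x ∧ ξ x ∈ Φ.R i} ∪ {x | PElt p x ∧ ξ x ∈ Φ.R' i}) :=
      (Subgroup.closure_union _ _).symm
    refine E.inj_of_gen (L := Φ.L i) ?_ (e ▸ hLmap i) (hL i) x (e ▸ hx)
    rintro a (ha | ha) <;> exact ha.1
  have hLlift : ∀ i, ∀ g ∈ Φ.L i, ∃ x ∈ Lh i, ξ x = g := fun i g hg =>
    Subgroup.mem_map.1 ((hLmap i).symm ▸ hg)
  have hLim : ∀ i, ∀ x ∈ Lh i, ξ x ∈ Φ.L i := fun i x hx => hLmap i ▸ Subgroup.mem_map_of_mem ξ hx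
  have hLeq : ∀ i, ∀ x ∈ Lh i, ∀ y ∈ Lh i, ξ x = ξ y → x = y := fun i x hx y hy e =>
    mul_inv_eq_one.1 (hLinj i _ (mul_mem hx (inv_mem hy)) (by rw [map_mul, map_inv, e, mul_inv_cancel]))
  -- conjugation
  have hLconj : ∀ i y g, (∀ z ∈ Φ.R i, ξ g * z * (ξ g)⁻¹ ∈ Φ.R y) →
      (∀ z ∈ Φ.R' i, ξ g * z * (ξ g)⁻¹ ∈ Φ.R' y) → ∀ x ∈ Lh i, g * x * g⁻¹ ∈ Lh y := fun i y g h h' x hx => by
    have hle : Lh i ≤ (Lh y).comap (MulAut.conj g).toMonoidHom := sup_le
      (fun y hy => Subgroup.mem_sup_left (lf_conj h hy)) (fun y hy => Subgroup.mem_sup_right (lf_conj h' hy))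
    exact hle hx
  have hLT : ∀ i g, ξ g ∈ Φ.T → ∀ x ∈ Lh i, g * x * g⁻¹ ∈ Lh i := fun i g hg =>
    hLconj i i g (hRc i g hg) (hTR' i _ hg)
  choose nh hnhL hnh using fun i => hLlift i _ (A.n_mem i)
  -- the torus
  let D' : Fin m → Subgroup X := fun i => Lh i ⊓ Φ.T.comap ξ
  let D : Subgroup X := ⨆ i, D' i
  have hD'T : ∀ i, ∀ d ∈ D' i, ξ d ∈ Φ.T := fun i d hd => (Subgroup.mem_inf.1 hd).2
  have hD'le : ∀ i, D' i ≤ D := fun i => le_iSup D' i
  have hDT : ∀ d ∈ D, ξ d ∈ Φ.T := fun d hd =>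
    (iSup_le (fun i => inf_le_right) : D ≤ Φ.T.comap ξ) hd
  have hcomm : ∀ i j, ∀ a ∈ D' i, ∀ b ∈ D' j, a * b = b * a := by
    intro i j a ha b hb
    obtain ⟨ha1, ha2⟩ := Subgroup.mem_inf.1 ha
    obtain ⟨hb1, hb2⟩ := Subgroup.mem_inf.1 hb
    have h0 : ⁅a, b⁆ ∈ Lh i := by
      rw [show ⁅a, b⁆ = a * (b * a⁻¹ * b⁻¹) by simp only [commutatorElement_def]; group]
      exact mul_mem ha1 (hLT i b hb2 _ (inv_mem ha1))
    refine commutatorElement_eq_one_iff_mul_comm.1 (hLinj i _ h0 ?_)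
    rw [map_commutatorElement, commutatorElement_eq_one_iff_mul_comm]
    exact A.T_comm _ ha2 _ hb2
  have hnsq : ∀ i, nh i * nh i ∈ D := fun i => hD'le i (Subgroup.mem_inf.2
    ⟨mul_mem (hnhL i) (hnhL i), by rw [Subgroup.mem_comap, map_mul, hnh]; exact A.n_sq i⟩)
  have hnD : ∀ j, ∀ d ∈ D, nh j * d * (nh j)⁻¹ ∈ D := by
    intro j d hd
    have key : ∀ i, ∀ d ∈ D' i, nh j * d * (nh j)⁻¹ ∈ D := by
      intro i d hd'
      have hdT := hD'T i d hd'
      have h2 : d⁻¹ * nh j * d * (nh j)⁻¹ ∈ D' j := Subgroup.mem_inf.2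
        ⟨mul_mem (by simpa using hLT j d⁻¹ (by rw [map_inv]; exact inv_mem hdT) _ (hnhL j))
          (inv_mem (hnhL j)), by
          rw [Subgroup.mem_comap, map_mul, map_mul, map_mul, map_inv, map_inv, hnh,
            show (ξ d)⁻¹ * Φ.n j * ξ d * (Φ.n j)⁻¹ = (ξ d)⁻¹ * (Φ.n j * ξ d * (Φ.n j)⁻¹) by group]
          exact mul_mem (inv_mem hdT) ((Subgroup.mem_normalizer_iff.1 (A.n_T j) _).1 hdT)⟩
      rw [show nh j * d * (nh j)⁻¹ = d * (d⁻¹ * nh j * d * (nh j)⁻¹) by group]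
      exact mul_mem (hD'le i hd') (hD'le j h2)
    have hle : D ≤ D.comap (MulAut.conj (nh j)).toMonoidHom := iSup_le key
    exact hle hd
  let Nh : Subgroup X := D ⊔ Subgroup.closure (Set.range nh)
  have hNhN : ∀ x ∈ Nh, ξ x ∈ Φ.N0 := by
    have hle : Nh ≤ Φ.N0.comap ξ := sup_le
      (fun d hd => Subgroup.mem_sup_left (hDT d hd)) ((Subgroup.closure_le _).2 (by
        rintro _ ⟨i, rfl⟩
        show ξ (nh i) ∈ Φ.N0
        rw [hnh]
        exact Subgroup.mem_sup_right (Subgroup.subset_closure ⟨i, rfl⟩)))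
    exact fun x hx => hle hx
  have hDnorm : Nh ≤ Subgroup.normalizer (D : Set X) := by
    refine sup_le Subgroup.le_normalizer ((Subgroup.closure_le _).2 ?_)
    rintro _ ⟨i, rfl⟩
    refine Subgroup.mem_normalizer_iff.2 fun d => ⟨hnD i d, fun h => ?_⟩
    have h1 := mul_mem (mul_mem (inv_mem (hnsq i)) (hnD i _ h)) (hnsq i)
    rwa [show (nh i * nh i)⁻¹ * (nh i * (nh i * d * (nh i)⁻¹) * (nh i)⁻¹) * (nh i * nh i) = d by group] at h1
  -- elements of `Nh` over `T`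
  have hNT : ∀ x ∈ Nh, ξ x ∈ Φ.T → x ∈ D := by
    intro x hx hxT
    let DN : Subgroup Nh := D.subgroupOf Nh
    haveI : DN.Normal := Subgroup.normal_subgroupOf_of_le_normalizer hDnorm
    let π : Nh →* Nh ⧸ DN := QuotientGroup.mk' DN
    have hπ : ∀ (y : Nh), π y = 1 ↔ (y : X) ∈ D := fun y => by
      rw [QuotientGroup.mk'_apply, QuotientGroup.eq_one_iff, Subgroup.mem_subgroupOf]
    let nn : Fin m → Nh := fun i => ⟨nh i, Subgroup.mem_sup_right (Subgroup.subset_closure ⟨i, rfl⟩)⟩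
    let a : Fin m → Nh ⧸ DN := fun i => π (nn i)
    have hsq : ∀ i, a i * a i = 1 := fun i => by
      rw [← map_mul, hπ]; exact hnsq i
    have hord : ∀ i j, (a i * a j) ^ M i j = 1 := by
      intro i j
      by_cases hij : i = j
      · subst hij
        rw [M.diagonal, pow_one, hsq]
      refine braid_order a hsq (A.bond i j hij) ?_
      have hR := A.braidR i j hij
      have hN := A.braidN i j hij
      generalize braidW (M i j) i j = W at hR hN ⊢
      obtain ⟨Ls, y⟩ := W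
      dsimp only at hR hN ⊢
      let νh : Nh := (Ls.map nn).prod
      have eν : ξ (νh : X) = (Ls.map Φ.n).prod := by
        rw [← Subgroup.coe_subtype, ← MonoidHom.comp_apply, map_list_prod, List.map_map]
        exact congrArg List.prod (List.map_congr_left fun k _ => hnh k)
      have ea : (Ls.map a).prod = π νh := by
        rw [map_list_prod, List.map_map]; rfl
      rw [ea, ← mul_inv_eq_one, ← map_inv, ← map_inv, ← map_mul, ← map_mul, ← map_mul, hπ]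
      set ν := (Ls.map Φ.n).prod with hν
      have hR' : ∀ z ∈ Φ.R' i, ν * z * ν⁻¹ ∈ Φ.R' y := by
        rintro _ ⟨z, hz, rfl⟩
        have h := hTR' y _ hN _ ⟨_, hR z hz, rfl⟩
        simp only [MulEquiv.coe_toMonoidHom, MulAut.conj_apply] at h ⊢
        convert h using 1
        group
      have key : ∀ x ∈ Lh i, (νh : X) * x * (νh : X)⁻¹ ∈ Lh y :=
        fun x hx => hLconj i y (νh : X) (by rw [eν]; exact hR) (by rw [eν]; exact hR') x hx
      refine hD'le y (Subgroup.mem_inf.2 ⟨?_, ?_⟩)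
      · exact mul_mem (key _ (hnhL i)) (inv_mem (hnhL y))
      · show ξ ((νh : X) * nh i * (νh : X)⁻¹ * (nh y)⁻¹) ∈ Φ.T
        simp only [map_mul, map_inv, eν, hnh]
        exact hN
    let L0 : M.Group →* Nh ⧸ DN := M.toCoxeterSystem.lift ⟨a, hord⟩
    have hL0 : ∀ i, L0 (M.simple i) = a i := fun i => by
      rw [← M.toCoxeterSystem_simple]; exact M.toCoxeterSystem.lift_apply_simple hord i
    obtain ⟨φ, hφn, hφT⟩ := A.weyl
    let ψ : Nh →* M.Group := φ.comp ((ξ.comp Nh.subtype).codRestrict Φ.N0 fun y => hNhN y.1 y.2)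
    have hψD : DN ≤ ψ.ker := fun y hy => hφT _ (hDT _ hy)
    let ψ' : Nh ⧸ DN →* M.Group := QuotientGroup.lift DN ψ hψD
    have hψa : ∀ i, ψ' (a i) = M.simple i := fun i => by
      show φ ⟨ξ (nh i), _⟩ = _
      rw [← hφn i]
      exact congrArg φ (Subtype.ext (hnh i))
    have hid : ψ'.comp L0 = MonoidHom.id _ := M.toCoxeterSystem.ext_simple fun i => by
      rw [M.toCoxeterSystem_simple, MonoidHom.comp_apply, hL0, hψa, MonoidHom.id_apply]
    have hrange : π ⟨x, hx⟩ ∈ L0.range := by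
      have hNle : Nh ≤ (L0.range.comap π).map Nh.subtype := by
        refine sup_le (fun d hd => ?_) ((Subgroup.closure_le _).2 ?_)
        · exact ⟨⟨d, Subgroup.mem_sup_left hd⟩, by
            show π _ ∈ L0.range
            rw [(hπ ⟨d, Subgroup.mem_sup_left hd⟩).2 hd]; exact one_mem _, rfl⟩
        · rintro _ ⟨i, rfl⟩
          exact ⟨nn i, Subgroup.mem_comap.2 ⟨_, hL0 i⟩, rfl⟩
      obtain ⟨y, hy, e⟩ := hNle hx
      rwa [show y = ⟨x, hx⟩ from Subtype.ext e] at hy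
    obtain ⟨w, hw⟩ := hrange
    have h1 : ψ' (π ⟨x, hx⟩) = 1 := hφT _ hxT
    rw [← hw, ← MonoidHom.comp_apply, hid, MonoidHom.id_apply] at h1
    rw [h1, map_one] at hw
    exact (hπ _).1 hw.symm
  -- the Bruhat set
  set UF := lf ξ p Φ.U with hUF
  have hUs := (E.lf_spec A.pU).1
  let Ys : Set X := {x | ∃ u ∈ UF, ∃ ν ∈ Nh, ∃ u' ∈ UF, x = u * ν * u'}
  have hDY : ∀ d ∈ D, ∀ y ∈ Ys, d * y ∈ Ys := by
    rintro d hd _ ⟨u, hu, ν, hν, u', hu', rfl⟩
    refine ⟨d * u * d⁻¹, lf_conj (fun w hw => ?_) hu, d * ν, mul_mem (Subgroup.mem_sup_left hd) hν, u',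
      hu', by group⟩
    exact (Subgroup.mem_normalizer_iff.1 (A.T_U (hDT d hd)) w).1 hw
  have hUY : ∀ w ∈ UF, ∀ y ∈ Ys, w * y ∈ Ys := by
    rintro w hw _ ⟨u, hu, ν, hν, u', hu', rfl⟩
    exact ⟨w * u, mul_mem hw hu, ν, hν, u', hu', by group⟩
  have hnY : ∀ i, ∀ y ∈ Ys, nh i * y ∈ Ys := by
    rintro i _ ⟨u, hu, ν, hν, u', hu', rfl⟩
    have hnN : nh i ∈ Nh := Subgroup.mem_sup_right (Subgroup.subset_closure ⟨i, rfl⟩)
    obtain ⟨u0, hu0, hcu0, z, hz, e⟩ := A.split i _ (hUs.mem hu)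
    obtain ⟨a0, ha0, ea0⟩ := hUs.lift hu0
    obtain ⟨az, haz, eaz⟩ := (E.lf_spec (A.pU.to_le (A.R_le i))).1.lift hz
    have eu : u = a0 * az := hUs.ext hu (mul_mem ha0 (lf_mono (A.R_le i) haz)) (by rw [map_mul, ea0, eaz, e])
    have hw : nh i * a0 * (nh i)⁻¹ ∈ UF := by
      obtain ⟨c, hc, ec⟩ := hUs.lift hcu0
      rw [E.eq_of_pelt (pelt_conj ((E.lf_spec A.pU).2 a0 ha0) (nh i)) ((E.lf_spec A.pU).2 c hc)
        (by rw [map_mul, map_mul, map_inv, hnh, ea0, ec])]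
      exact hc
    suffices h : nh i * az * ν ∈ Ys by
      obtain ⟨p1, hp1, p2, hp2, p3, hp3, e'⟩ := h
      refine ⟨nh i * a0 * (nh i)⁻¹ * p1, mul_mem hw hp1, p2, hp2, p3 * u', mul_mem hp3 hu', ?_⟩
      rw [eu, show nh i * (a0 * az * ν * u') = nh i * a0 * (nh i)⁻¹ * (nh i * az * ν) * u' by group, e']
      group
    have hUconj : ∀ g : X, (∀ w ∈ Φ.R i, (ξ g)⁻¹ * w * ξ g ∈ Φ.U) → ∀ y ∈ lf ξ p (Φ.R i),
        g⁻¹ * y * g ∈ UF := fun g h y hy => by
      have := lf_conj (g := g⁻¹) (H' := Φ.U) (fun w hw => by rw [map_inv, inv_inv]; exact h w hw) hy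
      rwa [inv_inv] at this
    rcases A.dich i _ (hNhN ν hν) with hd | hd
    · exact ⟨1, one_mem _, nh i * ν, mul_mem hnN hν, _, hUconj ν hd az haz, by group⟩
    by_cases hz1 : z = 1
    · have : az = 1 := (E.lf_spec (A.pU.to_le (A.R_le i))).1.inj _ haz (eaz.trans hz1)
      exact ⟨1, one_mem _, nh i * ν, mul_mem hnN hν, 1, one_mem _, by rw [this]; group⟩
    obtain ⟨a, ha, t, ht, b, hb, er⟩ := A.rank1 i z hz hz1
    obtain ⟨aa, haa, eaa⟩ := (E.lf_spec (A.pU.to_le (A.R_le i))).1.lift ha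
    obtain ⟨bb, hbb, ebb⟩ := (E.lf_spec (A.pU.to_le (A.R_le i))).1.lift hb
    have hin : ∀ {w}, w ∈ Φ.R i → w ∈ Φ.L i := fun h => Subgroup.mem_sup_left h
    obtain ⟨d, hd', ed⟩ := hLlift i t (by
      have : t = a⁻¹ * (Φ.n i * z * (Φ.n i)⁻¹) * b⁻¹ * (Φ.n i)⁻¹ := by rw [er]; group
      rw [this]
      exact mul_mem (mul_mem (mul_mem (inv_mem (hin ha)) (mul_mem (mul_mem (A.n_mem i) (hin hz))
        (inv_mem (A.n_mem i)))) (inv_mem (hin hb))) (inv_mem (A.n_mem i)))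
    have hdD : d ∈ D := hD'le i (Subgroup.mem_inf.2 ⟨hd', by rw [Subgroup.mem_comap, ed]; exact ht⟩)
    have hinh : ∀ {w}, w ∈ lf ξ p (Φ.R i) → w ∈ Lh i := fun h => Subgroup.mem_sup_left h
    have eX : nh i * az * (nh i)⁻¹ = aa * d * nh i * bb :=
      hLeq i _ (mul_mem (mul_mem (hnhL i) (hinh haz)) (inv_mem (hnhL i))) _
        (mul_mem (mul_mem (mul_mem (hinh haa) hd') (hnhL i)) (hinh hbb))
        (by simp only [map_mul, map_inv, hnh, eaz, eaa, ed, ebb, er])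
    have hb' : (nh i * ν)⁻¹ * bb * (nh i * ν) ∈ UF :=
      hUconj (nh i * ν) (fun w hw => by rw [map_mul, hnh]; exact hd w hw) bb hbb
    refine ⟨aa, lf_mono (A.R_le i) haa, d * nh i * (nh i * ν),
      mul_mem (mul_mem (Subgroup.mem_sup_left hdD) hnN) (mul_mem hnN hν), _, hb', ?_⟩
    rw [show nh i * az * ν = (nh i * az * (nh i)⁻¹) * (nh i * ν) by group, eX]
    group
  let Y : Subgroup X := UF ⊔ Subgroup.closure (Set.range nh)
  have hY : ∀ y ∈ Y, y ∈ Ys := by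
    intro y hy
    have hle : Y = Subgroup.closure ((UF : Set X) ∪ Set.range nh) := by
      rw [Subgroup.closure_union, Subgroup.closure_eq]
    rw [hle] at hy
    induction hy using Subgroup.closure_induction_left with
    | one => exact ⟨1, one_mem _, 1, one_mem _, 1, one_mem _, by simp⟩
    | mul_left g hg w _ ih =>
      rcases hg with hg | ⟨i, rfl⟩
      exacts [hUY g hg w ih, hnY i w ih]
    | inv_mul_cancel g hg w _ ih =>
      rcases hg with hg | ⟨i, rfl⟩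
      · exact hUY g⁻¹ (inv_mem hg) w ih
      · rw [show (nh i)⁻¹ * w = nh i * ((nh i * nh i)⁻¹ * w) by group]
        exact hnY i _ (hDY _ (inv_mem (hnsq i)) w ih)
  have hYD : ∀ y ∈ Y, ξ y = 1 → y ∈ D := by
    intro y hy e
    obtain ⟨u, hu, ν, hν, u', hu', rfl⟩ := hY y hy
    rw [map_mul, map_mul] at e
    have hνU : ξ ν ∈ Φ.U := by
      rw [show ξ ν = (ξ u)⁻¹ * (ξ u')⁻¹ by
        calc ξ ν = (ξ u)⁻¹ * (ξ u * ξ ν * ξ u') * (ξ u')⁻¹ := by group
          _ = _ := by rw [e]; group]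
      exact mul_mem (inv_mem (hUs.mem hu)) (inv_mem (hUs.mem hu'))
    have hν1 := A.U_N _ hνU (hNhN ν hν)
    have h1 : u * u' = 1 := hUs.inj _ (mul_mem hu hu') (by
      rw [map_mul, ← e, hν1, mul_one])
    rw [mul_assoc, CentralSection.central ξ E.central hν1 u', ← mul_assoc, h1, one_mul]
    exact hNT ν hν (hν1 ▸ one_mem _)
  have hYmap : ∀ g : G, ∃ y ∈ Y, ξ y = g := by
    have : Y.map ξ = ⊤ := by
      rw [eq_top_iff, ← A.gen]
      simp only [Y, Subgroup.map_sup]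
      refine sup_le_sup (hUs.map.ge) ((Subgroup.closure_le _).2 ?_)
      rintro _ ⟨i, rfl⟩
      exact ⟨nh i, Subgroup.subset_closure ⟨i, rfl⟩, hnh i⟩
    exact fun g => Subgroup.mem_map.1 (this ▸ Subgroup.mem_top g)
  have hXY : commutator X ≤ Y := by
    rw [commutator_def, Subgroup.commutator_le]
    intro x _ y _
    obtain ⟨x', hx', ex⟩ := hYmap (ξ x)
    obtain ⟨y', hy', ey⟩ := hYmap (ξ y)
    rw [comm_congr ξ E.central ex.symm ey.symm]
    exact mul_mem (mul_mem (mul_mem hx' hy') (inv_mem hx')) (inv_mem hy')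
  -- counting
  let μ : ((i : Fin m) → ↥(D' i)) →* X := MonoidHom.noncommPiCoprod (fun i => (D' i).subtype)
    fun i j _ a b => hcomm i j a a.2 b b.2
  let τ : ((i : Fin m) → ↥(Φ.L i ⊓ Φ.T)) →* G :=
    MonoidHom.noncommPiCoprod (fun i => (Φ.L i ⊓ Φ.T).subtype)
      fun i j _ a b => A.T_comm a a.2.2 b b.2.2
  let ι : ((i : Fin m) → ↥(D' i)) →* ((i : Fin m) → ↥(Φ.L i ⊓ Φ.T)) :=
    { toFun := fun d i => ⟨ξ (d i), hLim i _ (d i).2.1, (d i).2.2⟩
      map_one' := funext fun i => Subtype.ext (map_one ξ)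
      map_mul' := fun d e => funext fun i => Subtype.ext (map_mul ξ _ _) }
  have hι : Function.Injective ι := fun d e h => funext fun i => Subtype.ext
    (hLeq i _ (d i).2.1 _ (e i).2.1 (congrArg (fun t => ((t i : ↥(Φ.L i ⊓ Φ.T)) : G)) h))
  have hcomp : τ.comp ι = ξ.comp μ := by
    refine MonoidHom.pi_ext fun i d => ?_
    have e : ι (Pi.mulSingle i d) = Pi.mulSingle i ⟨ξ d, hLim i _ d.2.1, d.2.2⟩ := by
      funext j
      by_cases h : j = i
      · subst h; refine Subtype.ext ?_; simp [ι]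
      · refine Subtype.ext ?_; simp [ι, Pi.mulSingle_eq_of_ne h]
    rw [MonoidHom.comp_apply, MonoidHom.comp_apply, e]
    exact (MonoidHom.noncommPiCoprod_mulSingle _ _ _).trans
      (congrArg ξ (MonoidHom.noncommPiCoprod_mulSingle (fun k => (D' k).subtype) _ _).symm)
  have hμ : μ.range = D := by
    refine (MonoidHom.noncommPiCoprod_range _).trans ?_
    exact iSup_congr fun i => (D' i).range_subtype
  have hsurj : ∀ z : ↥(ξ.ker ⊓ commutator X), ∃ d : (ξ.comp μ).ker, μ d.1 = z.1 := by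
    rintro ⟨z, hz, hzc⟩
    obtain ⟨d, hd⟩ := (hμ.symm ▸ hYD z (hXY hzc) hz : z ∈ μ.range)
    exact ⟨⟨d, by rw [MonoidHom.mem_ker, MonoidHom.comp_apply, hd]; exact hz⟩, hd⟩
  choose f hf using hsurj
  refine le_trans ?_ (hB τ fun i t => MonoidHom.noncommPiCoprod_mulSingle _ _ _)
  refine (Nat.card_le_card_of_injective f fun a b h => Subtype.ext (by rw [← hf a, h, hf b])).trans
    (Nat.card_le_card_of_injective (fun d => (⟨ι d.1, ?_⟩ : τ.ker)) ?_)
  · rw [MonoidHom.mem_ker, ← MonoidHom.comp_apply, hcomp]; exact d.2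
  · exact fun a b h => Subtype.ext (hι (congrArg Subtype.val h))

/-- Central extensions of a perfect framed group. -/
theorem card_inf_of_frame {X : Type u} {G : Type v} [Group X] [Group G] [Finite G]
    (ξ : X →* G) (hs : Function.Surjective ξ) (hc : ξ.ker ≤ Subgroup.center X)
    (hperf : commutator G = ⊤) {p : ℕ} [Fact p.Prime] {m : ℕ} (Φ : FrameN G m)
    {M : CoxeterMatrix (Fin m)} (A : Φ.Axioms p M) (hidx : ¬ p ∣ Φ.U.index)
    (hL : ∀ i, ∀ r : ℕ, r.Prime → r ≠ p → ∀ P : Sylow r (Φ.L i),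
      Cfsg.HasCyclicSchurMultiplier (P : Subgroup (Φ.L i)) 1)
    (hsec : ∀ (Y : Type u) [Group Y] [Finite Y] (η : Y →* G), Function.Surjective η →
      η.ker ≤ Subgroup.center Y → ∃ N : Subgroup Y, IsSection η Φ.U N) {B : ℕ}
    (hB : ∀ τ : ((i : Fin m) → ↥(Φ.L i ⊓ Φ.T)) →* G,
      (∀ i t, τ (Pi.mulSingle i t) = (t : G)) → Nat.card τ.ker ≤ B) :
    Nat.card ↥(ξ.ker ⊓ commutator X) ≤ B := by
  haveI : Finite (commutator X) := Schur.finite_commutator ξ hc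
  let η : commutator X →* G := ξ.comp (commutator X).subtype
  have hηs : Function.Surjective η := fun g => by
    have hg : g ∈ (commutator X).map ξ := by
      rw [_root_.map_commutator_eq, MonoidHom.range_eq_top.2 hs, ← commutator_def, hperf]
      trivial
    obtain ⟨x, hx, rfl⟩ := hg
    exact ⟨⟨x, hx⟩, rfl⟩
  have hηc : η.ker ≤ Subgroup.center _ := fun a ha => Subgroup.mem_center_iff.2 fun b =>
    Subtype.ext (Subgroup.mem_center_iff.1 (hc (show ξ (a : X) = 1 from ha)) b.1)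
  -- it is perfect
  have hperf' : commutator (commutator X) = ⊤ := by
    apply Subgroup.map_injective (commutator X).subtype_injective
    rw [_root_.map_commutator_eq, ← MonoidHom.range_eq_map, Subgroup.range_subtype]
    refine le_antisymm (Subgroup.commutator_le_self _) ?_
    rw [commutator_def, Subgroup.commutator_le]
    intro x _ y _
    obtain ⟨a, ha⟩ := hηs (ξ x)
    obtain ⟨b, hb⟩ := hηs (ξ y)
    rw [comm_congr ξ hc (show ξ x = ξ (a : X) from ha.symm) (show ξ y = ξ (b : X) from hb.symm)]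
    exact Subgroup.commutator_mem_commutator a.2 b.2
  obtain ⟨N, hN⟩ := hsec _ η hηs hηc
  have E : PExt η p := ⟨hηs, hηc, fun z hz hzp =>
    p_part η hηc hηs hN hidx hz (by rw [hperf']; trivial) hzp⟩
  have h := E.card_inf_le Φ A hL hB
  rw [hperf', inf_top_eq] at h
  refine le_trans (le_of_eq (Nat.card_congr ?_)) h
  exact
    { toFun := fun z => ⟨⟨z.1, z.2.2⟩, z.2.1⟩
      invFun := fun z => ⟨z.1.1, z.2, z.1.2⟩
      left_inv := fun _ => rfl
      right_inv := fun _ => rfl }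

end Cfsg.Agent.CentralSection
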