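import Mathlib.GroupTheory.Commutator.Basic
import Mathlib.GroupTheory.QuotientGroup.Basic
import Mathlib.Data.Finite.Card
import Mathlib.Tactic.Group

/-!
# Sections of central extensions

`ξ : X →* G` has central kernel.  A section of a subgroup `H` is a subgroup of `X` meeting the
kernel trivially and mapping onto `H`.  Sections are built along a filtration of `U` normalised by
an abelian group `T`: a layer on which some `t` has no fixed points is lifted by the commutators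
with a lift of `t`, which do not depend on the lifts chosen.
-/

set_option autoImplicit false
set_option linter.unusedSectionVars false
set_option linter.style.haveILetI false

namespace Cfsg.Agent.CentralSection

open scoped commutatorElement

variable {X G : Type*} [Group X] [Group G] (ξ : X →* G)

/-- `S` meets the kernel trivially and maps onto `H`. -/
structure IsSection (H : Subgroup G) (S : Subgroup X) : Prop where
  inj : ∀ x ∈ S, ξ x = 1 → x = 1
  map : S.map ξ = H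

namespace IsSection

variable {ξ} {H : Subgroup G} {S : Subgroup X} (h : IsSection ξ H S)
include h

theorem mem {x : X} (hx : x ∈ S) : ξ x ∈ H := h.map ▸ Subgroup.mem_map_of_mem ξ hx

theorem lift {g : G} (hg : g ∈ H) : ∃ x ∈ S, ξ x = g := by
  rw [← h.map] at hg
  exact Subgroup.mem_map.1 hg

theorem ext {x y : X} (hx : x ∈ S) (hy : y ∈ S) (e : ξ x = ξ y) : x = y :=
  mul_inv_eq_one.1 (h.inj _ (mul_mem hx (inv_mem hy)) (by rw [map_mul, map_inv, e, mul_inv_cancel]))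

/-- restriction of a section -/
theorem restrict {H' : Subgroup G} (hle : H' ≤ H) : IsSection ξ H' (S ⊓ H'.comap ξ) := by
  refine ⟨fun x hx => h.inj x (Subgroup.mem_inf.1 hx).1, le_antisymm ?_ fun g hg => ?_⟩
  · rw [Subgroup.map_le_iff_le_comap]
    exact inf_le_right
  · obtain ⟨x, hx, rfl⟩ := h.lift (hle hg)
    exact Subgroup.mem_map_of_mem ξ (Subgroup.mem_inf.2 ⟨hx, hg⟩)

end IsSection

theorem isSection_bot : IsSection ξ (⊥ : Subgroup G) (⊥ : Subgroup X) :=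
  ⟨fun _ hx _ => Subgroup.mem_bot.1 hx, Subgroup.map_bot _⟩

variable (hc : ξ.ker ≤ Subgroup.center X)
include hc

theorem central {z : X} (e : ξ z = 1) (x : X) : z * x = x * z :=
  (Subgroup.mem_center_iff.1 (hc e) x).symm

/-- conjugation only depends on the image -/
theorem conj_congr {a a' : X} (e : ξ a = ξ a') (x : X) : a * x * a⁻¹ = a' * x * a'⁻¹ := by
  have hz : ξ (a'⁻¹ * a) = 1 := by rw [map_mul, map_inv, e, inv_mul_cancel]
  have := central ξ hc hz x
  calc a * x * a⁻¹ = a' * ((a'⁻¹ * a) * x) * a⁻¹ := by group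
    _ = a' * (x * (a'⁻¹ * a)) * a⁻¹ := by rw [this]
    _ = a' * x * a'⁻¹ := by group

/-- commutators only depend on the images -/
theorem comm_congr {a a' b b' : X} (ea : ξ a = ξ a') (eb : ξ b = ξ b') : ⁅a, b⁆ = ⁅a', b'⁆ := by
  have h1 : ⁅a, b⁆ = ⁅a', b⁆ := by
    rw [commutatorElement_def, commutatorElement_def, conj_congr ξ hc ea]
  have h2 : ⁅b, a'⁆ = ⁅b', a'⁆ := by
    rw [commutatorElement_def, commutatorElement_def, conj_congr ξ hc eb]
  rw [h1, ← commutatorElement_inv, h2, commutatorElement_inv]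

/-- conjugates of commutators -/
theorem conj_comm {a b g a' b' : X} (ea : ξ a' = ξ g * ξ a * (ξ g)⁻¹)
    (eb : ξ b' = ξ g * ξ b * (ξ g)⁻¹) : g * ⁅a, b⁆ * g⁻¹ = ⁅a', b'⁆ := by
  rw [comm_congr ξ hc (a := a') (a' := g * a * g⁻¹) (b := b') (b' := g * b * g⁻¹)
    (by simp [ea]) (by simp [eb])]
  simp only [commutatorElement_def]
  group

variable (hs : Function.Surjective ξ)
include hs

theorem comap_commutator_mem {N : Subgroup X} {U : Subgroup G}
    (hN : U.comap ξ ≤ Subgroup.normalizer (N : Set X)) {x n : X} (hx : ξ x ∈ U) (hn : n ∈ N) :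
    ⁅x, n⁆ ∈ N := by
  rw [commutatorElement_def]
  exact mul_mem ((Subgroup.mem_normalizer_iff.1 (hN hx) n).1 hn) (inv_mem hn)

omit hs in
/-- the elements killed by every element of a layer modulo `N` -/
theorem killed_mul {N : Subgroup X} {U : Subgroup G}
    (hN : U.comap ξ ≤ Subgroup.normalizer (N : Set X)) {a b y : X} (ha : ξ a ∈ U)
    (h1 : ⁅a, y⁆ ∈ N) (h2 : ⁅b, y⁆ ∈ N) : ⁅a * b, y⁆ ∈ N := by
  rw [show ⁅a * b, y⁆ = a * ⁅b, y⁆ * a⁻¹ * ⁅a, y⁆ by simp only [commutatorElement_def]; group]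
  exact mul_mem ((Subgroup.mem_normalizer_iff.1 (hN ha) _).1 h2) h1

omit hs in
theorem killed_inv {N : Subgroup X} {U : Subgroup G}
    (hN : U.comap ξ ≤ Subgroup.normalizer (N : Set X)) {a y : X} (ha : ξ a ∈ U)
    (h1 : ⁅a, y⁆ ∈ N) : ⁅a⁻¹, y⁆ ∈ N := by
  rw [show ⁅a⁻¹, y⁆ = a⁻¹ * ⁅a, y⁆⁻¹ * a⁻¹⁻¹ by simp only [commutatorElement_def]; group]
  exact (Subgroup.mem_normalizer_iff.1 (hN (show ξ a⁻¹ ∈ U by rw [map_inv]; exact inv_mem ha)) _).1 (inv_mem h1)

/-- One layer `V / V'`: sections extend when the layer is central modulo the section and some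
element of the abelian group `T` has no fixed points on it. -/
theorem step [Finite G] {T U V V' : Subgroup G} {N : Subgroup X} (hTab : ∀ a ∈ T, ∀ b ∈ T, a * b = b * a)
    (hV : V ≤ U) (hTV : T ≤ Subgroup.normalizer (V : Set G))
    (hVV : V' ≤ V) (hUV : ∀ u ∈ U, ∀ v ∈ V, ⁅u, v⁆ ∈ V')
    (hN : IsSection ξ V' N) (hNU : U.comap ξ ≤ Subgroup.normalizer (N : Set X))
    (hNT : T.comap ξ ≤ Subgroup.normalizer (N : Set X))
    (hkill : ∀ x y, ξ x ∈ U → ξ y ∈ V → ⁅x, y⁆ ∈ N)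
    {t : G} (ht : t ∈ T) (hfree : ∀ v ∈ V, ⁅t, v⁆ ∈ V' → v ∈ V') :
    ∃ N' : Subgroup X, N ≤ N' ∧ IsSection ξ V N' ∧ U.comap ξ ≤ Subgroup.normalizer (N' : Set X) ∧
      T.comap ξ ≤ Subgroup.normalizer (N' : Set X) := by
  classical
  obtain ⟨τ, hτ⟩ := hs t
  have hVU : ∀ x, ξ x ∈ V → ξ x ∈ U := fun x h => hV h
  have htV : ∀ v ∈ V, ⁅t, v⁆ ∈ V := fun v hv =>
    mul_mem ((Subgroup.mem_normalizer_iff.1 (hTV ht) v).1 hv) (inv_mem hv)
  have conjV : ∀ x, ξ x ∈ V → ∀ n ∈ N, x * n * x⁻¹ ∈ N := fun x hx n hn =>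
    (Subgroup.mem_normalizer_iff.1 (hNU (hVU x hx)) n).1 hn
  let N' : Subgroup X :=
    { carrier := {w | ∃ x, ξ x ∈ V ∧ ∃ n ∈ N, w = ⁅τ, x⁆ * n}
      one_mem' := ⟨1, by simp, 1, one_mem _, by simp⟩
      mul_mem' := by
        rintro _ _ ⟨x, hx, n, hn, rfl⟩ ⟨y, hy, k, hk, rfl⟩
        refine ⟨x * y, by rw [map_mul]; exact mul_mem hx hy, ?_⟩
        set A := ⁅τ, x⁆ with hA
        set B := ⁅τ, y⁆ with hB
        have hBV : ξ B ∈ V := by rw [hB, map_commutatorElement, hτ]; exact htV _ hy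
        have h1 : x * B * x⁻¹ * B⁻¹ ∈ N := by
          rw [← commutatorElement_def]; exact hkill _ _ (hVU x hx) hBV
        refine ⟨(x * B * x⁻¹)⁻¹ * (n * B) * k, mul_mem ?_ hk, ?_⟩
        · have e : (x * B * x⁻¹)⁻¹ * (n * B) = B⁻¹ * ((x * B * x⁻¹ * B⁻¹)⁻¹ * n) * B⁻¹⁻¹ := by group
          rw [e]
          exact conjV B⁻¹ (by rw [map_inv]; exact inv_mem hBV) _ (mul_mem (inv_mem h1) hn)
        · rw [show ⁅τ, x * y⁆ = A * (x * B * x⁻¹) by rw [hA, hB]; simp only [commutatorElement_def]; group]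
          group
      inv_mem' := by
        rintro _ ⟨x, hx, n, hn, rfl⟩
        refine ⟨x⁻¹, by rw [map_inv]; exact inv_mem hx, ?_⟩
        set A := ⁅τ, x⁆ with hA
        have hAV : ξ A ∈ V := by rw [hA, map_commutatorElement, hτ]; exact htV _ hx
        have h1 : x⁻¹ * A⁻¹ * x⁻¹⁻¹ * A⁻¹⁻¹ ∈ N := by
          rw [← commutatorElement_def]
          exact hkill _ _ (hVU _ (by rw [map_inv]; exact inv_mem hx)) (by rw [map_inv]; exact inv_mem hAV)
        refine ⟨(x⁻¹ * A⁻¹ * x)⁻¹ * (n⁻¹ * A⁻¹), ?_, ?_⟩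
        · have e : (x⁻¹ * A⁻¹ * x)⁻¹ * (n⁻¹ * A⁻¹) =
              A * ((x⁻¹ * A⁻¹ * x⁻¹⁻¹ * A⁻¹⁻¹)⁻¹ * n⁻¹) * A⁻¹ := by group
          rw [e]
          exact conjV A hAV _ (mul_mem (inv_mem h1) (inv_mem hn))
        · rw [show ⁅τ, x⁻¹⁆ = x⁻¹ * A⁻¹ * x by rw [hA]; simp only [commutatorElement_def]; group]
          group }
  have hmem : ∀ w, w ∈ N' ↔ ∃ x, ξ x ∈ V ∧ ∃ n ∈ N, w = ⁅τ, x⁆ * n := fun w => Iff.rfl
  have hNN' : N ≤ N' := fun n hn => (hmem n).2 ⟨1, by simp, n, hn, by simp⟩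
  have hinj : ∀ w ∈ N', ξ w = 1 → w = 1 := by
    intro w hw e
    obtain ⟨x, hx, n, hn, rfl⟩ := (hmem w).1 hw
    rw [map_mul, map_commutatorElement, hτ, mul_eq_one_iff_eq_inv] at e
    have hx' : ξ x ∈ V' := hfree _ hx (e ▸ inv_mem (hN.mem hn))
    obtain ⟨k, hk, ek⟩ := hN.lift hx'
    have hc' : ⁅τ, x⁆ ∈ N := by
      rw [comm_congr ξ hc (a := τ) (a' := τ) (b := x) (b' := k) rfl ek.symm, commutatorElement_def]
      exact mul_mem ((Subgroup.mem_normalizer_iff.1 (hNT (show ξ τ ∈ T from hτ ▸ ht)) k).1 hk)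
        (inv_mem hk)
    exact hN.inj _ (mul_mem hc' hn) (by rw [map_mul, map_commutatorElement, hτ, e, inv_mul_cancel])
  have hmap : N'.map ξ = V := by
    refine le_antisymm ?_ fun v hv => ?_
    · rintro _ ⟨w, hw, rfl⟩
      obtain ⟨x, hx, n, hn, rfl⟩ := (hmem w).1 hw
      rw [map_mul, map_commutatorElement, hτ]
      exact mul_mem (htV _ hx) (hVV (hN.mem hn))
    -- the commutator map is a bijection on the layer
    have hUV' : ∀ {a : V}, a ∈ V'.subgroupOf V → ⁅t, (a : G)⁆ ∈ V' := fun {a} ha => by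
      obtain ⟨k, hk, ek⟩ := hN.lift (Subgroup.mem_subgroupOf.1 ha)
      rw [← ek, ← hτ, ← map_commutatorElement]
      refine hN.mem ?_
      rw [commutatorElement_def]
      exact mul_mem ((Subgroup.mem_normalizer_iff.1 (hNT (show ξ τ ∈ T from hτ ▸ ht)) k).1 hk)
        (inv_mem hk)
    haveI hnorm : (V'.subgroupOf V).Normal := ⟨fun a ha b => by
      rw [Subgroup.mem_subgroupOf] at ha ⊢
      push_cast
      rw [show (b : G) * a * (b : G)⁻¹ = ⁅(b : G), (a : G)⁆ * a by simp [commutatorElement_def]]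
      exact mul_mem (hUV _ (hV b.2) _ a.2) ha⟩
    let f : V → V ⧸ V'.subgroupOf V := fun v => QuotientGroup.mk ⟨⁅t, (v : G)⁆, htV _ v.2⟩
    let fh : V →* V ⧸ V'.subgroupOf V := MonoidHom.mk' f fun a b => by
      show QuotientGroup.mk (s := V'.subgroupOf V) _ = QuotientGroup.mk _ * QuotientGroup.mk _
      rw [← QuotientGroup.mk_mul, QuotientGroup.eq, Subgroup.mem_subgroupOf]
      have h2 := hUV _ (hV a.2) _ (htV _ b.2)
      push_cast
      rw [show (⁅t, (a : G) * b⁆)⁻¹ * (⁅t, (a : G)⁆ * ⁅t, (b : G)⁆) =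
        (⁅t, (b : G)⁆)⁻¹ * (⁅(a : G), ⁅t, (b : G)⁆⁆)⁻¹ * ⁅t, (b : G)⁆ by
          simp only [commutatorElement_def]; group]
      set c := ⁅t, (b : G)⁆ with hcd
      have h3 := hUV _ (hV (inv_mem (htV _ b.2))) _ (hVV (inv_mem h2))
      rw [show c⁻¹ * (⁅(a : G), c⁆)⁻¹ * c = ⁅c⁻¹, (⁅(a : G), c⁆)⁻¹⁆ * (⁅(a : G), c⁆)⁻¹ by
        simp only [commutatorElement_def]; group]
      exact mul_mem h3 (inv_mem h2)
    have hker : V'.subgroupOf V ≤ fh.ker := fun a ha => by
      rw [MonoidHom.mem_ker]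
      show QuotientGroup.mk (s := V'.subgroupOf V) _ = 1
      rw [QuotientGroup.eq_one_iff, Subgroup.mem_subgroupOf]
      exact hUV' ha
    let fq : V ⧸ V'.subgroupOf V →* V ⧸ V'.subgroupOf V := QuotientGroup.lift _ fh hker
    have hfq : Function.Injective fq := by
      rw [injective_iff_map_eq_one]
      intro a ha
      obtain ⟨b, rfl⟩ := QuotientGroup.mk_surjective a
      rw [QuotientGroup.lift_mk] at ha
      have := (QuotientGroup.eq_one_iff _).1 (show QuotientGroup.mk (s := V'.subgroupOf V) _ = 1 from ha)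
      rw [QuotientGroup.eq_one_iff, Subgroup.mem_subgroupOf]
      exact hfree _ b.2 this
    haveI : Finite (V ⧸ V'.subgroupOf V) := Quotient.finite _
    obtain ⟨a, ha⟩ := (Finite.injective_iff_surjective.1 hfq) (QuotientGroup.mk ⟨v, hv⟩)
    obtain ⟨b, rfl⟩ := QuotientGroup.mk_surjective a
    rw [QuotientGroup.lift_mk] at ha
    have h4 : (⁅t, (b : G)⁆)⁻¹ * v ∈ V' := by
      have := (QuotientGroup.eq (s := V'.subgroupOf V)).1 ha
      exact this
    obtain ⟨n, hn, en⟩ := hN.lift h4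
    obtain ⟨x, hx⟩ := hs b
    refine ⟨⁅τ, x⁆ * n, (hmem _).2 ⟨x, hx ▸ b.2, n, hn, rfl⟩, ?_⟩
    rw [map_mul, map_commutatorElement, hτ, hx, en, mul_inv_cancel_left]
  refine ⟨N', hNN', ⟨hinj, hmap⟩, ?_, ?_⟩
  · intro e he
    have key : ∀ e, ξ e ∈ U → ∀ w ∈ N', e * w * e⁻¹ ∈ N' := fun e he w hw => by
      have : ξ w ∈ V := hmap ▸ Subgroup.mem_map_of_mem ξ hw
      have h1 := hNN' (hkill e w he this)
      rw [show e * w * e⁻¹ = ⁅e, w⁆ * w by simp [commutatorElement_def]]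
      exact mul_mem h1 hw
    refine Subgroup.mem_normalizer_iff.2 fun w => ⟨key e he w, fun h => ?_⟩
    have := key e⁻¹ (by rw [map_inv]; exact inv_mem he) _ h
    simpa [mul_assoc] using this
  · intro s hs'
    have key : ∀ s, ξ s ∈ T → ∀ w ∈ N', s * w * s⁻¹ ∈ N' := fun s hs' w hw => by
      obtain ⟨x, hx, n, hn, rfl⟩ := (hmem w).1 hw
      refine (hmem _).2 ⟨s * x * s⁻¹, ?_, s * n * s⁻¹,
        (Subgroup.mem_normalizer_iff.1 (hNT hs') n).1 hn, ?_⟩
      · rw [map_mul, map_mul, map_inv]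
        exact (Subgroup.mem_normalizer_iff.1 (hTV hs') _).1 hx
      · rw [← conj_comm ξ hc (a := τ) (b := x) (g := s) (a' := τ) (b' := s * x * s⁻¹)
          (by rw [hτ, hTab _ hs' _ ht, mul_inv_cancel_right]) (by simp)]
        group
    refine Subgroup.mem_normalizer_iff.2 fun w => ⟨key s hs' w, fun h => ?_⟩
    have := key s⁻¹ (by rw [map_inv]; exact inv_mem hs') _ h
    simpa [mul_assoc] using this

end Cfsg.Agent.CentralSection
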