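import Cfsg.Agent.Lib.CentralSection.Basic
import Mathlib.GroupTheory.QuotientGroup.Basic

/-!
# Lifts centralised through a fixed element

When `y` is central among the lifts of a group and an element `d` fixes `y`, the commutators of `d`
with the group commute with `y`.  An element acting with `τ³ = τ + 1` on an abelian layer kills the
commutators of its lifts.
-/

set_option autoImplicit false
set_option linter.unusedSectionVars false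
set_option linter.style.haveILetI false

namespace Cfsg.Agent.CentralSection

open scoped commutatorElement

section Abstract

variable {P : Type*} [Group P]

theorem fixed_kill {d h y : P} (h1 : ⁅h, y⁆ ∈ Subgroup.center P) (h2 : ⁅d, y⁆ ∈ Subgroup.center P) :
    ⁅⁅d, h⁆, y⁆ = 1 := by
  set c := ⁅h, y⁆ with hc
  set z := ⁅d, y⁆ with hz
  have cc := Subgroup.mem_center_iff.1 h1
  have cz := Subgroup.mem_center_iff.1 (inv_mem h2)
  have e1 : d⁻¹ * y * d = z⁻¹ * y := by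
    calc d⁻¹ * y * d = d⁻¹ * (y * d) := by group
      _ = d⁻¹ * (z⁻¹ * d * y) := by rw [hz, commutatorElement_def]; group
      _ = z⁻¹ * y := by rw [← cz d]; group
  have e2 : h * y * h⁻¹ = c * y := by rw [hc, commutatorElement_def]; group
  have e3 : d * h * d⁻¹ * y * (d * h * d⁻¹)⁻¹ = c * y := by
    calc d * h * d⁻¹ * y * (d * h * d⁻¹)⁻¹ = d * (h * (d⁻¹ * y * d) * h⁻¹) * d⁻¹ := by group
      _ = d * (h * (z⁻¹ * y) * h⁻¹) * d⁻¹ := by rw [e1]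
      _ = d * (z⁻¹ * (h * y * h⁻¹)) * d⁻¹ := by
        rw [show h * (z⁻¹ * y) * h⁻¹ = (h * z⁻¹) * y * h⁻¹ by group, cz h]; group
      _ = (d * z⁻¹) * c * y * d⁻¹ := by rw [e2]; group
      _ = z⁻¹ * (d * c) * y * d⁻¹ := by rw [cz d]; group
      _ = z⁻¹ * c * (d * y * d⁻¹) := by rw [cc d]; group
      _ = z⁻¹ * c * (z * y) := by rw [hz, commutatorElement_def]; group
      _ = c * y := by rw [cc z⁻¹]; group
  have e4 : h⁻¹ * y * h = c⁻¹ * y := by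
    calc h⁻¹ * y * h = h⁻¹ * (y * h) := by group
      _ = h⁻¹ * (c⁻¹ * h * y) := by rw [hc, commutatorElement_def]; group
      _ = c⁻¹ * y := by rw [← Subgroup.mem_center_iff.1 (inv_mem h1) h]; group
  rw [commutatorElement_eq_one_iff_mul_comm]
  have key : ⁅d, h⁆ * y * ⁅d, h⁆⁻¹ = y := by
    calc ⁅d, h⁆ * y * ⁅d, h⁆⁻¹ = d * h * d⁻¹ * (h⁻¹ * y * h) * (d * h * d⁻¹)⁻¹ := by
          rw [commutatorElement_def]; group
      _ = d * h * d⁻¹ * c⁻¹ * y * (d * h * d⁻¹)⁻¹ := by rw [e4]; group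
      _ = c⁻¹ * (d * h * d⁻¹ * y * (d * h * d⁻¹)⁻¹) := by
        rw [Subgroup.mem_center_iff.1 (inv_mem h1) (d * h * d⁻¹)]; group
      _ = y := by rw [e3, inv_mul_cancel_left]
  exact mul_inv_eq_iff_eq_mul.1 key

theorem rel_kill {τ : P} {H : Subgroup P} (hτ : ∀ a, τ * a * τ⁻¹ ∈ H ↔ a ∈ H)
    (hcent : ∀ a ∈ H, ∀ b ∈ H, ⁅a, b⁆ ∈ Subgroup.center P)
    (hrel : ∀ a ∈ H, ∀ b ∈ H, ⁅a, (τ * b * τ⁻¹ * b)⁻¹ * (τ ^ 3 * b * (τ ^ 3)⁻¹)⁆ = 1) :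
    ∀ a ∈ H, ∀ b ∈ H, ⁅a, b⁆ = 1 := by
  have hmulr : ∀ a ∈ H, ∀ b ∈ H, ∀ c ∈ H, ⁅a, b * c⁆ = ⁅a, b⁆ * ⁅a, c⁆ := fun a ha b hb c hc => by
    have h := Subgroup.mem_center_iff.1 (hcent a ha c hc) b
    calc ⁅a, b * c⁆ = ⁅a, b⁆ * (b * ⁅a, c⁆ * b⁻¹) := by simp only [commutatorElement_def]; group
      _ = ⁅a, b⁆ * ⁅a, c⁆ := by rw [h, mul_inv_cancel_right]
  have hmull : ∀ a ∈ H, ∀ b ∈ H, ∀ c ∈ H, ⁅a * b, c⁆ = ⁅a, c⁆ * ⁅b, c⁆ := fun a ha b hb c hc => by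
    have h := Subgroup.mem_center_iff.1 (hcent b hb c hc) a
    have h' := Subgroup.mem_center_iff.1 (hcent a ha c hc) ⁅b, c⁆
    calc ⁅a * b, c⁆ = (a * ⁅b, c⁆ * a⁻¹) * ⁅a, c⁆ := by simp only [commutatorElement_def]; group
      _ = _ := by rw [h, mul_inv_cancel_right, h']
  have hinv : ∀ a ∈ H, ∀ b ∈ H, ⁅τ * a * τ⁻¹, τ * b * τ⁻¹⁆ = ⁅a, b⁆ := fun a ha b hb => by
    rw [show ⁅τ * a * τ⁻¹, τ * b * τ⁻¹⁆ = τ * ⁅a, b⁆ * τ⁻¹ by simp only [commutatorElement_def]; group,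
      Subgroup.mem_center_iff.1 (hcent a ha b hb) τ, mul_inv_cancel_right]
  have h3 : ∀ a ∈ H, τ ^ 3 * a * (τ ^ 3)⁻¹ ∈ H := fun a ha => by
    have := (hτ _).2 ((hτ _).2 ((hτ a).2 ha))
    rwa [show τ ^ 3 * a * (τ ^ 3)⁻¹ = τ * (τ * (τ * a * τ⁻¹) * τ⁻¹) * τ⁻¹ by
        simp only [pow_succ, pow_zero]; group]
  have hrel' : ∀ a ∈ H, ∀ b ∈ H, ⁅a, τ ^ 3 * b * (τ ^ 3)⁻¹⁆ = ⁅a, τ * b * τ⁻¹⁆ * ⁅a, b⁆ := by
    intro a ha b hb
    have htb := (hτ b).2 hb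
    have e : τ ^ 3 * b * (τ ^ 3)⁻¹ =
        τ * b * τ⁻¹ * b * ((τ * b * τ⁻¹ * b)⁻¹ * (τ ^ 3 * b * (τ ^ 3)⁻¹)) := by group
    conv_lhs => rw [e]
    rw [hmulr a ha _ (mul_mem htb hb) _ (mul_mem (inv_mem (mul_mem htb hb)) (h3 b hb)),
      hrel a ha b hb, mul_one, hmulr a ha _ htb _ hb]
  intro a ha b' hb'
  -- `b' = τ⁴ b`
  set b := (τ ^ 4)⁻¹ * b' * τ ^ 4 with hbdef
  have hti : ∀ x ∈ H, τ⁻¹ * x * τ ∈ H := fun x hx => (hτ _).1 (by simpa [mul_assoc] using hx)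
  have hb : b ∈ H := by
    have := hti _ (hti _ (hti _ (hti _ hb')))
    rwa [show b = τ⁻¹ * (τ⁻¹ * (τ⁻¹ * (τ⁻¹ * b' * τ) * τ) * τ) * τ by
      rw [hbdef]; simp only [pow_succ, pow_zero]; group]
  set b1 := τ * b * τ⁻¹ with hb1
  have hb1H : b1 ∈ H := (hτ b).2 hb
  have e4 : b' = τ ^ 3 * b1 * (τ ^ 3)⁻¹ := by rw [hb1, hbdef]; group
  rw [e4, hrel' a ha b1 hb1H]
  have c3 : ⁅τ ^ 3 * a * (τ ^ 3)⁻¹, τ ^ 3 * b * (τ ^ 3)⁻¹⁆ = ⁅a, b⁆ := by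
    rw [show τ ^ 3 * a * (τ ^ 3)⁻¹ = τ * (τ * (τ * a * τ⁻¹) * τ⁻¹) * τ⁻¹ by
        simp only [pow_succ, pow_zero]; group,
      show τ ^ 3 * b * (τ ^ 3)⁻¹ = τ * (τ * (τ * b * τ⁻¹) * τ⁻¹) * τ⁻¹ by
        simp only [pow_succ, pow_zero]; group,
      hinv _ ((hτ _).2 ((hτ _).2 ha)) _ ((hτ _).2 ((hτ _).2 hb)),
      hinv _ ((hτ _).2 ha) _ ((hτ _).2 hb), hinv _ ha _ hb]
  have cl : ∀ c ∈ H, ⁅τ ^ 3 * a * (τ ^ 3)⁻¹, c⁆ = ⁅τ * a * τ⁻¹, c⁆ * ⁅a, c⁆ := by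
    intro c hc
    rw [← commutatorElement_inv c (τ ^ 3 * a * (τ ^ 3)⁻¹), hrel' c hc a ha, mul_inv_rev,
      commutatorElement_inv, commutatorElement_inv]
    exact Subgroup.mem_center_iff.1 (hcent _ ((hτ _).2 ha) c hc) _
  have e3 : τ ^ 3 * b * (τ ^ 3)⁻¹ = τ * (τ * b1 * τ⁻¹) * τ⁻¹ := by
    rw [hb1]; simp only [pow_succ, pow_zero]; group
  have h := cl _ (h3 b hb)
  rw [c3, hrel' a ha b hb, e3, hinv a ha _ ((hτ _).2 hb1H), ← hb1, ← mul_assoc, eq_comm,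
    mul_eq_right] at h
  exact h

end Abstract

section Lifts

variable {X G : Type*} [Group X] [Group G] (ξ : X →* G) (hc : ξ.ker ≤ Subgroup.center X)

/-- the image of the centraliser of `y` -/
def Cg (y : X) : Subgroup G := (Subgroup.centralizer {y}).map ξ

include hc

theorem Cg_commute {y x : X} (h : ξ x ∈ Cg ξ y) : ⁅x, y⁆ = 1 := by
  obtain ⟨c, hcy, e⟩ := h
  rw [comm_congr ξ hc (a := x) (a' := c) (b := y) (b' := y) e.symm rfl,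
    commutatorElement_eq_one_iff_mul_comm]
  exact Subgroup.mem_centralizer_singleton_iff.1 hcy

/-- a commutator with an element fixing `y` commutes with `y` -/
theorem comm_mem_Cg (hs : Function.Surjective ξ) {y : X} {t g : G}
    (hg : g * ξ y = ξ y * g) (ht : t * ξ y = ξ y * t) : ⁅t, g⁆ ∈ Cg ξ y := by
  obtain ⟨τ, rfl⟩ := hs t
  obtain ⟨h, rfl⟩ := hs g
  refine ⟨⁅τ, h⁆, Subgroup.mem_centralizer_singleton_iff.2 ?_, map_commutatorElement ξ τ h⟩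
  have hk : ∀ a : X, ξ a * ξ y = ξ y * ξ a → ⁅a, y⁆ ∈ Subgroup.center X := fun a e => hc (by
    rw [MonoidHom.mem_ker, map_commutatorElement, commutatorElement_eq_one_iff_mul_comm, e])
  exact commutatorElement_eq_one_iff_mul_comm.1 (fixed_kill (hk h hg) (hk τ ht))

/-- the same modulo a section -/
theorem fixed_kill_mod {N : Subgroup X} {d h y : X} (hd : d ∈ Subgroup.normalizer (N : Set X))
    (hh : h ∈ Subgroup.normalizer (N : Set X)) (hy : y ∈ Subgroup.normalizer (N : Set X))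
    (h1 : ∃ n ∈ N, ξ ⁅h, y⁆ = ξ n) (h2 : ∃ n ∈ N, ξ ⁅d, y⁆ = ξ n) : ⁅⁅d, h⁆, y⁆ ∈ N := by
  let D := Subgroup.normalizer (N : Set X)
  haveI : (N.subgroupOf D).Normal := Subgroup.normal_subgroupOf_of_le_normalizer le_rfl
  let π : D →* D ⧸ N.subgroupOf D := QuotientGroup.mk' _
  have hcent : ∀ a : D, (∃ n ∈ N, ξ (a : X) = ξ n) → π a ∈ Subgroup.center _ := by
    rintro a ⟨n, hn, e⟩
    have hz : (n⁻¹ * a : X) ∈ Subgroup.center X := hc (by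
      rw [MonoidHom.mem_ker, map_mul, map_inv, e, inv_mul_cancel])
    let n' : D := ⟨n, Subgroup.le_normalizer hn⟩
    have ea : π a = π (n'⁻¹ * a) := by
      rw [map_mul, map_inv, show π n' = 1 from (QuotientGroup.eq_one_iff _).2 hn, inv_one, one_mul]
    rw [ea, Subgroup.mem_center_iff]
    intro g
    obtain ⟨b, rfl⟩ := QuotientGroup.mk'_surjective _ g
    rw [← map_mul, ← map_mul]
    exact congrArg π (Subtype.ext (Subgroup.mem_center_iff.1 hz (b : X)))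
  let d' : D := ⟨d, hd⟩
  let h' : D := ⟨h, hh⟩
  let y' : D := ⟨y, hy⟩
  have k1 := hcent ⁅h', y'⁆ h1
  have k2 := hcent ⁅d', y'⁆ h2
  rw [map_commutatorElement] at k1 k2
  have k := fixed_kill k1 k2
  rw [← map_commutatorElement, ← map_commutatorElement] at k
  exact Subgroup.mem_subgroupOf.1 ((QuotientGroup.eq_one_iff (N := N.subgroupOf D) _).1 k)

/-- the relation argument modulo a section -/
theorem rel_kill_mod {N H : Subgroup X} {τ : X} (hτN : τ ∈ Subgroup.normalizer (N : Set X))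
    (hHN : H ≤ Subgroup.normalizer (N : Set X)) (hτ : ∀ a, τ * a * τ⁻¹ ∈ H ↔ a ∈ H)
    (hcent : ∀ a ∈ H, ∀ b ∈ H, ∃ n ∈ N, ξ ⁅a, b⁆ = ξ n)
    (hrel : ∀ a ∈ H, ∀ b ∈ H, ⁅a, (τ * b * τ⁻¹ * b)⁻¹ * (τ ^ 3 * b * (τ ^ 3)⁻¹)⁆ ∈ N) :
    ∀ a ∈ H, ∀ b ∈ H, ⁅a, b⁆ ∈ N := by
  let D := Subgroup.normalizer (N : Set X)
  haveI : (N.subgroupOf D).Normal := Subgroup.normal_subgroupOf_of_le_normalizer le_rfl
  let π : D →* D ⧸ N.subgroupOf D := QuotientGroup.mk' _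
  let τ' : D := ⟨τ, hτN⟩
  let H' := (H.subgroupOf D).map π
  have hH' : ∀ g, g ∈ H' ↔ ∃ a, ∃ ha : a ∈ H, π ⟨a, hHN ha⟩ = g := fun g =>
    ⟨fun ⟨a, ha, e⟩ => ⟨a, ha, e⟩, fun ⟨a, ha, e⟩ => ⟨⟨a, hHN ha⟩, ha, e⟩⟩
  have key := rel_kill (τ := π τ') (H := H') (fun g => ?_) (fun g hg g' hg' => ?_) fun g hg g' hg' => ?_
  · intro a ha b hb
    have h := key _ ((hH' _).2 ⟨a, ha, rfl⟩) _ ((hH' _).2 ⟨b, hb, rfl⟩)
    rw [← map_commutatorElement] at h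
    exact Subgroup.mem_subgroupOf.1 ((QuotientGroup.eq_one_iff (N := N.subgroupOf D) _).1 h)
  · constructor
    · intro hg
      obtain ⟨a, ha, e⟩ := (hH' _).1 hg
      have hb : τ⁻¹ * a * τ ∈ H := (hτ _).1 (by simpa [mul_assoc] using ha)
      refine (hH' _).2 ⟨_, hb, ?_⟩
      rw [show (⟨τ⁻¹ * a * τ, hHN hb⟩ : D) = τ'⁻¹ * ⟨a, hHN ha⟩ * τ' from rfl, map_mul, map_mul, map_inv, e]
      group
    · intro hg
      obtain ⟨a, ha, rfl⟩ := (hH' _).1 hg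
      exact (hH' _).2 ⟨_, (hτ a).2 ha, by rw [← map_inv, ← map_mul, ← map_mul]; rfl⟩
  · obtain ⟨a, ha, rfl⟩ := (hH' _).1 hg
    obtain ⟨b, hb, rfl⟩ := (hH' _).1 hg'
    obtain ⟨n, hn, e⟩ := hcent a ha b hb
    have hz : (n⁻¹ * ⁅a, b⁆ : X) ∈ Subgroup.center X := hc (by
      rw [MonoidHom.mem_ker, map_mul, map_inv, e, inv_mul_cancel])
    let n' : D := ⟨n, Subgroup.le_normalizer hn⟩
    rw [← map_commutatorElement,
      show π ⁅(⟨a, hHN ha⟩ : D), ⟨b, hHN hb⟩⁆ = π (n'⁻¹ * ⁅(⟨a, hHN ha⟩ : D), ⟨b, hHN hb⟩⁆) by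
        rw [map_mul, map_inv, show π n' = 1 from (QuotientGroup.eq_one_iff _).2 hn, inv_one, one_mul],
      Subgroup.mem_center_iff]
    intro x
    obtain ⟨c, rfl⟩ := QuotientGroup.mk'_surjective _ x
    rw [← map_mul, ← map_mul]
    exact congrArg π (Subtype.ext (Subgroup.mem_center_iff.1 hz (c : X)))
  · obtain ⟨a, ha, rfl⟩ := (hH' _).1 hg
    obtain ⟨b, hb, rfl⟩ := (hH' _).1 hg'
    simp only [← map_pow, ← map_inv, ← map_mul, ← map_commutatorElement]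
    exact (QuotientGroup.eq_one_iff _).2 (hrel a ha b hb)

/-- elements of a layer with a central representative -/
theorem layer_kill {N : Subgroup X} {U : Subgroup G} (hN : U.comap ξ ≤ Subgroup.normalizer (N : Set X))
    {a a' b b' : X} (ha : ξ a ∈ U) (hb : ξ b ∈ U) (h1 : ⁅a, b⁆ = 1) (h2 : ⁅a', b⁆ ∈ N)
    (h3 : ⁅a * a', b'⁆ ∈ N) : ⁅a * a', b * b'⁆ ∈ N := by
  have conj : ∀ v, ξ v ∈ U → ∀ n ∈ N, v * n * v⁻¹ ∈ N := fun v hv n hn =>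
    (Subgroup.mem_normalizer_iff.1 (hN hv) n).1 hn
  rw [show ⁅a * a', b * b'⁆ = a * ⁅a', b⁆ * a⁻¹ * ⁅a, b⁆ * (b * ⁅a * a', b'⁆ * b⁻¹) by
    simp only [commutatorElement_def]; group, h1, mul_one]
  exact mul_mem (conj a ha _ h2) (conj b hb _ h3)

end Lifts

end Cfsg.Agent.CentralSection
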