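import Cfsg.Agent.Lib.CentralSection.Amalgam
import Cfsg.Agent.Lib.Schur.SylowKill

/-!
# Trivial multiplier of a framed group

A section of `U` kills the `p`-part, the frame kills the rest.
-/

set_option autoImplicit false
set_option linter.unusedSectionVars false
set_option linter.style.haveILetI false

namespace Cfsg.Agent.CentralSection

open scoped commutatorElement

universe u v

/-- A section of a subgroup of index prime to `p` kills the `p`-part. -/
theorem p_part {X G : Type*} [Group X] [Group G] [Finite G] (ξ : X →* G) (hc : ξ.ker ≤ Subgroup.center X)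
    (hs : Function.Surjective ξ) {p : ℕ} [Fact p.Prime] {U : Subgroup G} {N : Subgroup X}
    (hN : IsSection ξ U N) (hidx : ¬ p ∣ U.index) {z : X} (hz : ξ z = 1) (hzc : z ∈ commutator X)
    (hzp : PElt p z) : z = 1 := by
  obtain ⟨hm, hcm⟩ := SylowKill.transfer_step ξ hs U (hc hz) hz hzc
  have hle : commutator (U.comap ξ) ≤ N.subgroupOf (U.comap ξ) := by
    rw [commutator_def, Subgroup.commutator_le]
    intro a _ b _
    obtain ⟨a', ha', ea⟩ := hN.lift a.2
    obtain ⟨b', hb', eb⟩ := hN.lift b.2
    show ⁅(a : X), (b : X)⁆ ∈ N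
    rw [comm_congr ξ hc ea.symm eb.symm]
    exact mul_mem (mul_mem (mul_mem ha' hb') (inv_mem ha')) (inv_mem hb')
  have h1 : z ^ U.index = 1 := hN.inj _ (hle hcm) (by rw [map_pow, hz, one_pow])
  obtain ⟨k, hk⟩ := hzp
  have h2 := pow_gcd_eq_one (m := U.index) (n := p ^ k) |>.2 ⟨h1, hk⟩
  rwa [Nat.Coprime.gcd_eq_one ((((Fact.out : p.Prime).coprime_iff_not_dvd).2 hidx).symm.pow_right k),
    pow_one] at h2

/-- Central extensions of a perfect framed group are trivial on the commutator subgroup. -/
theorem inf_commutator_of_frame {X : Type u} {G : Type v} [Group X] [Group G] [Finite G]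
    (ξ : X →* G) (hs : Function.Surjective ξ) (hc : ξ.ker ≤ Subgroup.center X)
    (hperf : commutator G = ⊤) {p : ℕ} [Fact p.Prime] (Φ : Frame G) (A : Φ.Axioms p)
    (hidx : ¬ p ∣ Φ.U.index)
    (hL : ∀ i, ∀ r : ℕ, r.Prime → r ≠ p → ∀ P : Sylow r (Φ.L i),
      Cfsg.HasCyclicSchurMultiplier (P : Subgroup (Φ.L i)) 1)
    (hsec : ∀ (Y : Type u) [Group Y] [Finite Y] (η : Y →* G), Function.Surjective η →
      η.ker ≤ Subgroup.center Y → ∃ N : Subgroup Y, IsSection η Φ.U N) :
    ξ.ker ⊓ commutator X = ⊥ := by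
  haveI : Finite (commutator X) := Schur.finite_commutator ξ hc
  let η : commutator X →* G := ξ.comp (commutator X).subtype
  have hηs : Function.Surjective η := fun g => by
    have hg : g ∈ (commutator X).map ξ := by
      rw [_root_.map_commutator_eq, MonoidHom.range_eq_top.2 hs, ← commutator_def, hperf]
      trivial
    obtain ⟨x, hx, rfl⟩ := hg
    exact ⟨⟨x, hx⟩, rfl⟩
  have hηc : η.ker ≤ Subgroup.center _ := fun a ha => Subgroup.mem_center_iff.2 fun b =>
    Subtype.ext (Subgroup.mem_center_iff.1 (hc (show ξ (a : X) = 1 from ha)) b.1)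
  -- it is perfect
  have hperf' : commutator (commutator X) = ⊤ := by
    apply Subgroup.map_injective (commutator X).subtype_injective
    rw [_root_.map_commutator_eq, ← MonoidHom.range_eq_map, Subgroup.range_subtype]
    refine le_antisymm (Subgroup.commutator_le_self _) ?_
    rw [commutator_def, Subgroup.commutator_le]
    intro x _ y _
    obtain ⟨a, ha⟩ := hηs (ξ x)
    obtain ⟨b, hb⟩ := hηs (ξ y)
    rw [comm_congr ξ hc (show ξ x = ξ (a : X) from ha.symm) (show ξ y = ξ (b : X) from hb.symm)]
    exact Subgroup.commutator_mem_commutator a.2 b.2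
  obtain ⟨N, hN⟩ := hsec _ η hηs hηc
  have E : PExt η p := ⟨hηs, hηc, fun z hz hzp =>
    p_part η hηc hηs hN hidx hz (by rw [hperf']; trivial) hzp⟩
  have h := E.inf_commutator Φ A hL
  rw [hperf', inf_top_eq] at h
  rw [eq_bot_iff]
  rintro z ⟨hz, hzc⟩
  have hmem : (⟨z, hzc⟩ : commutator X) ∈ η.ker := hz
  rw [h, Subgroup.mem_bot] at hmem
  exact Subgroup.mem_bot.2 (congrArg Subtype.val hmem)

end Cfsg.Agent.CentralSection
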