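import Cfsg.Agent.Lib.CentralSection.Basic
import Cfsg.Agent.Lib.Schur.SylowCriterion
import Mathlib.GroupTheory.Sylow

/-!
# Central extensions with kernel of order prime to `p`

A `p`-element has one lift of `p`-power order, so every `p`-subgroup has a canonical section and
conjugation carries sections to sections.
-/

set_option autoImplicit false
set_option linter.unusedSectionVars false
set_option linter.style.haveILetI false

namespace Cfsg.Agent.CentralSection

open scoped commutatorElement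

variable {X G : Type*} [Group X] [Group G]

/-- elements of `p`-power order -/
def PElt (p : ℕ) (x : X) : Prop := ∃ k : ℕ, x ^ p ^ k = 1

theorem pelt_conj {p : ℕ} {x : X} (h : PElt p x) (g : X) : PElt p (g * x * g⁻¹) := by
  obtain ⟨k, hk⟩ := h
  exact ⟨k, by rw [conj_pow, hk, mul_one, mul_inv_cancel]⟩

/-- A central extension whose kernel has no non-trivial `p`-element. -/
structure PExt (ξ : X →* G) (p : ℕ) : Prop where
  surj : Function.Surjective ξ
  central : ξ.ker ≤ Subgroup.center X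
  prime_to : ∀ z : X, ξ z = 1 → PElt p z → z = 1

/-- the subgroup generated by the `p`-elements over `H` -/
def lf (ξ : X →* G) (p : ℕ) (H : Subgroup G) : Subgroup X :=
  Subgroup.closure {x | PElt p x ∧ ξ x ∈ H}

variable {ξ : X →* G} {p : ℕ}

theorem mem_lf {H : Subgroup G} {x : X} (h : PElt p x) (hx : ξ x ∈ H) : x ∈ lf ξ p H :=
  Subgroup.subset_closure ⟨h, hx⟩

theorem lf_mono {H H' : Subgroup G} (h : H ≤ H') : lf ξ p H ≤ lf ξ p H' :=
  Subgroup.closure_mono fun _ hx => ⟨hx.1, h hx.2⟩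

theorem lf_le_comap (H : Subgroup G) : lf ξ p H ≤ H.comap ξ :=
  (Subgroup.closure_le _).2 fun _ hx => hx.2

theorem lf_conj {H H' : Subgroup G} {g : X} (h : ∀ u ∈ H, ξ g * u * (ξ g)⁻¹ ∈ H') {x : X}
    (hx : x ∈ lf ξ p H) : g * x * g⁻¹ ∈ lf ξ p H' := by
  refine (Subgroup.closure_le ((lf ξ p H').comap (MulAut.conj g).toMonoidHom)).2 ?_ hx
  rintro y ⟨hy, hy'⟩
  exact mem_lf (pelt_conj hy g) (by simpa using h _ hy')

namespace PExt

variable (E : PExt ξ p)
include E

theorem eq_of_pelt {a b : X} (ha : PElt p a) (hb : PElt p b) (e : ξ a = ξ b) : a = b := by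
  obtain ⟨k, hk⟩ := ha
  obtain ⟨l, hl⟩ := hb
  have hz : ξ (b⁻¹ * a) = 1 := by rw [map_mul, map_inv, e, inv_mul_cancel]
  have hcm : Commute b (b⁻¹ * a) := (CentralSection.central ξ E.central hz b).symm
  refine (inv_mul_eq_one.1 (E.prime_to _ hz ⟨k + l, ?_⟩)).symm
  have ha' : a ^ p ^ (k + l) = 1 := by rw [pow_add, pow_mul, hk, one_pow]
  have hb' : b ^ p ^ (k + l) = 1 := by rw [pow_add, mul_comm, pow_mul, hl, one_pow]
  have h1 := hcm.mul_pow (p ^ (k + l))
  rwa [mul_inv_cancel_left, ha', hb', one_mul, eq_comm] at h1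

variable [Fact p.Prime] [Finite X]

/-- the kernel has no element of order divisible by `p` -/
theorem not_dvd {K : Subgroup X} (z : K) (e : ξ (z : X) = 1) : ¬ p ∣ orderOf z := by
  rintro ⟨c, hc⟩
  have h0 : orderOf z ≠ 0 := (orderOf_pos z).ne'
  have h1 : (z : X) ^ c = 1 := E.prime_to _ (by rw [map_pow, e, one_pow])
    ⟨1, by rw [pow_one, ← pow_mul, mul_comm, ← hc, ← Subgroup.orderOf_coe, pow_orderOf_eq_one]⟩
  have h2 := orderOf_dvd_of_pow_eq_one (show z ^ c = 1 from Subtype.ext (by simpa using h1))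
  rw [hc] at h0 h2
  have h3 : 0 < c := Nat.pos_of_ne_zero fun h => h0 (by rw [h, mul_zero])
  have := Nat.le_of_dvd h3 h2
  have := Nat.mul_le_mul_right c (Fact.out : p.Prime).two_le
  omega

theorem lf_spec {H : Subgroup G} (hH : IsPGroup p H) :
    IsSection ξ H (lf ξ p H) ∧ ∀ x ∈ lf ξ p H, PElt p x := by
  let f : H.comap ξ →* H := ξ.subgroupComap H
  have hf : Function.Surjective f := fun u => by
    obtain ⟨x, hx⟩ := E.surj u.1
    exact ⟨⟨x, by rw [Subgroup.mem_comap, hx]; exact u.2⟩, Subtype.ext hx⟩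
  obtain ⟨S⟩ : Nonempty (Sylow p (H.comap ξ)) := inferInstance
  have hS : ∀ u : H, ∃ s ∈ (S : Subgroup (H.comap ξ)), f s = u := by
    intro u
    have hp' : IsPGroup p (⊤ : Subgroup H) := hH.to_subgroup ⊤
    have htop : ((S.mapSurjective hf : Sylow p H) : Subgroup H) = ⊤ :=
      ((S.mapSurjective hf).3 hp' le_top).symm
    rw [Sylow.coe_mapSurjective] at htop
    exact Subgroup.mem_map.1 (htop ▸ Subgroup.mem_top u)
  have hpe : ∀ s ∈ (S : Subgroup (H.comap ξ)), PElt p (s : X) := fun s hs => by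
    obtain ⟨k, hk⟩ := S.isPGroup' ⟨s, hs⟩
    exact ⟨k, by simpa using congrArg (fun a : (S : Subgroup (H.comap ξ)) => ((a : H.comap ξ) : X)) hk⟩
  have hle : lf ξ p H ≤ (S : Subgroup (H.comap ξ)).map (H.comap ξ).subtype :=
    (Subgroup.closure_le _).2 fun x ⟨hx, hxH⟩ => by
      obtain ⟨s, hs, e⟩ := hS ⟨ξ x, hxH⟩
      exact ⟨s, hs, E.eq_of_pelt (hpe s hs) hx (congrArg Subtype.val e)⟩
  have hpel : ∀ x ∈ lf ξ p H, PElt p x := fun x hx => by
    obtain ⟨s, hs, rfl⟩ := hle hx
    exact hpe s hs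
  refine ⟨⟨fun x hx e => E.prime_to x e (hpel x hx), le_antisymm ?_ fun u hu => ?_⟩, hpel⟩
  · rw [Subgroup.map_le_iff_le_comap]
    exact lf_le_comap H
  · obtain ⟨s, hs, e⟩ := hS ⟨u, hu⟩
    exact ⟨s, mem_lf (hpe s hs) s.2, congrArg Subtype.val e⟩

/-- A group generated by `p`-elements meets the kernel trivially when the other Sylow subgroups of
its image have trivial multiplier. -/
theorem inj_of_gen {A : Set X} (hA : ∀ a ∈ A, PElt p a) {L : Subgroup G} [Finite L]
    (hmap : (Subgroup.closure A).map ξ = L)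
    (hL : ∀ r : ℕ, r.Prime → r ≠ p → ∀ P : Sylow r L,
      Cfsg.HasCyclicSchurMultiplier (P : Subgroup L) 1) :
    ∀ x ∈ Subgroup.closure A, ξ x = 1 → x = 1 := by
  intro x hx e
  let ψ : Subgroup.closure A →* L :=
    (ξ.comp (Subgroup.closure A).subtype).codRestrict L fun a => hmap ▸ Subgroup.mem_map_of_mem ξ a.2
  have hψ : Function.Surjective ψ := fun u => by
    obtain ⟨a, ha, e'⟩ := Subgroup.mem_map.1 (hmap.symm ▸ u.2 : (u : G) ∈ (Subgroup.closure A).map ξ)
    exact ⟨⟨a, ha⟩, Subtype.ext e'⟩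
  have hψc : ψ.ker ≤ Subgroup.center _ := fun a ha => Subgroup.mem_center_iff.2 fun b =>
    Subtype.ext (Subgroup.mem_center_iff.1 (E.central (congrArg Subtype.val ha)) b.1)
  set z : Subgroup.closure A := ⟨x, hx⟩ with hz
  have hzk : z ∈ ψ.ker := Subtype.ext e
  -- `z` is a commutator as the abelianisation is a `p`-group
  have hzc : z ∈ commutator (Subgroup.closure A) := by
    have hall : ∀ a : Subgroup.closure A, ∃ k : ℕ, Abelianization.of a ^ p ^ k = 1 := by
      intro a
      have htop := Subgroup.closure_closure_coe_preimage (k := A)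
      induction (show a ∈ Subgroup.closure (((↑) : Subgroup.closure A → X) ⁻¹' A) by
        rw [htop]; exact Subgroup.mem_top a) using Subgroup.closure_induction with
      | mem y hy =>
        obtain ⟨k, hk⟩ := hA _ hy
        exact ⟨k, by rw [← map_pow, show y ^ p ^ k = 1 from Subtype.ext (by simpa using hk), map_one]⟩
      | one => exact ⟨0, by simp⟩
      | mul a b _ _ ha hb =>
        obtain ⟨k, hk⟩ := ha
        obtain ⟨l, hl⟩ := hb
        refine ⟨k + l, ?_⟩
        rw [map_mul, mul_pow, pow_add]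
        nth_rw 1 [pow_mul]
        rw [hk, one_pow, one_mul, mul_comm (p ^ k), pow_mul, hl, one_pow]
      | inv a _ ha =>
        obtain ⟨k, hk⟩ := ha
        exact ⟨k, by rw [map_inv, inv_pow, hk, inv_one]⟩
    obtain ⟨k, hk⟩ := hall z
    have hco : Nat.Coprime (orderOf z) (p ^ k) := by
      refine Nat.Coprime.pow_right k ?_
      rw [Nat.coprime_comm, (Fact.out : p.Prime).coprime_iff_not_dvd]
      intro hd
      exact E.not_dvd z e hd
    rw [← Abelianization.ker_of, MonoidHom.mem_ker, ← orderOf_eq_one_iff]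
    refine Nat.eq_one_of_dvd_coprimes hco ?_ (orderOf_dvd_of_pow_eq_one hk)
    exact orderOf_map_dvd _ z
  have hone : z = 1 := by
    rw [← orderOf_eq_one_iff]
    by_contra hne
    obtain ⟨r, hr, hrd⟩ := Nat.exists_prime_and_dvd hne
    haveI := Fact.mk hr
    have hrp : r ≠ p := by
      rintro rfl
      exact E.not_dvd z e hrd
    obtain ⟨P⟩ : Nonempty (Sylow r L) := inferInstance
    exact P.not_dvd_index (hrd.trans (orderOf_dvd_of_pow_eq_one
      (Schur.pow_index_eq_one ψ hψ P (Schur.eq_one_of_trivial _ (hL r hr hrp P) ψ hψ hψc)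
        (hψc hzk) hzk hzc)))
  exact congrArg Subtype.val hone

end PExt

end Cfsg.Agent.CentralSection
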