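import Cfsg.Agent.Lib.CentralSection.Amalgam
import Cfsg.Agent.Lib.Classical.HomocyclicSylow
import Cfsg.Agent.S3979

/-!
# Rank one groups of a frame

Their order, and the Sylow subgroups of order prime to `p` when the torus part is cyclic and a
representation of small degree has its kernel in the Borel part.
-/

set_option autoImplicit false
set_option linter.unusedSectionVars false
set_option linter.style.haveILetI false

namespace Cfsg.Agent.CentralSection.Frame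

variable {G : Type*} [Group G] {Φ : Frame G} {p : ℕ} (A : Φ.Axioms p)
include A

theorem n_notMem_T (i : Fin 2) : Φ.n i ∉ Φ.T := by
  intro h
  fin_cases i
  · refine A.refl 1 (by have := A.h_pos; omega) ?_
    rw [pow_one, Frame.r, show Φ.n 1 * Φ.n 0 * Φ.n 1 =
      (Φ.n 1 * Φ.n 0 * (Φ.n 1)⁻¹) * (Φ.n 1 * Φ.n 1) by group]
    exact mul_mem ((Subgroup.mem_normalizer_iff.1 (A.n_T 1) _).1 h) (A.n_sq 1)
  · refine A.refl 0 (by have := A.h_pos; omega) ?_
    rw [pow_zero, one_mul]; exact h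

/-- `n` is not in `U T U` -/
theorem n_ne (i : Fin 2) {u t u' : G} (hu : u ∈ Φ.U) (ht : t ∈ Φ.T) (hu' : u' ∈ Φ.U) :
    Φ.n i ≠ u * t * u' := by
  intro e
  have h1 : t * u' * t⁻¹ ∈ Φ.U := (Subgroup.mem_normalizer_iff.1 (A.T_U ht) u').1 hu'
  have e2 : Φ.n i * t⁻¹ = u * (t * u' * t⁻¹) := by rw [e]; group
  have h2 : Φ.n i * t⁻¹ = 1 := A.U_N _ (by rw [e2]; exact mul_mem hu h1)
    (mul_mem (Subgroup.mem_sup_right (Subgroup.subset_closure ⟨i, rfl⟩))
      (Subgroup.mem_sup_left (inv_mem ht)))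
  exact n_notMem_T A i (mul_inv_eq_one.1 h2 ▸ ht)

/-- the two cells -/
theorem L_cells (i : Fin 2) {x : G} (hx : x ∈ Φ.L i) :
    (∃ a ∈ Φ.R i, ∃ t ∈ Φ.L i ⊓ Φ.T, x = a * t) ∨
      ∃ a ∈ Φ.R i, ∃ t ∈ Φ.L i ⊓ Φ.T, ∃ b ∈ Φ.R i, x = a * t * Φ.n i * b := by
  let TL := Φ.L i ⊓ Φ.T
  have hRL : Φ.R i ≤ Φ.L i := le_sup_left
  have hRc : ∀ t ∈ TL, ∀ a ∈ Φ.R i, t * a * t⁻¹ ∈ Φ.R i := fun t ht a ha =>
    (Subgroup.mem_normalizer_iff.1 (A.T_R i ht.2) a).1 ha
  have hnT : ∀ t ∈ TL, Φ.n i * t * (Φ.n i)⁻¹ ∈ TL := fun t ht => Subgroup.mem_inf.2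
    ⟨mul_mem (mul_mem (A.n_mem i) ht.1) (inv_mem (A.n_mem i)),
      (Subgroup.mem_normalizer_iff.1 (A.n_T i) t).1 ht.2⟩
  have hsq : Φ.n i * Φ.n i ∈ TL := Subgroup.mem_inf.2 ⟨mul_mem (A.n_mem i) (A.n_mem i), A.n_sq i⟩
  let P : G → Prop := fun x => (∃ a ∈ Φ.R i, ∃ t ∈ TL, x = a * t) ∨
    ∃ a ∈ Φ.R i, ∃ t ∈ TL, ∃ b ∈ Φ.R i, x = a * t * Φ.n i * b
  have hT : ∀ s ∈ TL, ∀ x, P x → P (s * x) := by
    rintro s hs x (⟨a, ha, t, ht, rfl⟩ | ⟨a, ha, t, ht, b, hb, rfl⟩)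
    · exact Or.inl ⟨_, hRc s hs a ha, s * t, mul_mem hs ht, by group⟩
    · exact Or.inr ⟨_, hRc s hs a ha, s * t, mul_mem hs ht, b, hb, by group⟩
  have hR : ∀ s ∈ Φ.R i, ∀ x, P x → P (s * x) := by
    rintro s hs x (⟨a, ha, t, ht, rfl⟩ | ⟨a, ha, t, ht, b, hb, rfl⟩)
    · exact Or.inl ⟨s * a, mul_mem hs ha, t, ht, by group⟩
    · exact Or.inr ⟨s * a, mul_mem hs ha, t, ht, b, hb, by group⟩
  have hn : ∀ x, P x → P (Φ.n i * x) := by
    rintro x (⟨a, ha, t, ht, rfl⟩ | ⟨a, ha, t, ht, b, hb, rfl⟩)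
    · refine Or.inr ⟨1, one_mem _, _, hnT t ht, t⁻¹ * a * t, ?_, by group⟩
      have := hRc t⁻¹ (inv_mem ht) a ha
      rwa [inv_inv] at this
    · set t' := Φ.n i * t * (Φ.n i)⁻¹ with ht'
      by_cases ha1 : a = 1
      · refine Or.inl ⟨(t' * (Φ.n i * Φ.n i)) * b * (t' * (Φ.n i * Φ.n i))⁻¹,
          hRc _ (mul_mem (hnT t ht) hsq) b hb, t' * (Φ.n i * Φ.n i), mul_mem (hnT t ht) hsq, ?_⟩
        rw [ha1, ht']; group
      obtain ⟨c, hc, s, hs, d, hd, e⟩ := A.rank1 i a ha ha1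
      have hsL : s ∈ TL := Subgroup.mem_inf.2 ⟨by
        rw [show s = c⁻¹ * (Φ.n i * a * (Φ.n i)⁻¹) * d⁻¹ * (Φ.n i)⁻¹ by rw [e]; group]
        exact mul_mem (mul_mem (mul_mem (inv_mem (hRL hc)) (mul_mem (mul_mem (A.n_mem i) (hRL ha))
          (inv_mem (A.n_mem i)))) (inv_mem (hRL hd))) (inv_mem (A.n_mem i)), hs⟩
      set t'' := t' * (Φ.n i * Φ.n i) with ht''
      have ht''L : t'' ∈ TL := mul_mem (hnT t ht) hsq
      refine Or.inr ⟨c, hc, s * (Φ.n i * t'' * (Φ.n i)⁻¹), mul_mem hsL (hnT _ ht''L),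
        t''⁻¹ * d * t'' * b, mul_mem (by have := hRc t''⁻¹ (inv_mem ht''L) d hd; rwa [inv_inv] at this) hb, ?_⟩
      rw [show Φ.n i * (a * t * Φ.n i * b) = (Φ.n i * a * (Φ.n i)⁻¹) * t'' * b by rw [ht'', ht']; group, e]
      group
  have hle : Φ.L i ≤ Subgroup.closure ((Φ.R i : Set G) ∪ {Φ.n i}) := by
    refine sup_le (fun y hy => Subgroup.subset_closure (Or.inl hy)) ?_
    rintro _ ⟨z, hz, rfl⟩
    exact mul_mem (mul_mem (Subgroup.subset_closure (Or.inr rfl)) (Subgroup.subset_closure (Or.inl hz)))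
      (inv_mem (Subgroup.subset_closure (Or.inr rfl)))
  show P x
  induction (hle hx) using Subgroup.closure_induction_left with
  | one => exact Or.inl ⟨1, one_mem _, 1, one_mem _, by simp⟩
  | mul_left g hg y hy ih =>
    have hy' : y ∈ Φ.L i := (Subgroup.closure_le _).2 (Set.union_subset hRL
      (Set.singleton_subset_iff.2 (A.n_mem i))) hy
    rcases hg with hg | rfl
    exacts [hR g hg y (ih hy'), hn y (ih hy')]
  | inv_mul_cancel g hg y hy ih =>
    have hy' : y ∈ Φ.L i := (Subgroup.closure_le _).2 (Set.union_subset hRL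
      (Set.singleton_subset_iff.2 (A.n_mem i))) hy
    rcases hg with hg | rfl
    · exact hR g⁻¹ (inv_mem hg) y (ih hy')
    · rw [show (Φ.n i)⁻¹ * y = Φ.n i * ((Φ.n i * Φ.n i)⁻¹ * y) by group]
      exact hn _ (hT _ (inv_mem hsq) y (ih hy'))

/-- the order of a rank one group -/
theorem card_L [Finite G] (i : Fin 2) :
    Nat.card (Φ.L i) = Nat.card (Φ.R i) * Nat.card (↥(Φ.L i ⊓ Φ.T)) * (Nat.card (Φ.R i) + 1) := by
  have hRL : Φ.R i ≤ Φ.L i := le_sup_left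
  have hTL : Φ.L i ⊓ Φ.T ≤ Φ.L i := inf_le_left
  let f : (Φ.R i × ↥(Φ.L i ⊓ Φ.T)) ⊕ ((Φ.R i × ↥(Φ.L i ⊓ Φ.T)) × Φ.R i) → Φ.L i :=
    Sum.elim (fun q => ⟨q.1 * q.2, mul_mem (hRL q.1.2) (hTL q.2.2)⟩)
      (fun q => ⟨q.1.1 * q.1.2 * Φ.n i * q.2,
        mul_mem (mul_mem (mul_mem (hRL q.1.1.2) (hTL q.1.2.2)) (A.n_mem i)) (hRL q.2.2)⟩)
  have hinjB : ∀ (a a' : Φ.R i) (t t' : ↥(Φ.L i ⊓ Φ.T)), (a : G) * t = a' * t' → a = a' ∧ t = t' := by
    intro a a' t t' e
    have h : (a' : G)⁻¹ * a = 1 := A.U_N _ (A.R_le i (mul_mem (inv_mem a'.2) a.2)) (by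
      rw [show (a' : G)⁻¹ * a = t' * (t : G)⁻¹ by
        calc (a' : G)⁻¹ * a = (a' : G)⁻¹ * (a * t) * (t : G)⁻¹ := by group
          _ = _ := by rw [e]; group]
      exact Subgroup.mem_sup_left (mul_mem t'.2.2 (inv_mem t.2.2)))
    have ha := inv_mul_eq_one.1 h
    exact ⟨(Subtype.ext ha).symm, Subtype.ext (mul_left_cancel (a := (a : G)) (by rw [e, ha]))⟩
  have hb : Function.Bijective f := by
    constructor
    · rintro (⟨a, t⟩ | ⟨⟨a, t⟩, b⟩) (⟨a', t'⟩ | ⟨⟨a', t'⟩, b'⟩) e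
      · obtain ⟨rfl, rfl⟩ := hinjB a a' t t' (congrArg Subtype.val e); rfl
      · have e' : (a : G) * t = a' * t' * Φ.n i * b' := congrArg Subtype.val e
        exact absurd (show Φ.n i = ((t' : G)⁻¹ * ((a' : G)⁻¹ * a) * t') * ((t' : G)⁻¹ * t) * (b' : G)⁻¹ by
            calc Φ.n i = (t' : G)⁻¹ * (a' : G)⁻¹ * (a' * t' * Φ.n i * b') * (b' : G)⁻¹ := by group
              _ = _ := by rw [← e']; group)
          (n_ne A i (by
              have := (Subgroup.mem_normalizer_iff.1 (A.T_U (inv_mem t'.2.2)) _).1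
                (A.R_le i (mul_mem (inv_mem a'.2) a.2))
              rwa [inv_inv] at this)
            (mul_mem (inv_mem t'.2.2) t.2.2) (A.R_le i (inv_mem b'.2)))
      · have e' : (a : G) * t * Φ.n i * b = a' * t' := congrArg Subtype.val e
        exact absurd (show Φ.n i = ((t : G)⁻¹ * ((a : G)⁻¹ * a') * t) * ((t : G)⁻¹ * t') * (b : G)⁻¹ by
            calc Φ.n i = (t : G)⁻¹ * (a : G)⁻¹ * (a * t * Φ.n i * b) * (b : G)⁻¹ := by group
              _ = _ := by rw [e']; group)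
          (n_ne A i (by
              have := (Subgroup.mem_normalizer_iff.1 (A.T_U (inv_mem t.2.2)) _).1
                (A.R_le i (mul_mem (inv_mem a.2) a'.2))
              rwa [inv_inv] at this)
            (mul_mem (inv_mem t.2.2) t'.2.2) (A.R_le i (inv_mem b.2)))
      · have e' : (a : G) * t * Φ.n i * b = a' * t' * Φ.n i * b' := congrArg Subtype.val e
        have hbb : b = b' := by
          by_contra hne
          set z : G := (b : G) * (b' : G)⁻¹ with hz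
          obtain ⟨c, hc, s, hs, d, hd, er⟩ := A.rank1 i z (mul_mem b.2 (inv_mem b'.2))
            fun h => hne (Subtype.ext (mul_inv_eq_one.1 h))
          have ec : Φ.n i * z * (Φ.n i)⁻¹ = (t : G)⁻¹ * ((a : G)⁻¹ * a') * t' := by
            calc Φ.n i * z * (Φ.n i)⁻¹
                = (t : G)⁻¹ * (a : G)⁻¹ * (a * t * Φ.n i * b) * (b' : G)⁻¹ * (Φ.n i)⁻¹ := by rw [hz]; group
              _ = _ := by rw [e']; group
          -- so `n` lies in `U T U`
          have hu : s⁻¹ * c⁻¹ * s * ((s⁻¹ * (t : G)⁻¹) * ((a : G)⁻¹ * a') * (s⁻¹ * (t : G)⁻¹)⁻¹) ∈ Φ.U :=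
            mul_mem (by
              have := (Subgroup.mem_normalizer_iff.1 (A.T_U (inv_mem hs)) _).1 (A.R_le i (inv_mem hc))
              rwa [inv_inv] at this)
              ((Subgroup.mem_normalizer_iff.1 (A.T_U (mul_mem (inv_mem hs) (inv_mem t.2.2))) _).1
                (A.R_le i (mul_mem (inv_mem a.2) a'.2)))
          refine n_ne A i hu (mul_mem (mul_mem (inv_mem hs) (inv_mem t.2.2)) t'.2.2)
            (A.R_le i (inv_mem hd)) ?_
          calc Φ.n i = s⁻¹ * c⁻¹ * (c * s * Φ.n i * d) * d⁻¹ := by group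
            _ = _ := by rw [← er, ec]; group
        subst hbb
        obtain ⟨rfl, rfl⟩ := hinjB a a' t t' (mul_right_cancel (mul_right_cancel e'))
        rfl
    · rintro ⟨x, hx⟩
      rcases L_cells A i hx with ⟨a, ha, t, ht, rfl⟩ | ⟨a, ha, t, ht, b, hb', rfl⟩
      exacts [⟨Sum.inl ⟨⟨a, ha⟩, ⟨t, ht⟩⟩, rfl⟩, ⟨Sum.inr ⟨⟨⟨a, ha⟩, ⟨t, ht⟩⟩, ⟨b, hb'⟩⟩, rfl⟩]
  rw [← Nat.card_eq_of_bijective f hb, Nat.card_sum, Nat.card_prod, Nat.card_prod, Nat.card_prod]
  ring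

/-- The Sylow subgroups of a rank one group of order prime to `p` have trivial multiplier. -/
theorem sylow_cyclic [Finite G] (i : Fin 2) {F : Type*} [Field F] [Fintype F] [DecidableEq F] {q k : ℕ}
    (hq : Fintype.card F = q) (hk : k = 1 ∨ k = 2) (hR : Nat.card (Φ.R i) = q ^ k)
    [IsCyclic ↥(Φ.L i ⊓ Φ.T)] (hT : Nat.card ↥(Φ.L i ⊓ Φ.T) ∣ q - 1)
    (ρ : Φ.L i →* GL (Fin (2 * k)) F) (hker : ∀ x : Φ.L i, ρ x = 1 → ∃ a ∈ Φ.R i, ∃ t ∈ Φ.L i ⊓ Φ.T, (x : G) = a * t)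
    {r : ℕ} (hr : r.Prime) (hr2 : r ≠ 2) (hrq : ¬ r ∣ q) (P : Sylow r (Φ.L i)) :
    Cfsg.HasCyclicSchurMultiplier (P : Subgroup (Φ.L i)) 1 := by
  haveI := Fact.mk hr
  suffices IsCyclic (P : Subgroup (Φ.L i)) from Cfsg.Agent.S3979.result
  have hcard := card_L A i
  rw [hR] at hcard
  have hq1 : 1 ≤ q := hq ▸ Fintype.card_pos
  obtain ⟨j, hj⟩ := IsPGroup.iff_card.1 P.isPGroup'
  have hdvd : r ^ j ∣ q ^ k * Nat.card ↥(Φ.L i ⊓ Φ.T) * (q ^ k + 1) :=
    hcard ▸ hj ▸ Subgroup.card_subgroup_dvd_card _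
  by_cases hr1 : r ∣ q - 1
  · have hmod : (q : ZMod r) = 1 := by
      rw [← Nat.cast_one (R := ZMod r), ZMod.natCast_eq_natCast_iff']
      exact ((Nat.modEq_iff_dvd' hq1).2 hr1).symm
    have hn2 : ¬ r ∣ q ^ k + 1 := fun h => by
      have : ((q ^ k + 1 : ℕ) : ZMod r) = 0 := (ZMod.natCast_eq_zero_iff _ _).2 h
      push_cast at this
      rw [hmod, one_pow, show (1 : ZMod r) + 1 = ((2 : ℕ) : ZMod r) by norm_num,
        ZMod.natCast_eq_zero_iff] at this
      exact hr2 ((Nat.prime_dvd_prime_iff_eq hr Nat.prime_two).1 this)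
    have hco : Nat.Coprime (r ^ j) (q ^ k) :=
      (((Nat.Prime.coprime_iff_not_dvd hr).2 hrq).pow_right k).pow_left j
    have hco' : Nat.Coprime (r ^ j) (q ^ k + 1) := ((Nat.Prime.coprime_iff_not_dvd hr).2 hn2).pow_left j
    have hjT : r ^ j ∣ Nat.card ↥(Φ.L i ⊓ Φ.T) := hco.dvd_of_dvd_mul_left (hco'.dvd_of_dvd_mul_right hdvd)
    obtain ⟨H, hH⟩ := Sylow.exists_subgroup_card_pow_prime r hjT
    let H' : Subgroup (Φ.L i) := H.map (Subgroup.inclusion inf_le_left)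
    have hH' : Nat.card H' = r ^ j := by
      rw [← hH]
      exact (Nat.card_congr (H.equivMapOfInjective _ (Subgroup.inclusion_injective _)).toEquiv).symm
    obtain ⟨Q, hQ⟩ := (IsPGroup.of_card hH').exists_le_sylow
    have hQe : H' = (Q : Subgroup (Φ.L i)) := Subgroup.eq_of_le_of_card_ge hQ (by
      rw [hH', ← hj, Sylow.card_eq_multiplicity, Sylow.card_eq_multiplicity])
    haveI : IsCyclic H := inferInstance
    haveI : IsCyclic (Q : Subgroup (Φ.L i)) := hQe ▸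
      isCyclic_of_surjective (H.equivMapOfInjective _ (Subgroup.inclusion_injective _)).toMonoidHom
        (MulEquiv.surjective _)
    exact isCyclic_of_surjective ((Sylow.equiv Q P).toMonoidHom) (MulEquiv.surjective _)
  -- otherwise the representation is faithful on `P`
  have hinj : Function.Injective (ρ.comp (P : Subgroup (Φ.L i)).subtype) := by
    rw [injective_iff_map_eq_one]
    intro x hx
    obtain ⟨a, ha, t, ht, e⟩ := hker (x : Φ.L i) hx
    have hord : orderOf x ∣ q ^ k * Nat.card ↥(Φ.L i ⊓ Φ.T) := by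
      let B : Subgroup G := Φ.R i ⊔ (Φ.L i ⊓ Φ.T)
      have hxB : ((x : Φ.L i) : G) ∈ B := e ▸ mul_mem (Subgroup.mem_sup_left ha) (Subgroup.mem_sup_right ht)
      have hle : Φ.L i ⊓ Φ.T ≤ Subgroup.normalizer (Φ.R i : Set G) := inf_le_right.trans (A.T_R i)
      have hBc : Nat.card B ∣ q ^ k * Nat.card ↥(Φ.L i ⊓ Φ.T) := by
        let g : Φ.R i × ↥(Φ.L i ⊓ Φ.T) → B := fun q =>
          ⟨q.1 * q.2, mul_mem (Subgroup.mem_sup_left q.1.2) (Subgroup.mem_sup_right q.2.2)⟩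
        have hg : Function.Bijective g := by
          constructor
          · rintro ⟨a, t⟩ ⟨a', t'⟩ e
            have h : (a' : G)⁻¹ * a = 1 := A.U_N _ (A.R_le i (mul_mem (inv_mem a'.2) a.2)) (by
              rw [show (a' : G)⁻¹ * a = t' * (t : G)⁻¹ by
                calc (a' : G)⁻¹ * a = (a' : G)⁻¹ * (a * t) * (t : G)⁻¹ := by group
                  _ = _ := by rw [show (a : G) * t = a' * t' from congrArg Subtype.val e]; group]
              exact Subgroup.mem_sup_left (mul_mem t'.2.2 (inv_mem t.2.2)))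
            have ha := inv_mul_eq_one.1 h
            obtain rfl : a' = a := Subtype.ext ha
            exact Prod.ext rfl (Subtype.ext (mul_left_cancel (congrArg Subtype.val e)))
          · rintro ⟨y, hy⟩
            rw [← SetLike.mem_coe, Subgroup.coe_mul_of_right_le_normalizer_left _ _ hle] at hy
            obtain ⟨a, ha, t, ht, rfl⟩ := hy
            exact ⟨⟨⟨a, ha⟩, ⟨t, ht⟩⟩, rfl⟩
        rw [← Nat.card_eq_of_bijective g hg, Nat.card_prod, hR]
      have h1 : orderOf ((x : Φ.L i) : G) ∣ Nat.card B := by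
        rw [show orderOf ((x : Φ.L i) : G) = orderOf (⟨_, hxB⟩ : B) from Subgroup.orderOf_coe ⟨_, hxB⟩]
        exact orderOf_dvd_natCard _
      rw [← Subgroup.orderOf_coe x, ← Subgroup.orderOf_coe (x : Φ.L i)]
      exact h1.trans hBc
    have hxr : orderOf x ∣ r ^ j := hj ▸ orderOf_dvd_natCard x
    rw [← orderOf_eq_one_iff]
    refine Nat.eq_one_of_dvd_coprimes ?_ hxr hord
    exact (Nat.Coprime.mul_right (((Nat.Prime.coprime_iff_not_dvd hr).2 hrq).pow_right k)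
      ((Nat.Prime.coprime_iff_not_dvd hr).2 fun h => hr1 (h.trans hT))).pow_left j
  rcases Nat.eq_zero_or_pos j with rfl | hj0
  · haveI : Subsingleton (P : Subgroup (Φ.L i)) := (Nat.card_eq_one_iff_unique.1 (by simpa using hj)).1
    infer_instance
  have hn1 : r ∣ q ^ k + 1 := by
    have h : r ∣ q ^ k * Nat.card ↥(Φ.L i ⊓ Φ.T) * (q ^ k + 1) :=
      (dvd_pow_self r hj0.ne').trans hdvd
    rcases (Nat.Prime.dvd_mul hr).1 h with h | h
    · rcases (Nat.Prime.dvd_mul hr).1 h with h | h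
      · exact absurd (hr.dvd_of_dvd_pow h) hrq
      · exact absurd (h.trans hT) hr1
    · exact h
  have hqk : (q : ZMod r) ^ k = -1 := by
    have : ((q ^ k + 1 : ℕ) : ZMod r) = 0 := (ZMod.natCast_eq_zero_iff _ _).2 hn1
    push_cast at this
    exact eq_neg_of_add_eq_zero_left this
  have h11 : (-1 : ZMod r) ≠ 1 := fun h => by
    have : ((2 : ℕ) : ZMod r) = 0 := by push_cast; linear_combination -h
    rw [ZMod.natCast_eq_zero_iff] at this
    exact hr2 ((Nat.prime_dvd_prime_iff_eq hr Nat.prime_two).1 this)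
  have hord : orderOf (q : ZMod r) = 2 * k := by
    rcases hk with rfl | rfl
    · rw [mul_one, orderOf_eq_prime_iff]
      rw [pow_one] at hqk
      exact ⟨by rw [hqk]; ring, by rw [hqk]; exact h11⟩
    · refine orderOf_eq_prime_pow (p := 2) (n := 1) ?_ ?_
      · rw [pow_one, hqk]; exact h11
      · rw [show 2 ^ (1 + 1) = 2 * 2 by norm_num, pow_mul, hqk]; ring
  have hn : 2 * k < r := by
    have hlt : orderOf (q : ZMod r) < r := by
      have h0 : (q : ZMod r) ≠ 0 := fun h => hrq ((ZMod.natCast_eq_zero_iff _ _).1 h)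
      have h1 := orderOf_dvd_of_pow_eq_one (ZMod.pow_card_sub_one_eq_one h0)
      have := Nat.le_of_dvd (by have := hr.two_le; omega) h1
      have := hr.two_le
      omega
    omega
  let φ := ρ.comp (P : Subgroup (Φ.L i)).subtype
  have hφP : IsPGroup r φ.range := P.isPGroup'.of_equiv (MonoidHom.ofInjective hinj)
  obtain ⟨S, hS⟩ := hφP.exists_le_sylow
  obtain ⟨E⟩ := HomocyclicSylow.gl_sylow hq (2 * k) hn hrq S
  rw [hord, Nat.div_self (by omega)] at E
  let E1 := E.trans (MulEquiv.funUnique (Fin 1) _)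
  haveI : IsCyclic (S : Subgroup (GL (Fin (2 * k)) F)) :=
    isCyclic_of_surjective E1.symm.toMonoidHom E1.symm.surjective
  exact isCyclic_of_injective ((Subgroup.inclusion hS).comp φ.rangeRestrict)
    ((Subgroup.inclusion_injective hS).comp (fun a b h => hinj (congrArg Subtype.val h)))

end Cfsg.Agent.CentralSection.Frame
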