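import Cfsg.Agent.Lib.CentralSection.TwFrame

/-!
# Diagonal blocks of Levi groups

The adjoint matrices of the Levi group of all nodes but `k` respect the coefficient at `k`, so a set
of coordinates cut out by two such coefficients carries a representation of the common part.
-/

set_option autoImplicit false
set_option linter.unusedSectionVars false

namespace Cfsg.Agent.Chev

open Cfsg.Lie
open Matrix hiding zpow_mul inv_zpow mul_inv_rev zpow_add zpow_neg

namespace Tab

variable {T : Tab} {K : List (List ℕ)} {F : Type*} [Field F]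

/-- the coefficient at `k` of a coordinate -/
def levK (T : Tab) (K : List (List ℕ)) (k : ℕ) : T.D.Idx → ℤ :=
  Sum.elim (fun _ => 0) fun s => T.phi K k s.val

theorem levI_compl (T : Tab) (K : List (List ℕ)) {k : ℕ} (hk : k < T.l) :
    T.levI K {i | i ≠ k} = T.levK K k := by
  funext a
  rcases a with a | s
  · rfl
  · have key : ∀ (inst : DecidablePred fun i => i ∉ {i : ℕ | i ≠ k}),
        ∑ i ∈ @Finset.filter ℕ (fun i => i ∉ {i : ℕ | i ≠ k}) inst (Finset.range T.l), T.phi K i s.val =
          T.phi K k s.val := by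
      intro inst
      refine Finset.sum_eq_single k (fun i hi hne => ?_) (fun h => absurd ?_ h)
      · exact absurd hne (Finset.mem_filter.1 hi).2
      · rw [Finset.mem_filter, Finset.mem_range]
        exact ⟨hk, fun h' => h' rfl⟩
    exact key _

/-- the Levi group of all nodes but `k` -/
noncomputable def leviK (g : T.GoodK K) (F : Type*) [Field F] (k : ℕ) : Subgroup (GL T.D.Idx F) :=
  T.D.diagonalSubgroup F ⊔ genS g.toGood F (T.inJ {i | i ≠ k})

theorem levi_block (g : T.GoodK K) {k : ℕ} (hk : k < T.l) {x : GL T.D.Idx F} (hx : x ∈ leviK g F k)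
    {a b : T.D.Idx} (hab : T.levK K k a ≠ T.levK K k b) : (x : Matrix T.D.Idx T.D.Idx F) a b = 0 := by
  classical
  rw [← levI_compl T K hk] at hab
  revert hab a b
  have hg := g.toGood
  set J : Set ℕ := {i | i ≠ k}
  have hmul : ∀ X Y : Matrix T.D.Idx T.D.Idx F,
      (∀ a b, T.levI K J a ≠ T.levI K J b → X a b = 0) →
      (∀ a b, T.levI K J a ≠ T.levI K J b → Y a b = 0) →
      ∀ a b, T.levI K J a ≠ T.levI K J b → (X * Y) a b = 0 := by
    intro X Y hX hY a b hab
    rw [Matrix.mul_apply]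
    refine Finset.sum_eq_zero fun c _ => ?_
    by_cases hac : T.levI K J a = T.levI K J c
    · rw [hY c b (hac ▸ hab), mul_zero]
    · rw [hX a c hac, zero_mul]
  have hroot : ∀ r ∈ T.inJ J, ∀ t : F, ∀ a b, T.levI K J a ≠ T.levI K J b →
      (xg hg r t : Matrix T.D.Idx T.D.Idx F) a b = 0 := by
    intro r hr t a b hab
    rcases xg_lev g J hr.1 t a b with h | ⟨m, -, h⟩
    · rw [xg_val, h, Matrix.one_apply_ne]
      exact fun e => hab (by rw [e])
    · rw [lev_inJ g hr, mul_zero, add_zero] at h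
      exact absurd h hab
  rw [leviK, diagonalSubgroup_eq hg, ← Subgroup.closure_eq (tor T F).range, genS,
    ← Subgroup.closure_union] at hx
  intro a b hab
  refine Subgroup.closure_induction_left (p := fun (y : GL T.D.Idx F) _ => ∀ a b, T.levI K J a ≠ T.levI K J b →
    (y : Matrix T.D.Idx T.D.Idx F) a b = 0) ?_ ?_ ?_ hx a b hab
  · intro a b hab
    rw [Units.val_one, Matrix.one_apply_ne]
    exact fun e => hab (by rw [e])
  · rintro y hy z _ hz
    rw [Units.val_mul]
    rcases hy with ⟨c, rfl⟩ | ⟨r, hr, t, rfl⟩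
    · exact hmul _ _ (fun a b hab => tor_apply_ne c fun e => hab (by rw [e])) hz
    · exact hmul _ _ (hroot r hr t) hz
  · rintro y hy z _ hz
    rw [Units.val_mul]
    rcases hy with ⟨c, rfl⟩ | ⟨r, hr, t, rfl⟩
    · rw [← map_inv]; exact hmul _ _ (fun a b hab => tor_apply_ne c⁻¹ fun e => hab (by rw [e])) hz
    · rw [xg_inv]; exact hmul _ _ (hroot r hr _) hz

/-- the representation on a block -/
noncomputable def blockHom (g : T.GoodK K) {H : Subgroup (GL T.D.Idx F)} {d k₁ k₂ : ℕ} (h₁ : k₁ < T.l)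
    (h₂ : k₂ < T.l) (hH : H ≤ leviK g F k₁ ⊓ leviK g F k₂) (e : Fin d → T.D.Idx) (he : Function.Injective e)
    (hsep : ∀ i a, a ∉ Set.range e → T.levK K k₁ (e i) ≠ T.levK K k₁ a ∨ T.levK K k₂ (e i) ≠ T.levK K k₂ a) :
    H →* GL (Fin d) F :=
  MonoidHom.toHomUnits
    { toFun := fun x => ((x : GL T.D.Idx F) : Matrix T.D.Idx T.D.Idx F).submatrix e e
      map_one' := by simp [Matrix.submatrix_one _ he]
      map_mul' := fun x y => by
        classical
        ext i j
        rw [Matrix.mul_apply, Matrix.submatrix_apply, Subgroup.coe_mul, Units.val_mul, Matrix.mul_apply]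
        rw [← Finset.sum_subset (Finset.subset_univ (Finset.univ.image e)),
          Finset.sum_image fun a _ b _ h => he h]
        · rfl
        intro c _ hc
        have hc' : c ∉ Set.range e := by simpa using hc
        rcases hsep i c hc' with h | h
        · rw [levi_block g h₁ (hH x.2).1 h, zero_mul]
        · rw [levi_block g h₂ (hH x.2).2 h, zero_mul] }

theorem blockHom_apply (g : T.GoodK K) {H : Subgroup (GL T.D.Idx F)} {d k₁ k₂ : ℕ} (h₁ : k₁ < T.l)
    (h₂ : k₂ < T.l) (hH : H ≤ leviK g F k₁ ⊓ leviK g F k₂) (e : Fin d → T.D.Idx) (he : Function.Injective e)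
    (hsep : ∀ i a, a ∉ Set.range e → T.levK K k₁ (e i) ≠ T.levK K k₁ a ∨ T.levK K k₂ (e i) ≠ T.levK K k₂ a)
    (x : H) (i j : Fin d) :
    (blockHom g h₁ h₂ hH e he hsep x : Matrix (Fin d) (Fin d) F) i j =
      ((x : GL T.D.Idx F) : Matrix T.D.Idx T.D.Idx F) (e i) (e j) := rfl

/-- a Weyl lift has a non-zero entry at a moved root -/
theorem nWd_entry (g : T.Good) {L : List ℕ} (hL : T.Wd L) (c : ℕ → Fˣ) {s : ℕ} (hs : s < T.n)
    {a b : T.D.Idx} (ha : T.code a = T.l + T.rw' L s) (hb : T.code b = T.l + s) :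
    ((tor T F c * nWd g F L : GL T.D.Idx F) : Matrix T.D.Idx T.D.Idx F) a b ≠ 0 := by
  obtain ⟨u, h⟩ := nWd_col (F := F) g hL hs
  have hcol : ((tor T F c * nWd g F L : GL T.D.Idx F) : Matrix T.D.Idx T.D.Idx F) *ᵥ bas T F (T.l + s) =
      ((u : F) * (wt T F c (T.rw' L s) : F)) • bas T F (T.l + T.rw' L s) := by
    rw [Units.val_mul, ← mulVec_mulVec, h, mulVec_smul, tor_apply, dg_col_root g, smul_smul]
  have h' := congrFun hcol a
  rw [← hb, bas_code g b, mulVec_single_one] at h'
  simp only [Matrix.col_apply, Pi.smul_apply, bas, ha, if_true, smul_eq_mul, mul_one] at h'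
  rw [h']
  exact mul_ne_zero (Units.ne_zero _) (Units.ne_zero _)

theorem tor_entry (g : T.Good) (c : ℕ → Fˣ) {s : ℕ} {a : T.D.Idx} (ha : T.code a = T.l + s) :
    (tor T F c : Matrix T.D.Idx T.D.Idx F) a a = (wt T F c s : F) := by
  rw [tor_apply, dg_val, Matrix.diagonal_apply_eq]
  rcases a with ⟨i, hi⟩ | ⟨u, hu⟩
  · rw [g.rank_eq] at hi
    simp only [code] at ha
    omega
  · simp only [code] at ha
    obtain rfl : u = s := by omega
    rfl

end Tab

end Cfsg.Agent.Chev
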