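import Cfsg.Agent.Lib.CentralSection.Weights
import Cfsg.Agent.Lib.CentralSection.TwFrame
import Cfsg.Agent.Lib.Lie.TwGraph
import Cfsg.Agent.Lib.Lie.BorelTits

/-!
# Sections of the unipotent group of a twisted group

The filtration is by the index of the roots; a layer not represented by an orbit of `π` is trivial.
-/

set_option autoImplicit false
set_option linter.unusedSectionVars false
set_option linter.style.haveILetI false

namespace Cfsg.Agent.Chev

open Cfsg.Lie
open Matrix hiding zpow_mul inv_zpow mul_inv_rev zpow_add zpow_neg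
open Cfsg.Agent.CentralSection
open scoped commutatorElement

namespace Tab

variable {T : Tab} {K : List (List ℕ)} {F : Type*} [Field F]

/-- the coordinate at `k` -/
noncomputable def coef (g : T.Good) (F : Type*) [Field F] (k : ℕ) (x : GL T.D.Idx F) : F :=
  Classical.epsilon fun a : F => ∃ y ∈ genS g F (Set.Ico (k + 1) T.n), x = xg g k a * y

theorem coef_eq (g : T.Good) {k : ℕ} (hk : T.N ≤ k) (hkn : k < T.n) {a : F} {y : GL T.D.Idx F}
    (hy : y ∈ genS g F (Set.Ico (k + 1) T.n)) : coef g F k (xg g k a * y) = a := by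
  have hex : ∃ b : F, ∃ z ∈ genS g F (Set.Ico (k + 1) T.n), xg g k a * y = xg g k b * z := ⟨a, y, hy, rfl⟩
  obtain ⟨y', hy', e⟩ := Classical.epsilon_spec hex
  set b := coef g F k (xg g k a * y) with hb
  have h : xg g k (-b + a) = y' * y⁻¹ := by
    rw [← xg_add, ← xg_inv]
    calc (xg g k b)⁻¹ * xg g k a = (xg g k b)⁻¹ * (xg g k a * y) * y⁻¹ := by group
      _ = _ := by rw [e]; simp only [hb, coef]; group
  have h0 := lowest_coeff g hk hkn (t := -b + a) (by rw [h]; exact mul_mem hy' (inv_mem hy))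
  linear_combination -h0

/-- the roots of index at least `k`, moved `j` times -/
def imgList (T : Tab) (π : ℕ → ℕ) (j k : ℕ) : List ℕ := (List.range' k (T.n - k)).map π^[j]

/-- every layer outside `reps` is trivial -/
def checkZero (T : Tab) (π : ℕ → ℕ) (reps : List ℕ) : Bool :=
  allBelow (fun k => Nat.blt k T.N || reps.elem k || anyBelow (fun j =>
    !(imgList T π j k).elem k && (imgList T π j k).all fun r => Nat.ble T.N r && Nat.blt r T.n &&
      (imgList T π j k).all fun s => (T.cTerms r s).all fun c => (imgList T π j k).elem c.1) 3) T.n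

namespace Twist

variable {g : T.GoodK K} (X : Twist g F)

/-- the filtration -/
noncomputable def Uf (k : ℕ) : Subgroup ↥X.G1 :=
  (genS g.toGood F (Set.Ico k T.n)).subgroupOf X.G1

theorem mem_Uf {k : ℕ} {x : ↥X.G1} :
    x ∈ X.Uf k ↔ (x : GL T.D.Idx F) ∈ genS g.toGood F (Set.Ico k T.n) := Iff.rfl

theorem Uf_anti {k k' : ℕ} (h : k ≤ k') : X.Uf k' ≤ X.Uf k := fun _ hx =>
  genS_mono g.toGood (S := Set.Ico k' T.n) (S' := Set.Ico k T.n) (fun _ hr => ⟨h.trans hr.1, hr.2⟩) hx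

theorem Uf_top {k : ℕ} (h : T.n ≤ k) : X.Uf k = ⊥ := by
  rw [eq_bot_iff]
  intro x hx
  refine Subgroup.mem_bot.2 (Subtype.ext ?_)
  exact genS_induction g.toGood (p := fun x => x = 1) rfl
    (fun r hr => absurd hr.2 (by have := hr.1; omega)) hx

theorem Uf_comm {k : ℕ} (hk : T.N ≤ k) {u v : ↥X.G1} (hu : u ∈ X.Uf T.N) (hv : v ∈ X.Uf k) :
    ⁅u, v⁆ ∈ X.Uf (k + 1) := by
  have h : ⁅(v : GL T.D.Idx F), (u : GL T.D.Idx F)⁆ ∈ genS g.toGood F (Set.Ico (k + 1) T.n) :=
    commutator_step g.toGoodA hk (Subgroup.commutator_mem_commutator hv hu)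
  rw [← commutatorElement_inv] at h
  have h' := inv_mem h
  rw [inv_inv] at h'
  show ((⁅u, v⁆ : ↥X.G1) : GL T.D.Idx F) ∈ genS g.toGood F (Set.Ico (k + 1) T.n)
  rw [show ((⁅u, v⁆ : ↥X.G1) : GL T.D.Idx F) = ⁅(u : GL T.D.Idx F), (v : GL T.D.Idx F)⁆ from
    map_commutatorElement X.G1.subtype u v]
  exact h'

/-- the torus -/
noncomputable def Tg : Subgroup ↥X.G1 := (T.D.diagonalSubgroup F).subgroupOf X.G1

theorem exists_par {t : ↥X.G1} (ht : t ∈ X.Tg) : ∃ c, tor T F c = (t : GL T.D.Idx F) := by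
  have h : (t : GL T.D.Idx F) ∈ T.D.diagonalSubgroup F := ht
  rw [diagonalSubgroup_eq g.toGood] at h
  exact h

theorem Tg_comm {a b : ↥X.G1} (ha : a ∈ X.Tg) (hb : b ∈ X.Tg) : a * b = b * a := by
  obtain ⟨c, hc⟩ := X.exists_par ha
  obtain ⟨d, hd⟩ := X.exists_par hb
  exact Subtype.ext (by rw [Subgroup.coe_mul, Subgroup.coe_mul, ← hc, ← hd, ← map_mul, ← map_mul, mul_comm])

theorem Tg_norm (k : ℕ) : X.Tg ≤ Subgroup.normalizer (X.Uf k : Set ↥X.G1) := by
  intro t ht
  obtain ⟨c, hc⟩ := X.exists_par ht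
  refine Subgroup.mem_normalizer_iff.2 fun z => ?_
  show (z : GL T.D.Idx F) ∈ genS g.toGood F (Set.Ico k T.n) ↔
    ((t * z * t⁻¹ : ↥X.G1) : GL T.D.Idx F) ∈ genS g.toGood F (Set.Ico k T.n)
  rw [Subgroup.coe_mul, Subgroup.coe_mul, Subgroup.coe_inv, ← hc]
  exact Subgroup.mem_normalizer_iff.1 (tor_normalizes g.toGood (fun r hr => hr.2) c) _

/-- the weight at `k` -/
noncomputable def chi (k : ℕ) (t : ↥X.G1) : F :=
  (wt T F (Classical.epsilon fun c => tor T F c = (t : GL T.D.Idx F)) k : F)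

theorem chi_eq {k : ℕ} (hk : k < T.n) {t : ↥X.G1} {c : ℕ → Fˣ} (hc : tor T F c = (t : GL T.D.Idx F)) :
    X.chi k t = (wt T F c k : F) := by
  have he := Classical.epsilon_spec (p := fun d : ℕ → Fˣ => tor T F d = (t : GL T.D.Idx F)) ⟨c, hc⟩
  rw [chi]
  generalize Classical.epsilon (fun d : ℕ → Fˣ => tor T F d = (t : GL T.D.Idx F)) = d at he ⊢
  have h := wt_one_of_simple g.toGood ((tor_eq_iff_wt g.toGood).1 (he.trans hc.symm)) k hk
  have h' : wt T F d k = wt T F (d / c) k * wt T F c k := by rw [← wt_mul, div_mul_cancel]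
  rw [h', h, one_mul]

/-- the coordinate on a layer -/
noncomputable def layer {k : ℕ} (hk : T.N ≤ k) (hkn : k < T.n) :
    Layer X.Tg (X.Uf k) (X.Uf (k + 1)) F where
  ρ x := coef g.toGood F k (x : GL T.D.Idx F)
  χ := X.chi k
  add a ha b hb := by
    obtain ⟨s, y, hy, ea⟩ := exists_split g.toGoodA hk (X.mem_Uf.1 ha)
    obtain ⟨t, z, hz, eb⟩ := exists_split g.toGoodA hk (X.mem_Uf.1 hb)
    have hmem : (xg g.toGood k t)⁻¹ * y * xg g.toGood k t * z ∈ genS g.toGood F (Set.Ico (k + 1) T.n) := by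
      refine mul_mem ?_ hz
      have h := xg_normalizes_Ico g.toGoodA (k := k + 1) (r := k) (by omega) hkn hk t
      have := (Subgroup.mem_normalizer_iff.1 (inv_mem h) y).1 hy
      rwa [inv_inv] at this
    have e : (a : GL T.D.Idx F) * b =
        xg g.toGood k (s + t) * ((xg g.toGood k t)⁻¹ * y * xg g.toGood k t * z) := by
      rw [← xg_add, ea, eb]; group
    show coef g.toGood F k ((a * b : ↥X.G1) : GL T.D.Idx F) = _
    rw [Subgroup.coe_mul, e, coef_eq g.toGood hk hkn hmem, ea, eb, coef_eq g.toGood hk hkn hy,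
      coef_eq g.toGood hk hkn hz]
  zero a ha := by
    obtain ⟨s, y, hy, ea⟩ := exists_split g.toGoodA hk (X.mem_Uf.1 ha)
    show coef g.toGood F k (a : GL T.D.Idx F) = 0 ↔ _
    rw [X.mem_Uf, ea, coef_eq g.toGood hk hkn hy, Subgroup.mul_mem_cancel_right _ hy]
    exact ⟨fun h => by rw [h, xg_zero]; exact one_mem _, fun h => lowest_coeff g.toGood hk hkn h⟩
  weight t ht a ha := by
    obtain ⟨c, hc⟩ := X.exists_par ht
    obtain ⟨s, y, hy, ea⟩ := exists_split g.toGoodA hk (X.mem_Uf.1 ha)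
    have hy' := (Subgroup.mem_normalizer_iff.1
      (tor_normalizes g.toGood (S := Set.Ico (k + 1) T.n) (fun r hr => hr.2) c) y).1 hy
    have e : ((t * a * t⁻¹ : ↥X.G1) : GL T.D.Idx F) =
        xg g.toGood k ((wt T F c k : F) * s) * (tor T F c * y * (tor T F c)⁻¹) := by
      rw [Subgroup.coe_mul, Subgroup.coe_mul, Subgroup.coe_inv, ← hc, ea, ← tor_xg g.toGood c hkn]; group
    show coef g.toGood F k ((t * a * t⁻¹ : ↥X.G1) : GL T.D.Idx F) = _
    rw [e, coef_eq g.toGood hk hkn hy', X.chi_eq hkn hc, ea, coef_eq g.toGood hk hkn hy]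

theorem σ_iter {S : Set ℕ} (hS : ∀ r ∈ S, r < T.n) {x : GL T.D.Idx F} (hx : x ∈ genS g.toGood F S)
    (hσ : X.σ x = x) : ∀ j : ℕ, x ∈ genS g.toGood F (X.π^[j] '' S) ∧ ∀ r ∈ X.π^[j] '' S, r < T.n
  | 0 => ⟨by simpa using hx, by simpa using hS⟩
  | j + 1 => by
    obtain ⟨h, hlt⟩ := σ_iter hS hx hσ j
    have h' := X.σ_genS hlt h
    rw [hσ, ← Set.image_comp, ← Function.iterate_succ'] at h'
    refine ⟨h', ?_⟩
    rintro _ ⟨r, hr, rfl⟩
    rw [Function.iterate_succ_apply']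
    exact X.π_lt _ (hlt _ ⟨r, hr, rfl⟩)

/-- trivial layers -/
theorem Uf_zero {reps : List ℕ} (h : T.checkZero X.π reps = true) {k : ℕ} (hk : T.N ≤ k) (hkn : k < T.n)
    (hr : k ∉ reps) : X.Uf k ≤ X.Uf (k + 1) := by
  simp only [checkZero, allBelow_eq_true, anyBelow_eq_true, Bool.or_eq_true, Bool.and_eq_true,
    Bool.not_eq_true', nat_blt, Nat.ble_eq, List.all_eq_true, List.elem_eq_mem, decide_eq_true_eq,
    decide_eq_false_iff_not] at h
  rcases h k hkn with (h' | h') | ⟨j, -, hnot, hcl⟩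
  · omega
  · exact absurd h' hr
  intro x hx
  have hmem : ∀ r, r ∈ X.π^[j] '' Set.Ico k T.n ↔ r ∈ imgList T X.π j k := fun r => by
    simp only [imgList, List.mem_map, List.mem_range'_1, Set.mem_image, Set.mem_Ico]
    constructor <;> rintro ⟨s, hs, e⟩ <;> exact ⟨s, ⟨hs.1, by omega⟩, e⟩
  have hA : BTi.Cl T (X.π^[j] '' Set.Ico k T.n) :=
    ⟨fun r hr => ⟨(hcl r ((hmem r).1 hr)).1.1, (hcl r ((hmem r).1 hr)).1.2⟩,
      fun r hr s hs c hc => (hmem _).2 ((hcl r ((hmem r).1 hr)).2 s ((hmem s).1 hs) c hc)⟩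
  have hB : BTi.Cl T (Set.Ico k T.n) := by
    have e : Set.Ico T.N T.n ∩ Set.Ico k T.n = Set.Ico k T.n :=
      Set.inter_eq_right.2 fun r hr => ⟨hk.trans hr.1, hr.2⟩
    exact e ▸ (BTi.cl_pos g.toGood).ico g.toGood (k := k)
  have hx1 := (X.σ_iter (S := Set.Ico k T.n) (fun r hr => hr.2) hx (X.G1_le _ x.2).2 j).1
  refine genS_mono g.toGood ?_ (BTi.genS_inter g.toGoodA hA hB hx1 hx)
  rintro r ⟨h1, h2, h3⟩
  refine ⟨Nat.lt_of_le_of_ne h2 fun e => hnot ?_, h3⟩
  have := (hmem r).1 h1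
  rwa [← e] at this

variable {Y : Type*} [Group Y] (η : Y →* ↥X.G1)

/-- a pair of layers treated by hand -/
def Special (j k : ℕ) : Prop :=
  ∀ N : Subgroup Y, IsSection η (X.Uf (k + 1)) N →
    (X.Uf T.N).comap η ≤ Subgroup.normalizer (N : Set Y) →
    (∀ x y, η x ∈ X.Uf (j + 1) → η y ∈ X.Uf k → ⁅x, y⁆ ∈ N) →
    ∀ x y, η x ∈ X.Uf j → η y ∈ X.Uf k → ⁅x, y⁆ ∈ N

/-- `U` has a section -/
theorem exists_section [Fintype F] (hs : Function.Surjective η) (hc : η.ker ≤ Subgroup.center Y)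
    {p e : ℕ} [Fact p.Prime] [CharP F p] (hcard : Fintype.card F = p ^ e) {reps : List ℕ}
    (hzero : T.checkZero X.π reps = true)
    (hfree : ∀ k ∈ reps, ∃ c, tor T F c ∈ X.G1 ∧ wt T F c k ≠ 1)
    (hkill : ∀ k ∈ reps, ∀ j ∈ reps, j ≤ k →
      (∃ c, tor T F c ∈ X.G1 ∧ ∀ i < e, wt T F c j * wt T F c k ^ p ^ i ≠ 1) ∨ X.Special η j k) :
    ∃ N, IsSection η (X.Uf T.N) N := by
  have key : ∀ d k, T.N ≤ k → T.n ≤ k + d → ∃ N : Subgroup Y, IsSection η (X.Uf k) N ∧
      (X.Uf T.N).comap η ≤ Subgroup.normalizer (N : Set Y) ∧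
      X.Tg.comap η ≤ Subgroup.normalizer (N : Set Y) := by
    intro d
    induction d with
    | zero =>
      intro k hk hle
      refine ⟨⊥, X.Uf_top (show T.n ≤ k by omega) ▸ isSection_bot η, ?_, ?_⟩ <;>
        exact fun y _ => Subgroup.mem_normalizer_iff.2 fun z => by simp
    | succ d ih =>
      intro k hk hle
      by_cases hkn : k < T.n
      swap
      · exact ih k hk (by omega)
      obtain ⟨N, hN, hNU, hNT⟩ := ih (k + 1) (by omega) (by omega)
      by_cases hkr : k ∈ reps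
      swap
      · rw [le_antisymm (X.Uf_zero hzero hk hkn hkr) (X.Uf_anti (Nat.le_succ k))]
        exact ⟨N, hN, hNU, hNT⟩
      have hVU : X.Uf k ≤ X.Uf T.N := X.Uf_anti hk
      have hUV : ∀ u ∈ X.Uf T.N, ∀ v ∈ X.Uf k, ⁅u, v⁆ ∈ X.Uf (k + 1) := fun u hu v hv =>
        X.Uf_comm hk hu hv
      -- `Uf (k + 1)` is central modulo `N`
      have hbase : ∀ x y, η x ∈ X.Uf (k + 1) → η y ∈ X.Uf k → ⁅x, y⁆ ∈ N := by
        intro x y hx hy
        obtain ⟨n, hn, en⟩ := hN.lift hx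
        rw [comm_congr η hc (a := x) (a' := n) (b := y) (b' := y) en.symm rfl, ← commutatorElement_inv]
        exact inv_mem (comap_commutator_mem η hc hs hNU (hVU hy) hn)
      have hall : ∀ i j, T.N ≤ j → j + i = k + 1 → ∀ x y, η x ∈ X.Uf j → η y ∈ X.Uf k → ⁅x, y⁆ ∈ N := by
        intro i
        induction i with
        | zero =>
          intro j _ e x y hx hy
          exact hbase x y ((show j = k + 1 by omega) ▸ hx) hy
        | succ i ihi =>
          intro j hj e x y hx hy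
          have hW' := fun x y => ihi (j + 1) (by omega) (by omega) x y
          have hjn : j < T.n := by omega
          by_cases hjr : j ∈ reps
          swap
          · exact hW' x y (X.Uf_zero hzero hj hjn hjr hx) hy
          rcases hkill k hkr j hjr (by omega) with ⟨c, hcG, hne⟩ | hsp
          · let t : ↥X.G1 := ⟨tor T F c, hcG⟩
            have ht : t ∈ X.Tg := by
              show tor T F c ∈ T.D.diagonalSubgroup F
              rw [diagonalSubgroup_eq g.toGood]; exact ⟨c, rfl⟩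
            refine CentralSection.pair η hc hs (X.Tg_norm j) (X.Tg_norm k) (X.Uf_anti hj) hVU hUV
              (X.Uf_anti (by omega)) hN hNU hNT hcard (X.layer hj hjn) (X.layer hk hkn) hW' ht ?_ ?_
              x y hx hy
            · intro i hi
              show X.chi j t * X.chi k t ^ p ^ i ≠ 1
              rw [X.chi_eq hjn (c := c) rfl, X.chi_eq hkn (c := c) rfl, ← Units.val_pow_eq_pow_val,
                ← Units.val_mul, Units.val_eq_one.ne]
              exact hne i hi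
            · show X.chi j t ≠ 0
              rw [X.chi_eq hjn (c := c) rfl]
              exact Units.ne_zero _
          · exact hsp N hN hNU hW' x y hx hy
      have hkill' : ∀ x y, η x ∈ X.Uf T.N → η y ∈ X.Uf k → ⁅x, y⁆ ∈ N :=
        hall (k + 1 - T.N) T.N le_rfl (by omega)
      obtain ⟨c, hcG, hne⟩ := hfree k hkr
      have ht : (⟨tor T F c, hcG⟩ : ↥X.G1) ∈ X.Tg := by
        show tor T F c ∈ T.D.diagonalSubgroup F
        rw [diagonalSubgroup_eq g.toGood]; exact ⟨c, rfl⟩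
      obtain ⟨N', -, h1, h2, h3⟩ := CentralSection.step η hc hs (fun a ha b hb => X.Tg_comm ha hb) hVU
        (X.Tg_norm k) (X.Uf_anti (Nat.le_succ k)) hUV hN hNU hNT hkill' ht
        ((X.layer hk hkn).free (X.Tg_norm k) ht (by
          show X.chi k _ ≠ 1
          rw [X.chi_eq hkn (c := c) rfl, Units.val_eq_one.ne]
          exact hne))
      exact ⟨N', h1, h2, h3⟩
  obtain ⟨N, hN, -, -⟩ := key T.n T.N le_rfl (by omega)
  exact ⟨N, hN⟩

theorem frame_U (hnb : X.nb = 2) (h : ℕ) : (X.frame hnb h).U = X.Uf T.N := rfl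

end Twist

end Tab

end Cfsg.Agent.Chev
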