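import Cfsg.Agent.Lib.CentralSection.TwD4Rank
import Cfsg.Agent.Lib.CentralSection.TwSection
import Cfsg.Agent.Lib.CentralSection.Fixed
import Cfsg.Agent.Lib.Lie.TwClosure

/-!
# The long root groups of `³D₄(q)` in central extensions

Lifts of a long root group commute: a torus element fixing it scales two long root groups whose
commutators fill it, and the Weyl group moves this to the other long roots.
-/

set_option autoImplicit false
set_option maxRecDepth 20000
set_option linter.unusedSectionVars false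
set_option linter.style.haveILetI false

namespace Cfsg.Agent.Chev.TwD4

open Cfsg.Lie
open Tab
open Cfsg.Agent.CentralSection
open Matrix (SpecialLinearGroup)
open SL2Pres (up low wS diagS)
open scoped commutatorElement

variable {F : Type*} [Field F] [Fintype F] {q : ℕ} (hq : IsPrimePow q) (hK : Fintype.card F = q ^ 3)

theorem nN : D4Data.tab.N = 12 ∧ D4Data.tab.n = 24 := by decide +kernel

theorem long_facts : ∀ k ∈ ([14, 22, 23] : List ℕ), k < D4Data.tab.n ∧ D4Data.tab.N ≤ k ∧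
    D4Data.symA.π.getD k 0 = k ∧ D4Data.symA.ζ.getD k 1 = 1 := by
  decide +kernel

/-- a long root group -/
noncomputable def Rk (k : ℕ) : Subgroup ↥(X hq hK).G1 :=
  (genS g0 F {k}).subgroupOf (X hq hK).G1

theorem genS_single {k : ℕ} {x : GL D4Data.tab.D.Idx F} (hx : x ∈ genS g0 F {k}) :
    ∃ a, x = xg g0 k a := by
  refine genS_induction g0 (p := fun x => ∃ a, x = xg g0 k a) ⟨0, (xg_zero g0 k).symm⟩ ?_ hx
  rintro r hr t y ⟨a, rfl⟩
  rw [Set.mem_singleton_iff] at hr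
  subst hr
  exact ⟨t + a, xg_add g0 r t a⟩

theorem Rk_form {k : ℕ} (hk : k ∈ ([14, 22, 23] : List ℕ)) {x : ↥(X hq hK).G1} (hx : x ∈ Rk hq hK k) :
    ∃ a : F, a ^ q = a ∧ (x : GL D4Data.tab.D.Idx F) = xg g0 k a := by
  obtain ⟨hkn, -, hπ, hζ⟩ := long_facts k hk
  obtain ⟨a, e⟩ := genS_single (x := (x : GL D4Data.tab.D.Idx F)) hx
  refine ⟨a, ?_, e⟩
  have h := (twisted_fixed hq hK _ x.2).2
  rw [e] at h
  simp only [sigma] at h
  rw [graphσ_xg g0 _ _ hkn, hπ, hζ, psi_apply, Int.cast_one, one_mul] at h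
  exact xg_injective g0 hkn h

theorem sign_fixed (hq : IsPrimePow q) (hK : Fintype.card F = q ^ 3) {ε : Fˣ} (hε : ε * ε = 1) {a : F}
    (ha : a ^ q = a) : ((ε : F) * a) ^ q = (ε : F) * a := by
  rw [mul_pow, ha]
  congr 1
  have : (ε : F) * ε = 1 := by rw [← Units.val_mul, hε, Units.val_one]
  rcases mul_self_eq_one_iff.1 this with h | h <;> simp [h, neg_one_pow hq hK]

/-- the steps between the long roots -/
theorem steps_ok : D4Data.tab.rw' (wd 1) 14 = 22 ∧ D4Data.tab.rw' (wd 0) 22 = 23 ∧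
    D4Data.tab.rw' (wd 0) 23 = 22 ∧ D4Data.tab.rw' (wd 1) 22 = 14 := by
  decide +kernel

include hq hK in
theorem xlong_mem {k : ℕ} (hk : k ∈ ([14, 22, 23] : List ℕ)) {a : F} (ha : a ^ q = a) :
    xg g0 k a ∈ tw F q := by
  obtain ⟨s14, s22, -, -⟩ := steps_ok
  have step : ∀ b < 2, ∀ r < D4Data.tab.n, (∀ a : F, a ^ q = a → xg g0 r a ∈ tw F q) →
      ∀ a : F, a ^ q = a → xg g0 (D4Data.tab.rw' (wd b) r) a ∈ tw F q := by
    intro b hb r hr h a ha
    obtain ⟨ε, hε, hc⟩ := nWd_conj (F := F) g0 (wd_wd b) hr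
    have := mul_mem (mul_mem (n_mem hq hK b hb) (h _ (sign_fixed hq hK hε ha)))
      (inv_mem (n_mem hq hK b hb))
    rwa [(hc _).1, ← mul_assoc, ← Units.val_mul, hε, Units.val_one, one_mul] at this
  have h14 : ∀ a : F, a ^ q = a → xg g0 14 a ∈ tw F q := fun a ha => mid_mem (Or.inl rfl) ha
  have h22 : ∀ a : F, a ^ q = a → xg g0 22 a ∈ tw F q := s14 ▸ step 1 (by norm_num) 14 lt14 h14
  have h23 : ∀ a : F, a ^ q = a → xg g0 23 a ∈ tw F q :=
    s22 ▸ step 0 (by norm_num) 22 (long_facts 22 (by simp)).1 h22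
  simp only [List.mem_cons, List.not_mem_nil, or_false] at hk
  rcases hk with rfl | rfl | rfl
  exacts [h14 a ha, h22 a ha, h23 a ha]

/-- a long root element -/
noncomputable def xl {k : ℕ} (hk : k ∈ ([14, 22, 23] : List ℕ)) {a : F} (ha : a ^ q = a) : ↥(X hq hK).G1 :=
  ⟨xg g0 k a, xlong_mem hq hK hk ha⟩

theorem xl_mem {k : ℕ} (hk : k ∈ ([14, 22, 23] : List ℕ)) {a : F} (ha : a ^ q = a) :
    xl hq hK hk ha ∈ Rk hq hK k :=
  show xg g0 k a ∈ genS g0 F ({k} : Set ℕ) from xg_mem_genS g0 (Set.mem_singleton k) a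

theorem Rk_conj (b : Fin 2) {k : ℕ} (hk : k < D4Data.tab.n) {x : ↥(X hq hK).G1} (hx : x ∈ Rk hq hK k) :
    (fr hq hK).n b * x * ((fr hq hK).n b)⁻¹ ∈ Rk hq hK (D4Data.tab.rw' (wd b) k) := by
  have h := Subgroup.mem_map_of_mem (MulAut.conj (nWd g0 F (wd b))).toMonoidHom
    (show (x : GL D4Data.tab.D.Idx F) ∈ genS g0 F ({k} : Set ℕ) from hx)
  rw [genS_map_nWd g0 (wd_wd b) (fun r hr => (Set.mem_singleton_iff.1 hr) ▸ hk), Set.image_singleton] at h
  show (((fr hq hK).n b * x * ((fr hq hK).n b)⁻¹ : ↥(X hq hK).G1) : GL D4Data.tab.D.Idx F) ∈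
    genS g0 F ({D4Data.tab.rw' (wd b) k} : Set ℕ)
  rw [Subgroup.coe_mul, Subgroup.coe_mul, Subgroup.coe_inv]
  exact h

/-- the torus element with one parameter -/
noncomputable def tu (u : Fˣ) : ↥(X hq hK).G1 :=
  ⟨tor D4Data.tab F (par q (u, ⟨1, by simp⟩)), par_mem hq hK _⟩

/-- the norm -/
def nrm (q : ℕ) (u : Fˣ) : Fˣ := u * u ^ q * (u ^ q) ^ q

theorem wt_long (u : Fˣ) :
    wt D4Data.tab F (par q (u, (⟨1, by simp⟩ : {u : Fˣ // (u : F) ^ q = u}))) 14 = (nrm q u)⁻¹ ∧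
    wt D4Data.tab F (par q (u, (⟨1, by simp⟩ : {u : Fˣ // (u : F) ^ q = u}))) 22 = nrm q u ∧
    wt D4Data.tab F (par q (u, (⟨1, by simp⟩ : {u : Fˣ // (u : F) ^ q = u}))) 23 = 1 := by
  have h : ([14, 22, 23] : List ℕ).map (fun r => (List.range 4).map fun j => D4Data.tab.A j r) =
      [[-1, 2, -1, -1], [1, -1, 1, 1], [0, 1, 0, 0]] := by decide +kernel
  simp only [List.range_succ, List.range_zero, List.nil_append, List.cons_append, List.map_cons,
    List.map_nil, List.cons.injEq, and_true] at h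
  simp [wt, show D4Data.tab.l = 4 from rfl, Finset.prod_range_succ, h, par, nrm, mul_comm, mul_left_comm]

theorem tu_comm {k : ℕ} (hk : k ∈ ([14, 22, 23] : List ℕ)) (u : Fˣ) {a : F} (ha : a ^ q = a)
    {b : F} (hb : b ^ q = b)
    (e : ((wt D4Data.tab F (par q (u, (⟨1, by simp⟩ : {u : Fˣ // (u : F) ^ q = u}))) k : F) - 1) * a = b) :
    ⁅tu hq hK u, xl hq hK hk ha⁆ = xl hq hK hk hb := by
  refine Subtype.ext ?_
  rw [show ((⁅tu hq hK u, xl hq hK hk ha⁆ : ↥(X hq hK).G1) : GL D4Data.tab.D.Idx F) =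
    ⁅tor D4Data.tab F (par q (u, ⟨1, by simp⟩)), xg g0 k a⁆ from
      map_commutatorElement (X hq hK).G1.subtype _ _]
  rw [commutatorElement_def, tor_xg g0 _ (long_facts k hk).1, xg_inv, xg_add]
  show _ = xg g0 k b
  rw [← e]
  congr 1
  ring

theorem comm14_22 : ∃ C : F, (C = 1 ∨ C = -1) ∧ ∀ b : F,
    (xg g0 14 (1 : F) * xg g0 22 b)⁻¹ * (xg g0 22 b * xg g0 14 1) = xg g0 23 (C * b) := by
  have hd : D4Data.tab.cTerms 14 22 = [(23, 1, 1, 1)] := by decide +kernel
  have hlt : 14 < D4Data.tab.n ∧ 22 < D4Data.tab.n ∧ (22 : ℕ) ≠ D4Data.tab.neg 14 := by decide +kernel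
  refine ⟨-1, Or.inr rfl, fun b => ?_⟩
  have e := xg_comm gA hlt.1 hlt.2.1 (by norm_num) hlt.2.2 (1 : F) b
  simp only [cVal, hd, List.map_cons, List.map_nil, List.prod_cons, List.prod_nil, mul_one,
    Int.cast_one, pow_one, one_mul, one_pow] at e
  rw [e, inv_mul_cancel_left]

variable {Y : Type*} [Group Y] (η : Y →* ↥(X hq hK).G1)

/-- exact commutation of all lifts -/
def Ex (A B : Subgroup ↥(X hq hK).G1) : Prop := ∀ x y, η x ∈ A → η y ∈ B → ⁅x, y⁆ = 1

variable (hs : Function.Surjective η) (hc : η.ker ≤ Subgroup.center Y)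

include hs hc in
theorem Ex_conj {A B : Subgroup ↥(X hq hK).G1} (g : ↥(X hq hK).G1) (hAB : ∀ v ∈ B, g * v * g⁻¹ ∈ A)
    (h : Ex hq hK η A A) : Ex hq hK η B B := by
  intro x y hx hy
  obtain ⟨l, rfl⟩ := hs g
  have h1 := h (l * x * l⁻¹) (l * y * l⁻¹) (by simpa using hAB _ hx) (by simpa using hAB _ hy)
  rw [show ⁅l * x * l⁻¹, l * y * l⁻¹⁆ = l * ⁅x, y⁆ * l⁻¹ by simp only [commutatorElement_def]; group] at h1
  exact conj_eq_one_iff.1 h1

include hs hc in
theorem ex23 : Ex hq hK η (Rk hq hK 23) (Rk hq hK 23) := by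
  intro x y hx hy
  obtain ⟨a, ha, ex⟩ := Rk_form hq hK (k := 23) (by simp) hx
  obtain ⟨b, hb, ey⟩ := Rk_form hq hK (k := 23) (by simp) hy
  rcases le_or_gt q 2 with hq2 | hq2
  · -- the group has order two
    have hq2' : q = 2 := le_antisymm hq2 hq.two_le
    subst hq2'
    have hcases : ∀ c : F, c ^ 2 = c → c = 0 ∨ c = 1 := fun c hc => by
      have : c * (c - 1) = 0 := by linear_combination hc
      rcases mul_eq_zero.1 this with h | h
      · exact Or.inl h
      · exact Or.inr (sub_eq_zero.1 h)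
    have h1 : η x = 1 ∨ η y = 1 ∨ η x = η y := by
      rcases hcases a ha with rfl | rfl
      · exact Or.inl (Subtype.ext (ex.trans (xg_zero g0 _)))
      · rcases hcases b hb with rfl | rfl
        · exact Or.inr (Or.inl (Subtype.ext (ey.trans (xg_zero g0 _))))
        · exact Or.inr (Or.inr (Subtype.ext (ex.trans ey.symm)))
    rcases h1 with h | h | h
    · rw [comm_congr η hc (a := x) (a' := 1) (b := y) (b' := y) (by rw [h, map_one]) rfl]
      simp [commutatorElement_def]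
    · rw [comm_congr η hc (a := x) (a' := x) (b := y) (b' := 1) rfl (by rw [h, map_one])]
      simp [commutatorElement_def]
    · rw [comm_congr η hc (a := x) (a' := y) (b := y) (b' := y) h rfl]
      simp [commutatorElement_def]
  refine Cg_commute η hc ?_
  -- a torus element fixing `y` and moving the other long roots
  obtain ⟨g, hg⟩ := IsCyclic.exists_ofOrder_eq_natCard (α := Fˣ)
  have hcard : orderOf g = q ^ 3 - 1 := by
    rw [hg, TwField.card_units (q := q ^ 3) (k := 1) (by rw [hK, pow_one]), pow_one]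
  set ν := nrm q g with hν
  have hν1 : ν ≠ 1 := by
    intro e
    rw [hν, nrm] at e
    have e' : g ^ (1 + q + q * q) = 1 := by rw [pow_add, pow_add, pow_one, pow_mul]; exact e
    have := Nat.le_of_dvd (by positivity) (orderOf_dvd_of_pow_eq_one e')
    rw [hcard] at this
    have h3 : 3 * (q * q) ≤ q ^ 3 := by
      rw [show q ^ 3 = q * (q * q) by ring]; exact Nat.mul_le_mul_right _ hq2
    have hq3 : 1 ≤ q ^ 3 := Nat.one_le_pow _ _ hq.pos
    have hqq : q ≤ q * q := Nat.le_mul_self q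
    have h4 : 4 ≤ q * q := le_trans (by norm_num) (Nat.mul_le_mul (show 2 ≤ q by omega) (show 2 ≤ q by omega))
    omega
  have hνq : (ν : F) ^ q = ν := by
    rw [hν, nrm, Units.val_mul, Units.val_mul, Units.val_pow_eq_pow_val, Units.val_pow_eq_pow_val,
      Units.val_pow_eq_pow_val, mul_pow, mul_pow, pow_three hq hK]
    ring
  have hyfix : ∀ {r : ℕ} (hr : r ∈ ([14, 22, 23] : List ℕ)) {c : F} (hc' : c ^ q = c),
      D4Data.tab.checkComPair [r] [23] = true → xl hq hK hr hc' * η y = η y * xl hq hK hr hc' := by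
    intro r hr c hc' hcom
    refine Subtype.ext ?_
    rw [Subgroup.coe_mul, Subgroup.coe_mul, ey]
    exact (genS_commute gA hcom (xg_mem_genS g0 (S := {s | s ∈ [r]}) (r := r) (List.mem_singleton_self r) c)
      (xg_mem_genS g0 (S := {s | s ∈ [23]}) (r := 23) (List.mem_singleton_self 23) b)).eq
  have htfix : tu hq hK g * η y = η y * tu hq hK g := by
    refine Subtype.ext ?_
    rw [Subgroup.coe_mul, Subgroup.coe_mul, ey]
    show tor D4Data.tab F _ * xg g0 23 b = xg g0 23 b * tor D4Data.tab F _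
    rw [← mul_inv_eq_iff_eq_mul, tor_xg g0 _ (long_facts 23 (by simp)).1, (wt_long g).2.2,
      Units.val_one, one_mul]
  have hfill : ∀ {r : ℕ} (hr : r ∈ ([14, 22, 23] : List ℕ)), D4Data.tab.checkComPair [r] [23] = true →
      ((wt D4Data.tab F (par q (g, (⟨1, by simp⟩ : {u : Fˣ // (u : F) ^ q = u}))) r : F) ≠ 1) →
      ((wt D4Data.tab F (par q (g, (⟨1, by simp⟩ : {u : Fˣ // (u : F) ^ q = u}))) r : F) ^ q =
        (wt D4Data.tab F (par q (g, (⟨1, by simp⟩ : {u : Fˣ // (u : F) ^ q = u}))) r : F)) →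
      ∀ c : F, ∀ hc' : c ^ q = c, xl hq hK hr hc' ∈ Cg η y := by
    intro r hr hcom hw hwq c hc'
    set w := (wt D4Data.tab F (par q (g, (⟨1, by simp⟩ : {u : Fˣ // (u : F) ^ q = u}))) r : F) with hwdef
    have hne : w - 1 ≠ 0 := sub_ne_zero.2 hw
    have ha' : (c / (w - 1)) ^ q = c / (w - 1) := by
      rw [div_pow, hc', ← psi_apply hq hK (w - 1), map_sub, map_one, psi_apply, hwq]
    rw [← tu_comm hq hK hr g ha' hc' (mul_div_cancel₀ c hne)]
    exact comm_mem_Cg η hc hs (hyfix hr ha' hcom) htfix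
  obtain ⟨w14, w22, -⟩ := wt_long (q := q) g
  have h14 := hfill (r := 14) (by simp) (by decide +kernel)
    (by rw [w14, ← hν, Ne, Units.val_eq_one, inv_eq_one]; exact hν1)
    (by rw [w14, ← hν, Units.val_inv_eq_inv_val, inv_pow, hνq])
  have h22 := hfill (r := 22) (by simp) (by decide +kernel)
    (by rw [w22, ← hν, Ne, Units.val_eq_one]; exact hν1)
    (by rw [w22, ← hν, hνq])
  obtain ⟨C, hC, hform⟩ := comm14_22 (F := F)
  have hCq : (C * a) ^ q = C * a := by
    rcases hC with rfl | rfl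
    · rw [one_mul, ha]
    · rw [mul_pow, neg_one_pow hq hK, ha]
  set u := xl hq hK (k := 14) (by simp) (one_pow q : (1 : F) ^ q = 1) with hu
  set v := xl hq hK (k := 22) (by simp) hCq with hv
  have e : η x = (u * v)⁻¹ * (v * u) := by
    refine Subtype.ext ?_
    rw [ex, Subgroup.coe_mul, Subgroup.coe_inv, Subgroup.coe_mul, Subgroup.coe_mul]
    show _ = (xg g0 14 (1 : F) * xg g0 22 (C * a))⁻¹ * (xg g0 22 (C * a) * xg g0 14 1)
    rw [hform, ← mul_assoc]
    rcases hC with rfl | rfl <;> simp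
  rw [e]
  exact mul_mem (inv_mem (mul_mem (h14 1 _) (h22 _ hCq))) (mul_mem (h22 _ hCq) (h14 1 _))

include hs hc in
theorem ex_long : ∀ k ∈ ([14, 22, 23] : List ℕ), Ex hq hK η (Rk hq hK k) (Rk hq hK k) := by
  obtain ⟨s14, s22, s23, s22'⟩ := steps_ok
  have h23 := ex23 hq hK η hs hc
  have h22 : Ex hq hK η (Rk hq hK 22) (Rk hq hK 22) :=
    Ex_conj hq hK η hs hc ((fr hq hK).n 0) (fun v hv => by
      have h := Rk_conj hq hK 0 (long_facts 22 (by simp)).1 hv
      rwa [show D4Data.tab.rw' (wd ((0 : Fin 2) : ℕ)) 22 = 23 from s22] at h) h23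
  have h14 : Ex hq hK η (Rk hq hK 14) (Rk hq hK 14) :=
    Ex_conj hq hK η hs hc ((fr hq hK).n 1) (fun v hv => by
      have h := Rk_conj hq hK 1 lt14 hv
      rwa [show D4Data.tab.rw' (wd ((1 : Fin 2) : ℕ)) 14 = 22 from s14] at h) h22
  intro k hk
  simp only [List.mem_cons, List.not_mem_nil, or_false] at hk
  rcases hk with rfl | rfl | rfl <;> assumption

/-- the orbit map -/
def piD (r : ℕ) : ℕ := D4Data.symA.π.getD r 0

/-- the roots above a long one common to an iterate -/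
def longR : ℕ → List ℕ
  | 14 => [14, 15, 16, 17, 19, 20, 21, 22, 23]
  | 22 => [22, 23]
  | 23 => [23]
  | _ => []

theorem longR_ok : ∀ k ∈ ([14, 22, 23] : List ℕ),
    (∀ r ∈ imgList D4Data.tab piD 1 k, 12 ≤ r ∧ r < 24 ∧
      ∀ s ∈ imgList D4Data.tab piD 1 k, ∀ c ∈ D4Data.tab.cTerms r s, c.1 ∈ imgList D4Data.tab piD 1 k) ∧
    (∀ r ∈ imgList D4Data.tab piD 1 k, k ≤ r → r ∈ longR k) ∧
    (∀ r ∈ longR k, k ≤ r ∧ r < 24 ∧
      (∀ s ∈ longR k, ∀ c ∈ D4Data.tab.cTerms r s, c.1 ∈ longR k) ∧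
      (k + 1 ≤ r → piD r < 24 ∧ k + 1 ≤ piD r)) := by
  decide +kernel

/-- a long layer is its root group -/
theorem long_split {k : ℕ} (hk : k ∈ ([14, 22, 23] : List ℕ)) {x : ↥(X hq hK).G1}
    (hx : x ∈ (X hq hK).Uf k) :
    ∃ z ∈ Rk hq hK k, z⁻¹ * x ∈ (X hq hK).Uf (k + 1) := by
  obtain ⟨hkn, hkN, hπ, hζ⟩ := long_facts k hk
  obtain ⟨himg, hinter, hR⟩ := longR_ok k hk
  obtain ⟨eN, en⟩ := nN
  set a := (x : GL D4Data.tab.D.Idx F) with ha
  have hxI : a ∈ genS g0 F (Set.Ico k D4Data.tab.n) := hx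
  have hxσ := ((X hq hK).σ_iter (S := Set.Ico k D4Data.tab.n) (fun r hr => hr.2) hxI
    ((X hq hK).G1_le _ x.2).2 1).1
  have himgmem : ∀ r, r ∈ (X hq hK).π^[1] '' Set.Ico k D4Data.tab.n ↔ r ∈ imgList D4Data.tab piD 1 k := fun r => by
    simp only [imgList, List.mem_map, List.mem_range'_1, Set.mem_image, Set.mem_Ico, Function.iterate_one]
    constructor <;> rintro ⟨s, hs, e⟩ <;> exact ⟨s, ⟨hs.1, by omega⟩, e⟩
  have hA : BTi.Cl D4Data.tab ((X hq hK).π^[1] '' Set.Ico k D4Data.tab.n) :=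
    ⟨fun r hr => ⟨by rw [eN]; exact (himg r ((himgmem r).1 hr)).1, by rw [en]; exact (himg r ((himgmem r).1 hr)).2.1⟩,
      fun r hr s hs c hc => (himgmem _).2 ((himg r ((himgmem r).1 hr)).2.2 s ((himgmem s).1 hs) c hc)⟩
  have hIco : ∀ i, D4Data.tab.N ≤ i → BTi.Cl D4Data.tab (Set.Ico i D4Data.tab.n) := fun i hi => by
    have e : Set.Ico D4Data.tab.N D4Data.tab.n ∩ Set.Ico i D4Data.tab.n = Set.Ico i D4Data.tab.n :=
      Set.inter_eq_right.2 fun r hr => ⟨hi.trans hr.1, hr.2⟩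
    exact e ▸ (BTi.cl_pos g0).ico g0 (k := i)
  have hRc : BTi.Cl D4Data.tab {r | r ∈ longR k} :=
    ⟨fun r hr => ⟨by rw [eN] at hkN ⊢; have := (hR r hr).1; omega, by rw [en]; exact (hR r hr).2.1⟩,
      fun r hr s hs c hc => (hR r hr).2.2.1 s hs c hc⟩
  have hxR : a ∈ genS g0 F {r | r ∈ longR k} :=
    genS_mono g0 (fun r hr => hinter r ((himgmem r).1 hr.1) hr.2.1) (BTi.genS_inter gA hA (hIco k hkN) hxσ hxI)
  obtain ⟨c, w, hw, e⟩ := exists_split gA hkN hxI
  have hkR : k ∈ longR k := by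
    revert hk; clear * -
    intro hk
    simp only [List.mem_cons, List.not_mem_nil, or_false] at hk
    rcases hk with rfl | rfl | rfl <;> decide
  have hwR : w ∈ genS g0 F {r | r ∈ longR k} := by
    have : w = (xg g0 k c)⁻¹ * a := by rw [e, inv_mul_cancel_left]
    rw [this]
    exact mul_mem (inv_mem (xg_mem_genS g0 (S := {r | r ∈ longR k}) hkR c)) hxR
  have hwI := BTi.genS_inter gA hRc (hIco (k + 1) (by omega)) hwR hw
  have hσw : sigma hq hK w ∈ genS g0 F (Set.Ico (k + 1) D4Data.tab.n) := by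
    have h := (X hq hK).σ_genS (fun r hr => hr.2.2) hwI
    refine genS_mono g0 ?_ h
    rintro _ ⟨r, hr, rfl⟩
    have := (hR r hr.1).2.2.2 hr.2.1
    exact ⟨this.2, by rw [en]; exact this.1⟩
  have hfix : sigma hq hK a = a := (twisted_fixed hq hK _ x.2).2
  rw [e, map_mul] at hfix
  rw [show sigma hq hK (xg g0 k c) = xg g0 k (c ^ q) by
    simp only [sigma]; rw [graphσ_xg g0 _ _ hkn, hπ, hζ, psi_apply, Int.cast_one, one_mul]] at hfix
  have hc' : c ^ q = c := by
    have h : xg g0 k (-c + c ^ q) = w * (sigma hq hK w)⁻¹ := by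
      rw [← xg_add, ← xg_inv]
      calc (xg g0 k c)⁻¹ * xg g0 k (c ^ q) =
            (xg g0 k c)⁻¹ * (xg g0 k (c ^ q) * sigma hq hK w) * (sigma hq hK w)⁻¹ := by group
        _ = _ := by rw [hfix]; group
    have h0 := lowest_coeff g0 hkN hkn (t := -c + c ^ q) (by rw [h]; exact mul_mem hw (inv_mem hσw))
    linear_combination h0
  refine ⟨xl hq hK hk hc', xl_mem hq hK hk hc', ?_⟩
  show (((xl hq hK hk hc')⁻¹ * x : ↥(X hq hK).G1) : GL D4Data.tab.D.Idx F) ∈
    genS g0 F (Set.Ico (k + 1) D4Data.tab.n)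
  rw [Subgroup.coe_mul, Subgroup.coe_inv]
  show (xg g0 k c)⁻¹ * a ∈ genS g0 F (Set.Ico (k + 1) D4Data.tab.n)
  rw [e, inv_mul_cancel_left]
  exact hw

theorem Rk_le_Uf {k : ℕ} (hk : k ∈ ([14, 22, 23] : List ℕ)) : Rk hq hK k ≤ (X hq hK).Uf k := fun x hx =>
  genS_mono g0 (S := ({k} : Set ℕ)) (S' := Set.Ico k D4Data.tab.n)
    (fun r hr => by rw [Set.mem_singleton_iff] at hr; subst hr; exact ⟨le_rfl, (long_facts _ hk).1⟩) hx

include hs hc in
/-- lifts over a long layer commute modulo a section of the higher ones -/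
theorem special_long {k : ℕ} (hk : k ∈ ([14, 22, 23] : List ℕ)) : (X hq hK).Special η k k := by
  intro N hN hNU hW x y hx hy
  obtain ⟨za, hza, hxa⟩ := long_split hq hK hk hx
  obtain ⟨zb, hzb, hyb⟩ := long_split hq hK hk hy
  obtain ⟨a, rfl⟩ := hs za
  obtain ⟨b, rfl⟩ := hs zb
  set a' := a⁻¹ * x with ha'
  set b' := b⁻¹ * y with hb'
  have hxe : x = a * a' := by rw [ha', mul_inv_cancel_left]
  have hye : y = b * b' := by rw [hb', mul_inv_cancel_left]
  have hUN : (X hq hK).Uf k ≤ (X hq hK).Uf D4Data.tab.N := (X hq hK).Uf_anti (long_facts k hk).2.1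
  rw [hxe, hye]
  refine layer_kill η hc hNU (hUN (Rk_le_Uf hq hK hk hza)) (hUN (Rk_le_Uf hq hK hk hzb))
    (ex_long hq hK η hs hc k hk a b hza hzb) (hW a' b (by simpa [ha'] using hxa) (Rk_le_Uf hq hK hk hzb)) ?_
  rw [← hxe, ← commutatorElement_inv]
  exact inv_mem (hW b' x (by simpa [hb'] using hyb) hx)

end Cfsg.Agent.Chev.TwD4
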