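import Cfsg.Agent.Lib.CentralSection.TwD4TwoMain

/-!
# The multiplier of `³D₄(q)`
-/

set_option autoImplicit false
set_option linter.unusedSectionVars false
set_option linter.style.haveILetI false

namespace Cfsg.Agent.Chev.TwD4

open Cfsg.Lie
open Tab
open Cfsg.Agent.CentralSection

variable {F : Type*} [Field F] [Fintype F] {q : ℕ} (hq : IsPrimePow q) (hK : Fintype.card F = q ^ 3)

include hq hK in
/-- every central extension splits over `U` -/
theorem section_U {p f : ℕ} [Fact p.Prime] [CharP F p] (hqp : q = p ^ f) {Y : Type*} [Group Y]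
    (η : Y →* ↥(X hq hK).G1) (hs : Function.Surjective η) (hc : η.ker ≤ Subgroup.center Y) :
    ∃ N : Subgroup Y, IsSection η ((X hq hK).Uf D4Data.tab.N) N := by
  rcases le_or_gt q 2 with h2 | h2
  · obtain rfl : q = 2 := le_antisymm h2 hq.two_le
    have hf : f ≠ 0 := fun h => by rw [h, pow_zero] at hqp; omega
    have hp2 : p = 2 := by
      have : p ∣ 2 := hqp ▸ dvd_pow_self p hf
      exact (Nat.prime_dvd_prime_iff_eq Fact.out Nat.prime_two).1 this
    subst hp2
    rw [nN.1]
    exact section_two hq hK η hs hc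
  · refine (X hq hK).exists_section η hs hc (p := p) (e := 3 * f)
      (hK.trans (by rw [hqp, ← pow_mul, mul_comm])) zeroOK (weights_free hq hK h2) fun k hk j hj hjk => ?_
    rcases weights_pair hq hK (p := p) Fact.out hqp h2 k hk j hj hjk with h | ⟨rfl, h⟩
    · exact Or.inl h
    · exact Or.inr (special_long hq hK η hs hc h)

include hq hK in
/-- the multiplier of `³D₄(q)` is trivial -/
theorem inf_commutator {p f : ℕ} [Fact p.Prime] [CharP F p] (hqp : q = p ^ f) {E : Type*} [Group E]
    (ξ : E →* ↥(tw F q)) (hs : Function.Surjective ξ) (hc : ξ.ker ≤ Subgroup.center E) :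
    ξ.ker ⊓ commutator E = ⊥ := by
  classical
  refine inf_commutator_of_frame (G := ↥(X hq hK).G1) ξ hs hc ((X hq hK).perfect (derived hq hK))
    (fr hq hK) (frame_ax hq hK hqp) ?_ ?_ ?_
  · have hU : Nat.card (fr hq hK).U = q ^ 12 := by
      rw [← card_pos hq hK, posUnipotent_eq g0, show (fr hq hK).U =
        (genS g0 F (Set.Ico D4Data.tab.N D4Data.tab.n)).subgroupOf (X hq hK).G1 from rfl,
        ← Subgroup.inf_subgroupOf_right]
      exact Nat.card_congr (Subgroup.subgroupOfEquivOfLe inf_le_right).toEquiv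
    have h := (fr hq hK).U.card_mul_index
    rw [hU, show Nat.card ↥(X hq hK).G1 = _ from card_twisted hq hK, mul_assoc, mul_assoc] at h
    rw [Nat.eq_of_mul_eq_mul_left (pow_pos hq.pos 12) h, ← mul_assoc]
    have hp : p.Prime := Fact.out
    have hpq : p ∣ q := by
      rw [hqp]; exact dvd_pow_self p (fun e => by rw [e, pow_zero] at hqp; exact hq.one_lt.ne' hqp)
    have hsub : ∀ k, k ≠ 0 → ¬ p ∣ q ^ k - 1 := fun k hk h => by
      have h1 := Nat.dvd_sub (dvd_pow hpq hk) h
      rw [Nat.sub_sub_self (Nat.one_le_pow _ _ hq.pos)] at h1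
      exact hp.not_dvd_one h1
    rw [hp.dvd_mul, hp.dvd_mul]
    rintro ((h | h) | h)
    · exact hsub 2 (by norm_num) h
    · exact hsub 6 (by norm_num) h
    · have h8 : p ∣ q ^ 8 + q ^ 4 := dvd_add (dvd_pow hpq (by norm_num)) (dvd_pow hpq (by norm_num))
      exact hp.not_dvd_one ((Nat.dvd_add_right h8).1 h)
  · intro i r hr hrp P
    exact L_sylow hq hK hr hrp i P
  · intro Y _ _ η hηs hηc
    exact section_U hq hK hqp η hηs hηc

end Cfsg.Agent.Chev.TwD4
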