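import Cfsg.Agent.Lib.CentralSection.TwFrame
import Cfsg.Agent.Lib.CentralSection.RankOneSL2
import Cfsg.Agent.Lib.ChevOdd.RootSL2
import Cfsg.Agent.Lib.Lie.TwD4

/-!
# The frame of `³D₄(q)`

The rank one groups lie in injective images of `SL₂` of the field with `q³` elements.
-/

set_option autoImplicit false
set_option maxRecDepth 20000
set_option linter.unusedSectionVars false
set_option linter.style.haveILetI false

namespace Cfsg.Agent.Chev.TwD4

open Cfsg.Lie
open Tab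
open Cfsg.Agent.CentralSection
open Matrix (SpecialLinearGroup)
open SL2Pres (up low wS diagS)

theorem gW : D4Data.tab.GoodW phiK [(6, 22, 0), (1, 23, 0), (3, 22, 0), (2, 22, 0)] :=
  ⟨⟨⟨D4Data.good, by decide +kernel⟩, by decide +kernel⟩, by decide +kernel⟩

section

variable {F : Type*} [Field F]

theorem exists_hom0 {r : ℕ} (hr : r < D4Data.tab.n) :
    ∃ φ : SpecialLinearGroup (Fin 2) F →* GL D4Data.tab.D.Idx F,
      (∀ t, φ (up t) = xg g0 r t) ∧ ∀ t, φ (low t) = xg g0 (D4Data.tab.neg r) t := by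
  have hrel : ∀ s < D4Data.tab.n, ∀ t u : F, t ≠ 0 →
      (xg g0 s t * xg g0 (D4Data.tab.neg s) (-t⁻¹) * xg g0 s t) * xg g0 s u *
        (xg g0 s t * xg g0 (D4Data.tab.neg s) (-t⁻¹) * xg g0 s t)⁻¹ =
          xg g0 (D4Data.tab.neg s) (-(t⁻¹ ^ 2 * u)) :=
    fun s hs t u ht => by
      have h := congrArg (Tab.Cov.θ0 gA F) (Tab.Cov.sn_conj_self gW s hs t u ht)
      simpa [Tab.Cov.sn, Tab.Cov.θ0_sx] using h
  let D : SL2Pres.SData F (GL D4Data.tab.D.Idx F) :=
    { X := xg g0 r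
      Y := xg g0 (D4Data.tab.neg r)
      addX := xg_add g0 r
      addY := xg_add g0 (D4Data.tab.neg r)
      relX := hrel r hr
      relY := fun t u ht => by
        have h := hrel (D4Data.tab.neg r) (neg_lt hr) t u ht
        rwa [Tab.neg_neg hr] at h }
  exact SL2Pres.exists_hom' D fun s t hs ht =>
    (hE_mul g0 hr (Units.mk0 s hs) (Units.mk0 t ht)).symm

/-- the `SL₂` of a root -/
noncomputable def rh (F : Type*) [Field F] {r : ℕ} (hr : r < D4Data.tab.n) :
    SpecialLinearGroup (Fin 2) F →* GL D4Data.tab.D.Idx F :=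
  (exists_hom0 hr).choose

theorem rh_up {r : ℕ} (hr : r < D4Data.tab.n) (t : F) : rh F hr (up t) = xg g0 r t :=
  (exists_hom0 hr).choose_spec.1 t

theorem rh_low {r : ℕ} (hr : r < D4Data.tab.n) (t : F) :
    rh F hr (low t) = xg g0 (D4Data.tab.neg r) t :=
  (exists_hom0 hr).choose_spec.2 t

theorem rh_wS {r : ℕ} (hr : r < D4Data.tab.n) : rh F hr (wS F) = nE g0 r (1 : F) := by
  rw [SL2Img.wS_root, map_mul, map_mul, rh_up, rh_low]
  simp [nE]

theorem rh_diag {r : ℕ} (hr : r < D4Data.tab.n) (u : Fˣ) :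
    rh F hr (diagS F u) = hE g0 r (u : F) := by
  rw [ChevOdd.diagS_eq]
  simp only [map_mul, rh_up, rh_low, hE, nE]

theorem rh_commute {r s : ℕ} (hr : r < D4Data.tab.n) (hs : s < D4Data.tab.n)
    (h : D4Data.tab.checkComPair [r, D4Data.tab.neg r] [s, D4Data.tab.neg s] = true)
    (x y : SpecialLinearGroup (Fin 2) F) : Commute (rh F hr x) (rh F hs y) := by
  simp only [checkComPair, List.all_cons, List.all_nil, Bool.and_true, Bool.and_eq_true, nat_blt,
    Bool.not_eq_true', List.isEmpty_iff, nat_beq_false] at h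
  obtain ⟨⟨h0, a, b⟩, ⟨h0', a', b'⟩⟩ := h
  refine ChevOdd.commute_of_gen _ _ (fun u v => ?_) x y
  simp only [rh_up, rh_low]
  exact ⟨xg_commute gA h0 a.1.1.1 a.1.1.2 a.1.2 a.2 u v, xg_commute gA h0 b.1.1.1 b.1.1.2 b.1.2 b.2 u v,
    xg_commute gA h0' a'.1.1.1 a'.1.1.2 a'.1.2 a'.2 u v, xg_commute gA h0' b'.1.1.1 b'.1.1.2 b'.1.2 b'.2 u v⟩

/-- a diagonal element of the image of `SL₂` that keeps both root images is the image of a diagonal one -/
theorem diag_of_norm (φ : SpecialLinearGroup (Fin 2) F →* GL D4Data.tab.D.Idx F) (hφ : Function.Injective φ)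
    {γ : SpecialLinearGroup (Fin 2) F} (h1 : ∃ w, φ γ * φ (up 1) * (φ γ)⁻¹ = φ (up w))
    (h2 : ∃ w, φ γ * φ (low 1) * (φ γ)⁻¹ = φ (low w)) : ∃ a : Fˣ, γ = diagS F a := by
  obtain ⟨w, hw⟩ := h1
  obtain ⟨z, hz⟩ := h2
  rw [← map_inv, ← map_mul, ← map_mul] at hw hz
  have hw1 : γ * up 1 * γ⁻¹ = up w := hφ hw
  have hz1 : γ * low 1 * γ⁻¹ = low z := hφ hz
  rw [mul_inv_eq_iff_eq_mul] at hw1 hz1
  have e1 := congrArg Subtype.val hw1
  have e2 := congrArg Subtype.val hz1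
  obtain ⟨a, b, c, d, hv⟩ : ∃ a b c d, γ.1 = !![a, b; c, d] := ⟨_, _, _, _, Matrix.eta_fin_two _⟩
  have c1 := congrFun (congrFun e1 1) 1
  have c2 := congrFun (congrFun e2 0) 0
  simp [hv, SL2Pres.up_val, SL2Pres.low_val, Matrix.mul_apply, Fin.sum_univ_two] at c1 c2
  have hc : c = 0 := by first | exact c1 | linear_combination c1
  have hb : b = 0 := by first | exact c2 | linear_combination c2
  have hdet := γ.2
  rw [hv, Matrix.det_fin_two_of, hb, zero_mul, sub_zero] at hdet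
  refine ⟨Units.mkOfMulEqOne a d hdet, Subtype.ext ?_⟩
  rw [hv, hb, hc, SL2Pres.diagS_val]
  simp [eq_inv_of_mul_eq_one_right hdet]

end

variable {F : Type*} [Field F] [Fintype F] {q : ℕ} (hq : IsPrimePow q) (hK : Fintype.card F = q ^ 3)

theorem lt14 : 14 < D4Data.tab.n := by decide +kernel

theorem lt18 : 18 < D4Data.tab.n := by decide +kernel

theorem lt13 : 13 < D4Data.tab.n := by decide +kernel

theorem lt12 : 12 < D4Data.tab.n := by decide +kernel

/-- the `SL₂` holding the group of the long root -/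
noncomputable def phi0 (F : Type*) [Field F] : SpecialLinearGroup (Fin 2) F →* GL D4Data.tab.D.Idx F :=
  rh F lt14

/-- the twisted diagonal `SL₂` -/
noncomputable def phi1 : SpecialLinearGroup (Fin 2) F →* GL D4Data.tab.D.Idx F :=
  MonoidHom.mk' (fun γ => rh F lt18 γ * rh F lt13 (Matrix.SpecialLinearGroup.map (psi hq hK) γ) *
      rh F lt12 (Matrix.SpecialLinearGroup.map (psi hq hK) (Matrix.SpecialLinearGroup.map (psi hq hK) γ)))
    fun x y => by
      simp only [map_mul]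
      exact regroup2 (rh_commute lt18 lt13 (by decide +kernel) _ _)
        (rh_commute lt18 lt12 (by decide +kernel) _ _) (rh_commute lt13 lt12 (by decide +kernel) _ _)

theorem map_up (t : F) : Matrix.SpecialLinearGroup.map (psi hq hK) (up t) = up (t ^ q) :=
  Subtype.ext (by
    ext i j
    fin_cases i <;> fin_cases j <;> simp [SL2Pres.up_val, psi_apply, hq.ne_zero])

theorem map_low (t : F) : Matrix.SpecialLinearGroup.map (psi hq hK) (low t) = low (t ^ q) :=
  Subtype.ext (by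
    ext i j
    fin_cases i <;> fin_cases j <;> simp [SL2Pres.low_val, psi_apply, hq.ne_zero])

theorem map_diag (u : Fˣ) :
    Matrix.SpecialLinearGroup.map (psi hq hK) (diagS F u) = diagS F (u ^ q) :=
  Subtype.ext (by
    show (psi hq hK).mapMatrix (diagS F u : Matrix (Fin 2) (Fin 2) F) = _
    rw [SL2Pres.diagS_val, SL2Pres.diagS_val, RingHom.mapMatrix_apply]
    ext i j
    fin_cases i <;> fin_cases j <;> simp [psi_apply, hq.ne_zero])

theorem phi1_up (t : F) : phi1 hq hK (up t) = eP q t := by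
  rw [eP_word]
  show rh F lt18 _ * rh F lt13 _ * rh F lt12 _ = _
  simp [map_up, rh_up, d4p1, d4p3, d4p4, pow_two, pow_mul, mul_assoc]

theorem phi1_low (t : F) : phi1 hq hK (low t) = eN q t := by
  rw [eN_word]
  show rh F lt18 _ * rh F lt13 _ * rh F lt12 _ = _
  have hn : D4Data.tab.neg 18 = 5 ∧ D4Data.tab.neg 13 = 10 ∧ D4Data.tab.neg 12 = 11 := by decide +kernel
  simp [map_low, rh_low, hn.1, hn.2.1, hn.2.2, d4m1, d4m3, d4m4, pow_two, pow_mul, mul_assoc]

theorem phi1_diag (u : Fˣ) :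
    phi1 hq hK (diagS F u) = tor D4Data.tab F (par q (u, ⟨1, by simp⟩)) := by
  show rh F lt18 _ * rh F lt13 _ * rh F lt12 _ = _
  have hs : D4Data.tab.smp 0 = 18 ∧ D4Data.tab.smp 2 = 13 ∧ D4Data.tab.smp 3 = 12 := by decide +kernel
  simp only [map_diag, rh_diag]
  rw [← hs.1, ← hs.2.1, ← hs.2.2, hE_smp g0 (show 0 < D4Data.tab.l by decide),
    hE_smp g0 (show 2 < D4Data.tab.l by decide), hE_smp g0 (show 3 < D4Data.tab.l by decide)]
  simp only [hS_eq_tor, ← map_mul]
  refine tor_congr g0 fun j hj => ?_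
  change j < 4 at hj
  interval_cases j <;> simp [par, Pi.mulSingle_apply]

theorem phi0_diag (u : Fˣ) :
    phi0 F (diagS F u) = tor D4Data.tab F (Pi.mulSingle 1 u) := by
  rw [phi0, rh_diag, show (14 : ℕ) = D4Data.tab.smp 1 by decide +kernel,
    hE_smp g0 (show 1 < D4Data.tab.l by decide), hS_eq_tor]

theorem phi0_wS : phi0 F (wS F) = nWd g0 F (wd 0) := by
  rw [phi0, rh_wS, show (14 : ℕ) = D4Data.tab.smp 1 by decide +kernel]
  simp [nWd, wd, nG, nE]

theorem phi1_wS : phi1 hq hK (wS F) = nWd g0 F (wd 1) := by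
  have hs : D4Data.tab.smp 0 = 18 ∧ D4Data.tab.smp 2 = 13 ∧ D4Data.tab.smp 3 = 12 := by decide +kernel
  have hw : Matrix.SpecialLinearGroup.map (psi hq hK) (wS F) = wS F := by
    rw [SL2Img.wS_root, map_mul, map_mul, map_up, map_low, one_pow, neg_one_pow hq hK]
  show rh F lt18 _ * rh F lt13 _ * rh F lt12 _ = _
  rw [hw, hw, rh_wS, rh_wS, rh_wS]
  simp [nWd, wd, nG, nE, hs.1, hs.2.1, hs.2.2, mul_assoc]

theorem eP_one_ne {t : F} (h : eP q t = 1) : t = 0 := by
  have hs : ∀ r ∈ ([12, 13, 18] : List ℕ), D4Data.tab.N ≤ r ∧ r < D4Data.tab.n := by decide +kernel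
  have e : sProd g0 [12, 13, 18] (coord q t) = sProd g0 [12, 13, 18] (fun _ => (0 : F)) := by
    rw [← eP, h]; simp [sProd]
  simpa [coord] using sProd_unique g0 (by decide : ([12, 13, 18] : List ℕ).Pairwise (· < ·)) hs e 18
    (by simp)

theorem pos_neg_one {x y : GL D4Data.tab.D.Idx F}
    (hx : x ∈ genS g0 F (Set.Ico D4Data.tab.N D4Data.tab.n)) (hy : y ∈ genS g0 F (Set.Iio D4Data.tab.N))
    (e : y = x) : x = 1 := by
  subst e
  exact borel_inf_neg g0 (genS_pos_le_borel g0 (fun r hr => hr) hx) hy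

theorem phi0_injective : Function.Injective (phi0 F) := by
  refine SL2Img.injective_of _ (fun z c e => ?_) fun h => ?_
  · rw [phi0, rh_low, rh_up] at e
    have h1 : xg g0 14 z = 1 := pos_neg_one
      (xg_mem_genS g0 (S := Set.Ico D4Data.tab.N D4Data.tab.n) (r := 14) ⟨by decide +kernel, lt14⟩ z)
      (xg_mem_genS g0 (S := Set.Iio D4Data.tab.N) (show D4Data.tab.neg 14 < D4Data.tab.N by decide +kernel) c) e
    exact xg_injective g0 (neg_lt lt14) ((e.trans h1).trans (xg_zero g0 _).symm)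
  · rw [phi0_diag, ← map_one (tor D4Data.tab F), tor_eq_iff_wt g0] at h
    have h18 := wt_one_of_simple g0 h 18 lt18
    simp [wt, show D4Data.tab.l = 4 from rfl, Finset.prod_range_succ,
      show D4Data.tab.A 1 18 = -1 by decide +kernel] at h18
    rw [h18, map_one]

theorem phi1_injective : Function.Injective (phi1 hq hK) := by
  refine SL2Img.injective_of _ (fun z c e => ?_) fun h => ?_
  · rw [phi1_low, phi1_up] at e
    have hp : eP q z ∈ genS g0 F (Set.Ico D4Data.tab.N D4Data.tab.n) :=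
      sProd_mem g0 (S := Set.Ico D4Data.tab.N D4Data.tab.n)
        (show ∀ r ∈ ([12, 13, 18] : List ℕ), D4Data.tab.N ≤ r ∧ r < D4Data.tab.n by decide +kernel) _
    have hn : eN q c ∈ genS g0 F (Set.Iio D4Data.tab.N) :=
      sProd_mem g0 (S := Set.Iio D4Data.tab.N)
        (show ∀ r ∈ ([5, 10, 11] : List ℕ), r < D4Data.tab.N by decide +kernel) _
    have h1 := pos_neg_one hp hn e
    rw [h1, ← phi1_low hq hK, ← SL2Pres.low_eq, map_mul, map_mul, map_inv, conj_eq_one_iff, phi1_up] at e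
    simpa using eP_one_ne e
  · rw [phi1_diag, ← map_one (tor D4Data.tab F), tor_eq_iff_wt g0] at h
    have h14 := wt_one_of_simple g0 h 14 lt14
    have hA : D4Data.tab.A 0 14 = -1 ∧ D4Data.tab.A 2 14 = -1 ∧ D4Data.tab.A 3 14 = -1 := by decide +kernel
    simp [wt, show D4Data.tab.l = 4 from rfl, Finset.prod_range_succ, par, hA.1, hA.2.1, hA.2.2] at h14
    by_cases h2 : (-1 : Fˣ) = 1
    · rw [h2, map_one]
    · have e : ((-1 : Fˣ)) ^ q = -1 := Units.ext (by simpa using neg_one_pow hq hK)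
      simp [e, h2] at h14

/-! ### the frame -/

/-- the frame -/
noncomputable abbrev fr : Frame ↥(X hq hK).G1 := (X hq hK).frame rfl 3

/-- the `SL₂` of a rank one group -/
noncomputable def phiI (i : Fin 2) : SpecialLinearGroup (Fin 2) F →* GL D4Data.tab.D.Idx F :=
  if i = 0 then phi0 F else phi1 hq hK

theorem phiI_injective (i : Fin 2) : Function.Injective (phiI hq hK i) := by
  unfold phiI; split_ifs
  exacts [phi0_injective, phi1_injective hq hK]

theorem phiI_wS (i : Fin 2) :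
    phiI hq hK i (wS F) = (((fr hq hK).n i : ↥(X hq hK).G1) : GL D4Data.tab.D.Idx F) := by
  show _ = nWd g0 F (wd i)
  revert i
  rw [Fin.forall_fin_two]
  exact ⟨phi0_wS, phi1_wS hq hK⟩

theorem R_param (i : Fin 2) {x : ↥(X hq hK).G1} (hx : x ∈ (fr hq hK).R i) :
    ∃ t, phiI hq hK i (up t) = (x : GL D4Data.tab.D.Idx F) := by
  have hx' : (x : GL D4Data.tab.D.Idx F) ∈ uMinus g0 F (wd i) := hx
  revert hx'
  revert i
  rw [Fin.forall_fin_two]
  constructor
  · intro _ hx'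
    obtain ⟨t, -, e⟩ := fixed0 hq hK hx' (twisted_fixed hq hK _ x.2).2
    exact ⟨t, (rh_up lt14 t).trans e.symm⟩
  · intro _ hx'
    obtain ⟨t, e⟩ := fixed1 hq hK hx' (twisted_fixed hq hK _ x.2).2
    exact ⟨t, (phi1_up hq hK t).trans e.symm⟩

theorem R_one (i : Fin 2) : phiI hq hK i (up 1) ∈ ((fr hq hK).R i).map (X hq hK).G1.subtype := by
  have key : ∀ (j : ℕ) (y : GL D4Data.tab.D.Idx F), y ∈ tw F q → y ∈ uMinus g0 F (wd j) →
      y ∈ ((uMinus g0 F (wd j)).subgroupOf (X hq hK).G1).map (X hq hK).G1.subtype :=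
    fun j y h1 h2 => ⟨⟨y, h1⟩, h2, rfl⟩
  revert i
  rw [Fin.forall_fin_two]
  constructor
  · show phi0 F (up 1) ∈ _
    rw [phi0, rh_up]
    refine key 0 _ (mid_mem (Or.inl rfl) (one_pow q)) (xg_mem_genS g0 ?_ _)
    show _ ∧ _ ∧ _
    decide +kernel
  · show phi1 hq hK (up 1) ∈ _
    rw [phi1_up]
    refine key 1 _ (eP_mem 1) (sProd_mem g0 ?_ _)
    show ∀ r ∈ ([12, 13, 18] : List ℕ), _ ∧ _ ∧ _
    decide +kernel

theorem L_map (i : Fin 2) : ((fr hq hK).L i).map (X hq hK).G1.subtype =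
    ((fr hq hK).R i).map (X hq hK).G1.subtype ⊔
      (((fr hq hK).R i).map (X hq hK).G1.subtype).map (MulAut.conj (phiI hq hK i (wS F))).toMonoidHom := by
  rw [Frame.L, Subgroup.map_sup, phiI_wS, Subgroup.map_map, Frame.R', Subgroup.map_map]
  rfl

theorem L_le (i : Fin 2) : ((fr hq hK).L i).map (X hq hK).G1.subtype ≤ (phiI hq hK i).range := by
  rw [L_map]
  refine SL2Img.le_range _ ?_
  rintro _ ⟨x, hx, rfl⟩
  exact R_param hq hK i hx

theorem n_mem_L (i : Fin 2) : (fr hq hK).n i ∈ (fr hq hK).L i := by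
  rw [← Subgroup.mem_map_iff_mem (X hq hK).G1.subtype_injective, L_map]
  simp only [Subgroup.coe_subtype]
  rw [← phiI_wS]
  exact SL2Img.refl_mem _ (R_one hq hK i)

include hq hK in
theorem T_norm (i : Fin 2) {t : ↥(X hq hK).G1} (ht : t ∈ (fr hq hK).T) :
    t ∈ Subgroup.normalizer ((fr hq hK).R i : Set ↥(X hq hK).G1) := by
  have h : (t : GL D4Data.tab.D.Idx F) ∈ D4Data.tab.D.diagonalSubgroup F := ht
  rw [diagonalSubgroup_eq g0] at h
  obtain ⟨c, hc⟩ := h
  refine Subgroup.mem_normalizer_iff.2 fun z => ?_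
  show (z : GL D4Data.tab.D.Idx F) ∈ uMinus g0 F (wd i) ↔
    ((t * z * t⁻¹ : ↥(X hq hK).G1) : GL D4Data.tab.D.Idx F) ∈ uMinus g0 F (wd i)
  rw [Subgroup.coe_mul, Subgroup.coe_mul, Subgroup.coe_inv, ← hc]
  exact Subgroup.mem_normalizer_iff.1 (tor_normalizes g0 (fun r hr => hr.2.1) c) _

theorem L_inf_T (i : Fin 2) {t : ↥(X hq hK).G1} (hL : t ∈ (fr hq hK).L i) (hT : t ∈ (fr hq hK).T) :
    ∃ a : Fˣ, phiI hq hK i (diagS F a) = (t : GL D4Data.tab.D.Idx F) := by
  obtain ⟨γ, hγ⟩ := L_le hq hK i ⟨t, hL, rfl⟩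
  obtain ⟨p, hp, ep⟩ := R_one hq hK i
  set n := (fr hq hK).n i with hn
  have hnval := phiI_wS hq hK i
  have hnT : ∀ s ∈ (fr hq hK).T, n⁻¹ * s * n ∈ (fr hq hK).T := by
    intro s hs
    have hx : nWd g0 F (wd i) ∈ D4Data.tab.D.monomialSubgroup F :=
      (X hq hK).n_mem_monomial (show (i : ℕ) < 2 from i.isLt)
    set x := (nWd g0 F (wd i))⁻¹ with hxdef
    have hx' : x ∈ D4Data.tab.D.monomialSubgroup F := inv_mem hx
    have hm : x * (s : GL D4Data.tab.D.Idx F) * x⁻¹ ∈ D4Data.tab.D.monomialSubgroup F :=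
      mul_mem (mul_mem hx' (Subgroup.mem_sup_left hs)) (inv_mem hx')
    have hk : (⟨_, hm⟩ : ↥(D4Data.tab.D.monomialSubgroup F)) ∈ (toPerm g0 (F := F)).ker := by
      rw [show (⟨_, hm⟩ : ↥(D4Data.tab.D.monomialSubgroup F)) =
        ⟨x, hx'⟩ * ⟨s, Subgroup.mem_sup_left hs⟩ * ⟨x, hx'⟩⁻¹ from rfl]
      refine Subgroup.Normal.conj_mem (MonoidHom.normal_ker _) _ ?_ _
      rw [toPerm_ker, Subgroup.mem_subgroupOf]; exact hs
    rw [toPerm_ker, Subgroup.mem_subgroupOf] at hk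
    show ((n⁻¹ * s * n : ↥(X hq hK).G1) : GL D4Data.tab.D.Idx F) ∈ D4Data.tab.D.diagonalSubgroup F
    rw [Subgroup.coe_mul, Subgroup.coe_mul, Subgroup.coe_inv]
    show (nWd g0 F (wd i))⁻¹ * (s : GL D4Data.tab.D.Idx F) * nWd g0 F (wd i) ∈ _
    simpa [hxdef] using hk
  have hconj : ∀ s ∈ (fr hq hK).T,
      ∃ w, (s : GL D4Data.tab.D.Idx F) * phiI hq hK i (up 1) * (s : GL D4Data.tab.D.Idx F)⁻¹ =
        phiI hq hK i (up w) := by
    intro s hs
    obtain ⟨w, hw⟩ := R_param hq hK i ((Subgroup.mem_normalizer_iff.1 (T_norm hq hK i hs) p).1 hp)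
    refine ⟨w, ?_⟩
    rw [hw, ← ep]
    rfl
  obtain ⟨a, rfl⟩ := diag_of_norm _ (phiI_injective hq hK i) (γ := γ)
    (by rw [hγ]; exact hconj t hT) (by
      rw [hγ]
      obtain ⟨w, hw⟩ := hconj _ (hnT _ hT)
      have hlow : ∀ x : F, phiI hq hK i (low x) =
          (n : GL D4Data.tab.D.Idx F) * phiI hq hK i (up (-x)) * (n : GL D4Data.tab.D.Idx F)⁻¹ := fun x => by
        rw [← SL2Pres.low_eq, map_mul, map_mul, map_inv, hnval]
      refine ⟨w * (1 : F), ?_⟩
      have hw' : (n : GL D4Data.tab.D.Idx F)⁻¹ * t * n * (phiI hq hK i (up 1))⁻¹ *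
          ((n : GL D4Data.tab.D.Idx F)⁻¹ * t * n)⁻¹ = (phiI hq hK i (up w))⁻¹ := by
        rw [← hw]
        simp only [Subgroup.coe_mul, Subgroup.coe_inv]
        group
      have hup : ∀ x : F, (phiI hq hK i (up x))⁻¹ = phiI hq hK i (up (-x)) := fun x => by
        rw [← map_inv]
        congr 1
        exact inv_eq_of_mul_eq_one_right (by rw [SL2Pres.up_add, add_neg_cancel, SL2Pres.up_zero])
      rw [mul_one, hlow 1, hlow w, ← hup, ← hup, ← hw']
      simp only [Subgroup.coe_subtype]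
      group)
  exact ⟨a, hγ⟩

theorem tor_indep : ∀ t ∈ (fr hq hK).L 0, t ∈ (fr hq hK).L 1 → t ∈ (fr hq hK).T → t = 1 := by
  intro t h0 h1 hT
  obtain ⟨a, ha⟩ := L_inf_T hq hK 0 h0 hT
  obtain ⟨b, hb⟩ := L_inf_T hq hK 1 h1 hT
  simp only [phiI, Fin.isValue, if_true, one_ne_zero, if_false, phi0_diag, phi1_diag] at ha hb
  have h := wt_one_of_simple g0 ((tor_eq_iff_wt g0).1 (ha.trans hb.symm)) 23 (by decide +kernel)
  have hA : (List.range 4).map (fun j => D4Data.tab.A j 23) = [0, 1, 0, 0] := by decide +kernel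
  simp only [List.range_succ, List.range_zero, List.nil_append, List.cons_append, List.map_cons,
    List.map_nil, List.cons.injEq, and_true] at hA
  simp [wt, show D4Data.tab.l = 4 from rfl, Finset.prod_range_succ, par, hA] at h
  refine Subtype.ext ?_
  rw [← ha, h, OneMemClass.coe_one, ← map_one (tor D4Data.tab F), Pi.mulSingle_one]

theorem dihOK : D4Data.tab.checkDih wd 3 = true := by decide +kernel

theorem split_ok : ∀ x ∈ {x | ∃ w ∈ d4Words F q, x = (w.map fun e => xg g0 e.1 e.2).prod},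
    x ∈ genS g0 F (Set.Ico D4Data.tab.N D4Data.tab.n) ∨ x ∈ genS g0 F (Set.Iio D4Data.tab.N) := by
  have h1 : ∀ r ∈ ([d4p1, d4p2, d4p3, d4p4] : List ℕ), D4Data.tab.N ≤ r ∧ r < D4Data.tab.n := by
    decide +kernel
  have h2 : ∀ r ∈ ([d4m1, d4m2, d4m3, d4m4] : List ℕ), r < D4Data.tab.N := by decide +kernel
  have P : ∀ w : List (ℕ × F), (∀ e ∈ w, e.1 ∈ ([d4p1, d4p2, d4p3, d4p4] : List ℕ)) →
      (w.map fun e => xg g0 e.1 e.2).prod ∈ genS g0 F (Set.Ico D4Data.tab.N D4Data.tab.n) :=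
    fun w hw => Subgroup.list_prod_mem _ fun y hy => by
      obtain ⟨e, he, rfl⟩ := List.mem_map.1 hy
      exact xg_mem_genS g0 (S := Set.Ico D4Data.tab.N D4Data.tab.n) (r := e.1) (h1 _ (hw e he)) _
  have M : ∀ w : List (ℕ × F), (∀ e ∈ w, e.1 ∈ ([d4m1, d4m2, d4m3, d4m4] : List ℕ)) →
      (w.map fun e => xg g0 e.1 e.2).prod ∈ genS g0 F (Set.Iio D4Data.tab.N) :=
    fun w hw => Subgroup.list_prod_mem _ fun y hy => by
      obtain ⟨e, he, rfl⟩ := List.mem_map.1 hy
      exact xg_mem_genS g0 (S := Set.Iio D4Data.tab.N) (r := e.1) (h2 _ (hw e he)) _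
  rintro x ⟨w, (⟨t, -, r, hr, rfl⟩ | ⟨t, rs, hrs, rfl⟩), rfl⟩
  · simp only [List.mem_cons, List.not_mem_nil, or_false] at hr
    rcases hr with rfl | rfl
    · exact Or.inl (P _ (by simp))
    · exact Or.inr (M _ (by simp))
  · simp only [List.mem_cons, List.not_mem_nil, or_false] at hrs
    rcases hrs with rfl | rfl
    · exact Or.inl (P _ (by simp))
    · exact Or.inr (M _ (by simp))

theorem frame_ax {p e : ℕ} [Fact p.Prime] (hpe : q = p ^ e) : (fr hq hK).Axioms p :=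
  (X hq hK).frame_axioms (blocks hq hK) rfl (by norm_num) dihOK (M := e * 12)
    (by rw [pow_mul, ← hpe]; exact card_pos hq hK)
    (S := {x | ∃ w ∈ d4Words F q, x = (w.map fun e => xg g0 e.1 e.2).prod})
    (genSubgroup_eq g0 _) split_ok (n_mem_L hq hK) (tor_indep hq hK)

/-- Sylow subgroups of the rank one groups for other primes -/
theorem L_sylow {p r : ℕ} [Fact p.Prime] [CharP F p] (hr : r.Prime) (hrp : r ≠ p) (i : Fin 2)
    (P : Sylow r ((fr hq hK).L i)) :
    Cfsg.HasCyclicSchurMultiplier (P : Subgroup ((fr hq hK).L i)) 1 :=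
  SL2Img.mult_sylow (p := p) hr hrp (phiI hq hK i) (phiI_injective hq hK i)
    ((X hq hK).G1.subtype.comp ((fr hq hK).L i).subtype)
    ((X hq hK).G1.subtype_injective.comp ((fr hq hK).L i).subtype_injective)
    (by rw [MonoidHom.range_comp, Subgroup.range_subtype]; exact L_le hq hK i) P

end Cfsg.Agent.Chev.TwD4
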