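import Cfsg.Agent.Lib.CentralSection.TwD4Weights
import Cfsg.Agent.Lib.Lie.InvCell
import Cfsg.Agent.Lib.Lie.TwIsog

/-!
# The unipotent group of `³D₄(2)` has a section

The long weights are trivial.  The unipotent radical of the parabolic of the long root carries a
section normalised by the torus and an element of order three of the Levi group, and a lift of the
long root involution extends it.
-/

set_option autoImplicit false
set_option maxRecDepth 20000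
set_option linter.unusedSectionVars false
set_option linter.style.haveILetI false

namespace Cfsg.Agent.Chev.TwD4

open Cfsg.Lie
open Tab
open Cfsg.Agent.CentralSection
open Matrix (SpecialLinearGroup)
open SL2Pres (up low wS diagS)
open scoped commutatorElement

/-- the representatives of `eA 1`, `eB 1`, `eC 1` -/
def wordA : List (ℕ × ℤ) := [(12, 1), (13, 1), (18, 1)]

/-- see `wordA` -/
def wordB : List (ℕ × ℤ) := [(15, 1), (16, 1), (19, 1)]

/-- see `wordA` -/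
def wordC : List (ℕ × ℤ) := [(21, 1), (20, 1), (17, 1)]

theorem word_facts :
    D4Data.tab.checkWordP 2 (wordA ++ wordC ++ wordA ++ wordC) [(22, 1)] = true ∧
    D4Data.tab.checkWordP 2 (wordB ++ wordC ++ wordB ++ wordC) [(23, 1)] = true ∧
    D4Data.tab.checkWordP 2 ([(14, 1)] ++ wordA ++ [(14, 1)]) (wordA ++ wordB ++ wordC ++ [(22, 1)]) = true ∧
    D4Data.tab.checkWordP 2 ([(14, 1)] ++ [(22, 1)] ++ [(14, 1)]) [(22, 1), (23, 1)] = true := by
  decide +kernel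

theorem moved : ([12, 13, 18] : List ℕ).map (D4Data.tab.rw' (wd 0)) = [15, 16, 19] ∧
    ([15, 16, 19] : List ℕ).map (D4Data.tab.rw' (wd 1)) = [21, 20, 17] ∧
    ([17, 20, 21] : List ℕ).map (D4Data.tab.rw' (wd 0)) = [17, 20, 21] := by
  decide +kernel

variable {F : Type*} [Field F] [Fintype F] [CharP F 2] (hq : IsPrimePow 2) (hK : Fintype.card F = 2 ^ 3)

theorem neg_self (x : F) : -x = x := CharTwo.neg_eq x

include hK in
theorem pow_eight (a : F) : ((a ^ 2) ^ 2) ^ 2 = a := by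
  rw [← pow_mul, ← pow_mul]
  exact (show (2 * (2 * 2) : ℕ) = Fintype.card F by rw [hK]; rfl) ▸ FiniteField.pow_card a

theorem fixed_two {a : F} (h : a ^ 2 = a) : a = 0 ∨ a = 1 := by
  have : a * (a - 1) = 0 := by linear_combination h
  rcases mul_eq_zero.1 this with h | h
  · exact Or.inl h
  · exact Or.inr (sub_eq_zero.1 h)

include hK in
theorem exists_lam : ∃ u : Fˣ, ((u : F) ^ 2) ^ 3 = (u : F) ^ 2 + 1 ∧ nrm 2 u = 1 ∧
    ∀ s : F, s ≠ 0 → ∃ k : ℕ, ((u : F) ^ 2) ^ k = s := by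
  obtain ⟨g, hg⟩ := IsCyclic.exists_ofOrder_eq_natCard (α := Fˣ)
  have h7 : orderOf g = 7 := by rw [orderOf_gen hK hg]; rfl
  have e7 : (g : F) ^ 7 = 1 := by
    rw [← Units.val_pow_eq_pow_val, ← h7, pow_orderOf_eq_one, Units.val_one]
  have hne : (g : F) - 1 ≠ 0 := by
    rw [sub_ne_zero, Units.val_eq_one.ne]
    intro e; rw [e, orderOf_one] at h7; omega
  have h2 : (2 : F) = 0 := CharTwo.two_eq_zero
  have hfac : ((g : F) ^ 3 + g + 1) * ((g : F) ^ 3 + g ^ 2 + 1) = 0 := by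
    have : ((g : F) - 1) * (((g : F) ^ 3 + g + 1) * ((g : F) ^ 3 + g ^ 2 + 1)) = 0 := by
      linear_combination e7 + (g ^ 4 - g ^ 3 : F) * h2
    exact (mul_eq_zero.1 this).resolve_left hne
  obtain ⟨l, hl, hlord⟩ : ∃ l : Fˣ, (l : F) ^ 3 = (l : F) + 1 ∧ orderOf l = 7 := by
    rcases mul_eq_zero.1 hfac with h | h
    · exact ⟨g, by linear_combination h - ((g : F) + 1) * h2, h7⟩
    · refine ⟨g⁻¹, ?_, by rw [orderOf_inv, h7]⟩
      rw [Units.val_inv_eq_inv_val]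
      field_simp
      linear_combination -h + ((g : F) ^ 3 * 0 + 1) * h2
  have hl7 : l ^ 7 = 1 := hlord ▸ pow_orderOf_eq_one l
  refine ⟨l ^ 4, ?_, ?_, fun s hs => ?_⟩
  · have e : ((l ^ 4 : Fˣ) : F) ^ 2 = (l : F) := by
      rw [← Units.val_pow_eq_pow_val, ← pow_mul, show 4 * 2 = 7 + 1 from rfl, pow_succ, hl7, one_mul]
    rw [e, hl]
  · rw [nrm, ← pow_mul, ← pow_mul, ← pow_add, ← pow_add,
      show 4 + 4 * 2 + 4 * 2 * 2 = 7 * 4 from rfl, pow_mul, hl7, one_pow]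
  · have hcard : Nat.card Fˣ = 7 := hg ▸ h7
    have hmem : Units.mk0 s hs ∈ Subgroup.zpowers l := by
      have htop : Subgroup.zpowers l = ⊤ := by
        refine Subgroup.eq_top_of_card_eq _ ?_
        rw [Nat.card_zpowers, hlord, hcard]
      rw [htop]; trivial
    rw [← (isOfFinOrder_of_finite l).mem_powers_iff_mem_zpowers] at hmem
    obtain ⟨k, hk⟩ := hmem
    refine ⟨k, ?_⟩
    have e : ((l ^ 4 : Fˣ) : F) ^ 2 = (l : F) := by
      rw [← Units.val_pow_eq_pow_val, ← pow_mul, show 4 * 2 = 7 + 1 from rfl, pow_succ, hl7, one_mul]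
    rw [e, ← Units.val_pow_eq_pow_val]
    exact congrArg Units.val hk

/-- the element of the short root orbit -/
noncomputable def eA (s : F) : ↥(X hq hK).G1 := ⟨eP 2 s, eP_mem s⟩

/-- its conjugate by the long reflection -/
noncomputable def eB (s : F) : ↥(X hq hK).G1 :=
  (fr hq hK).n 0 * eA hq hK s * ((fr hq hK).n 0)⁻¹

/-- the short root orbit above both -/
noncomputable def eC (s : F) : ↥(X hq hK).G1 :=
  (fr hq hK).n 1 * eB hq hK s * ((fr hq hK).n 1)⁻¹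

theorem eA_add (s r : F) : eA hq hK s * eA hq hK r = eA hq hK (s + r) := Subtype.ext (by
  show eP 2 s * eP 2 r = eP 2 (s + r)
  rw [← phi1_up hq hK, ← phi1_up hq hK, ← phi1_up hq hK, ← map_mul, SL2Pres.up_add])

theorem eB_add (s r : F) : eB hq hK s * eB hq hK r = eB hq hK (s + r) := by
  rw [eB, eB, eB, ← eA_add]; group

theorem eC_add (s r : F) : eC hq hK s * eC hq hK r = eC hq hK (s + r) := by
  rw [eC, eC, eC, ← eB_add]; group

theorem eA_zero : eA hq hK (0 : F) = 1 := mul_eq_left.1 (by rw [eA_add, add_zero] : eA hq hK (0 : F) * eA hq hK 0 = eA hq hK 0)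

theorem eB_zero : eB hq hK (0 : F) = 1 := by rw [eB, eA_zero, mul_one, mul_inv_cancel]

theorem eC_zero : eC hq hK (0 : F) = 1 := by rw [eC, eB_zero, mul_one, mul_inv_cancel]

theorem inv_of_add (f : F → ↥(X hq hK).G1) (h : ∀ s r, f s * f r = f (s + r)) (h0 : f 0 = 1) (s : F) :
    (f s)⁻¹ = f s :=
  inv_eq_of_mul_eq_one_right (by rw [h, CharTwo.add_self_eq_zero, h0])

theorem eA_val (s : F) : (eA hq hK s : GL D4Data.tab.D.Idx F) =
    xg g0 12 ((s ^ 2) ^ 2) * xg g0 13 (s ^ 2) * xg g0 18 s := by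
  show eP 2 s = _
  simp [eP, sProd, coord, mul_assoc]

theorem eB_val (s : F) : (eB hq hK s : GL D4Data.tab.D.Idx F) =
    xg g0 15 ((s ^ 2) ^ 2) * xg g0 16 (s ^ 2) * xg g0 19 s := by
  obtain ⟨e, -, -⟩ := moved
  simp only [List.map_cons, List.map_nil, List.cons.injEq, and_true] at e
  obtain ⟨e12, e13, e18⟩ := e
  have hlt : 12 < D4Data.tab.n ∧ 13 < D4Data.tab.n ∧ 18 < D4Data.tab.n := ⟨lt12, lt13, lt18⟩
  rw [eB, Subgroup.coe_mul, Subgroup.coe_mul, Subgroup.coe_inv, eA_val]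
  show nWd g0 F (wd 0) * _ * (nWd g0 F (wd 0))⁻¹ = _
  rw [← e12, ← e13, ← e18, ← InvC.nWd_conj_two g0 (wd_wd 0) hlt.1, ← InvC.nWd_conj_two g0 (wd_wd 0) hlt.2.1,
    ← InvC.nWd_conj_two g0 (wd_wd 0) hlt.2.2]
  group

theorem eC_val (s : F) : (eC hq hK s : GL D4Data.tab.D.Idx F) =
    xg g0 21 ((s ^ 2) ^ 2) * xg g0 20 (s ^ 2) * xg g0 17 s := by
  obtain ⟨-, e, -⟩ := moved
  simp only [List.map_cons, List.map_nil, List.cons.injEq, and_true] at e
  obtain ⟨e15, e16, e19⟩ := e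
  have hlt : 15 < D4Data.tab.n ∧ 16 < D4Data.tab.n ∧ 19 < D4Data.tab.n := by decide +kernel
  rw [eC, Subgroup.coe_mul, Subgroup.coe_mul, Subgroup.coe_inv, eB_val]
  show nWd g0 F (wd 1) * _ * (nWd g0 F (wd 1))⁻¹ = _
  rw [← e15, ← e16, ← e19, ← InvC.nWd_conj_two g0 (wd_wd 1) hlt.1, ← InvC.nWd_conj_two g0 (wd_wd 1) hlt.2.1,
    ← InvC.nWd_conj_two g0 (wd_wd 1) hlt.2.2]
  group

/-- the long root involutions -/
noncomputable def xz {k : ℕ} (hk : k ∈ ([14, 22, 23] : List ℕ)) : ↥(X hq hK).G1 :=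
  xl hq hK hk (one_pow 2 : (1 : F) ^ 2 = 1)

/-- the involution of the long simple root -/
noncomputable def zz : ↥(X hq hK).G1 := xz hq hK (k := 14) (by simp)

/-- see `xz` -/
noncomputable def x22 : ↥(X hq hK).G1 := xz hq hK (k := 22) (by simp)

/-- see `xz` -/
noncomputable def x23 : ↥(X hq hK).G1 := xz hq hK (k := 23) (by simp)

/-- the element of order three of the Levi group -/
noncomputable def dd : ↥(X hq hK).G1 := zz hq hK * (fr hq hK).n 0

theorem xz_sq {k : ℕ} (hk : k ∈ ([14, 22, 23] : List ℕ)) : xz hq hK (F := F) hk * xz hq hK hk = 1 :=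
  Subtype.ext (by
    show xg g0 k (1 : F) * xg g0 k 1 = 1
    rw [xg_add, CharTwo.add_self_eq_zero, xg_zero])

theorem xz_inv {k : ℕ} (hk : k ∈ ([14, 22, 23] : List ℕ)) : (xz hq hK (F := F) hk)⁻¹ = xz hq hK hk :=
  inv_eq_of_mul_eq_one_right (xz_sq hq hK hk)

theorem n0_sq : (fr hq hK).n 0 * (fr hq hK).n 0 = 1 := Subtype.ext (by
  show nWd g0 F (wd 0) * nWd g0 F (wd 0) = 1
  rw [← phi0_wS, ← map_mul, SL2Pres.wS_sq,
    show (-1 : Fˣ) = 1 from Units.ext (by simp [neg_self]), map_one, map_one])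

theorem n0_inv : ((fr hq hK).n 0)⁻¹ = (fr hq hK).n 0 := inv_eq_of_mul_eq_one_right (n0_sq hq hK)

theorem word_eq {w w' : List (ℕ × ℤ)} (h : D4Data.tab.checkWordP 2 w w' = true) :
    cWordVal g0 F w = cWordVal g0 F w' := word_eq_modP g0 2 h

theorem rel22 : eA hq hK (1 : F) * eC hq hK 1 * eA hq hK 1 * eC hq hK 1 = x22 hq hK := Subtype.ext (by
  have h := word_eq (F := F) word_facts.1
  simp only [Subgroup.coe_mul, eA_val, eC_val, one_pow]
  simpa [cWordVal, wordA, wordC, mul_assoc, x22, xz, xl] using h)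

theorem rel23 : eB hq hK (1 : F) * eC hq hK 1 * eB hq hK 1 * eC hq hK 1 = x23 hq hK := Subtype.ext (by
  have h := word_eq (F := F) word_facts.2.1
  simp only [Subgroup.coe_mul, eB_val, eC_val, one_pow]
  simpa [cWordVal, wordB, wordC, mul_assoc, x23, xz, xl] using h)

theorem relA : zz hq hK * eA hq hK (1 : F) * zz hq hK =
    eA hq hK 1 * eB hq hK 1 * eC hq hK 1 * x22 hq hK := Subtype.ext (by
  have h := word_eq (F := F) word_facts.2.2.1
  simp only [Subgroup.coe_mul, eA_val, eB_val, eC_val, one_pow]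
  simpa [cWordVal, wordA, wordB, wordC, mul_assoc, zz, x22, xz, xl] using h)

theorem relZ : zz hq hK * x22 hq hK * zz hq hK = x22 hq hK (F := F) * x23 hq hK := Subtype.ext (by
  have h := word_eq (F := F) word_facts.2.2.2
  simpa [cWordVal, mul_assoc, zz, x22, x23, xz, xl] using h)

theorem n0_x22 : (fr hq hK).n 0 * x22 hq hK * ((fr hq hK).n 0)⁻¹ = x23 hq hK (F := F) := Subtype.ext (by
  obtain ⟨-, s22, -, -⟩ := steps_ok
  show nWd g0 F (wd 0) * xg g0 22 1 * (nWd g0 F (wd 0))⁻¹ = xg g0 23 1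
  rw [← s22]; exact InvC.nWd_conj_two g0 (wd_wd 0) (long_facts 22 (by simp)).1 1)

theorem n1_z : (fr hq hK).n 1 * zz hq hK * ((fr hq hK).n 1)⁻¹ = x22 hq hK (F := F) := Subtype.ext (by
  obtain ⟨s14, -, -, -⟩ := steps_ok
  show nWd g0 F (wd 1) * xg g0 14 1 * (nWd g0 F (wd 1))⁻¹ = xg g0 22 1
  rw [← s14]; exact InvC.nWd_conj_two g0 (wd_wd 1) lt14 1)

theorem n0_eC (s : F) : (fr hq hK).n 0 * eC hq hK s * ((fr hq hK).n 0)⁻¹ = eC hq hK s := Subtype.ext (by
  obtain ⟨-, -, e⟩ := moved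
  simp only [List.map_cons, List.map_nil, List.cons.injEq, and_true] at e
  obtain ⟨e17, e20, e21⟩ := e
  have hlt : 17 < D4Data.tab.n ∧ 20 < D4Data.tab.n ∧ 21 < D4Data.tab.n := by decide +kernel
  rw [Subgroup.coe_mul, Subgroup.coe_mul, Subgroup.coe_inv, eC_val]
  show nWd g0 F (wd 0) * _ * (nWd g0 F (wd 0))⁻¹ = _
  conv_rhs => rw [← e17, ← e20, ← e21, ← InvC.nWd_conj_two g0 (wd_wd 0) hlt.1,
    ← InvC.nWd_conj_two g0 (wd_wd 0) hlt.2.1, ← InvC.nWd_conj_two g0 (wd_wd 0) hlt.2.2]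
  group)

theorem n0_eB (s : F) : (fr hq hK).n 0 * eB hq hK s * ((fr hq hK).n 0)⁻¹ = eA hq hK s := by
  rw [eB, n0_inv]
  calc (fr hq hK).n 0 * ((fr hq hK).n 0 * eA hq hK s * (fr hq hK).n 0) * (fr hq hK).n 0
      = ((fr hq hK).n 0 * (fr hq hK).n 0) * eA hq hK s * ((fr hq hK).n 0 * (fr hq hK).n 0) := by group
    _ = eA hq hK s := by rw [n0_sq, one_mul, mul_one]

theorem com_list : D4Data.tab.checkComPair [14] [15, 16, 19, 17, 20, 21, 23] = true ∧
    D4Data.tab.checkComPair [12, 13, 18, 15, 16, 19, 17, 20, 21] [22, 23] = true := by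
  decide +kernel

theorem z_commute {x : ↥(X hq hK).G1}
    (hx : (x : GL D4Data.tab.D.Idx F) ∈ genS g0 F {r | r ∈ ([15, 16, 19, 17, 20, 21, 23] : List ℕ)}) :
    zz hq hK * x * zz hq hK = x := by
  have h : Commute (zz hq hK) x := Subtype.ext (by
    rw [Subgroup.coe_mul, Subgroup.coe_mul]
    exact (genS_commute gA com_list.1
      (xg_mem_genS g0 (S := {r | r ∈ ([14] : List ℕ)}) (List.mem_singleton_self 14) (1 : F)) hx).eq)
  rw [h.eq, mul_assoc, zz, xz_sq, mul_one]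

theorem eB_gen (s : F) : (eB hq hK s : GL D4Data.tab.D.Idx F) ∈
    genS g0 F {r | r ∈ ([15, 16, 19, 17, 20, 21, 23] : List ℕ)} := by
  rw [eB_val]
  exact mul_mem (mul_mem (xg_mem_genS g0 (by simp) _) (xg_mem_genS g0 (by simp) _)) (xg_mem_genS g0 (by simp) _)

theorem eC_gen (s : F) : (eC hq hK s : GL D4Data.tab.D.Idx F) ∈
    genS g0 F {r | r ∈ ([15, 16, 19, 17, 20, 21, 23] : List ℕ)} := by
  rw [eC_val]
  exact mul_mem (mul_mem (xg_mem_genS g0 (by simp) _) (xg_mem_genS g0 (by simp) _)) (xg_mem_genS g0 (by simp) _)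

theorem long_commute {x y : ↥(X hq hK).G1}
    (hx : (x : GL D4Data.tab.D.Idx F) ∈ genS g0 F {r | r ∈ ([12, 13, 18, 15, 16, 19, 17, 20, 21] : List ℕ)})
    (hy : y ∈ (X hq hK).Uf 22) : x * y = y * x := by
  refine Subtype.ext ?_
  rw [Subgroup.coe_mul, Subgroup.coe_mul]
  refine (genS_commute gA com_list.2 hx (genS_mono g0 ?_ hy)).eq
  intro r hr
  have h : 22 ≤ r ∧ r < D4Data.tab.n := hr
  rw [nN.2] at h
  show r ∈ ([22, 23] : List ℕ)
  simp; omega

theorem short_gen (s : F) :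
    (eA hq hK s : GL D4Data.tab.D.Idx F) ∈ genS g0 F {r | r ∈ ([12, 13, 18, 15, 16, 19, 17, 20, 21] : List ℕ)} ∧
    (eB hq hK s : GL D4Data.tab.D.Idx F) ∈ genS g0 F {r | r ∈ ([12, 13, 18, 15, 16, 19, 17, 20, 21] : List ℕ)} ∧
    (eC hq hK s : GL D4Data.tab.D.Idx F) ∈ genS g0 F {r | r ∈ ([12, 13, 18, 15, 16, 19, 17, 20, 21] : List ℕ)} := by
  refine ⟨?_, ?_, ?_⟩ <;> (simp only [eA_val, eB_val, eC_val]
                           exact mul_mem (mul_mem (xg_mem_genS g0 (by simp) _) (xg_mem_genS g0 (by simp) _))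
                             (xg_mem_genS g0 (by simp) _))

/-! ### the torus element -/

variable {u : Fˣ}

theorem tu_eA (s : F) : tu hq hK u * eA hq hK s * (tu hq hK u)⁻¹ = eA hq hK ((u : F) ^ 2 * s) :=
  Subtype.ext (by
    rw [Subgroup.coe_mul, Subgroup.coe_mul, Subgroup.coe_inv]
    show tor D4Data.tab F _ * eP 2 s * (tor D4Data.tab F _)⁻¹ = eP 2 _
    rw [← phi1_diag hq hK, ← phi1_up hq hK, ← map_inv, ← map_mul, ← map_mul, SL2Pres.diagS_conj_up,
      phi1_up])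

theorem tu_n1 : (fr hq hK).n 1 * tu hq hK u * ((fr hq hK).n 1)⁻¹ = (tu hq hK u)⁻¹ := Subtype.ext (by
  rw [Subgroup.coe_mul, Subgroup.coe_mul, Subgroup.coe_inv, Subgroup.coe_inv]
  show nWd g0 F (wd 1) * tor D4Data.tab F _ * (nWd g0 F (wd 1))⁻¹ = (tor D4Data.tab F _)⁻¹
  rw [← phi1_wS hq hK, ← phi1_diag hq hK, ← map_inv, ← map_mul, ← map_mul, SL2Pres.wS_conj_diagS, map_inv])

variable (hu : nrm 2 u = 1)
include hu

theorem tu_n0 : (fr hq hK).n 0 * tu hq hK u = tu hq hK u * (fr hq hK).n 0 := Subtype.ext (by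
  rw [Subgroup.coe_mul, Subgroup.coe_mul, ← mul_inv_eq_iff_eq_mul]
  show nWd g0 F (wd 0) * tor D4Data.tab F _ * (nWd g0 F (wd 0))⁻¹ = tor D4Data.tab F _
  have e : nWd g0 F (wd 0) = nG g0 F 1 := by simp [nWd, wd]
  rw [e, nG_tor g0 (show 1 < D4Data.tab.l by decide),
    show D4Data.tab.smp 1 = 14 by decide +kernel, (wt_long (q := 2) u).1, hu]
  simp)

theorem tu_long {k : ℕ} (hk : k ∈ ([14, 22, 23] : List ℕ)) :
    tu hq hK u * xz hq hK hk = xz hq hK hk * tu hq hK u := Subtype.ext (by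
  rw [Subgroup.coe_mul, Subgroup.coe_mul, ← mul_inv_eq_iff_eq_mul]
  show tor D4Data.tab F _ * xg g0 k 1 * (tor D4Data.tab F _)⁻¹ = xg g0 k 1
  obtain ⟨w14, w22, w23⟩ := wt_long (q := 2) u
  rw [tor_xg g0 _ (long_facts k hk).1]
  simp only [List.mem_cons, List.not_mem_nil, or_false] at hk
  rcases hk with rfl | rfl | rfl <;> simp [w14, w22, w23, hu])

theorem tu_eB (s : F) : tu hq hK u * eB hq hK s * (tu hq hK u)⁻¹ = eB hq hK ((u : F) ^ 2 * s) := by
  have h := tu_n0 hq hK hu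
  rw [eB, eB, ← tu_eA]
  have hi : (tu hq hK u)⁻¹ * (fr hq hK).n 0 = (fr hq hK).n 0 * (tu hq hK u)⁻¹ := by
    rw [eq_mul_inv_iff_mul_eq, mul_assoc, h, inv_mul_cancel_left]
  calc tu hq hK u * ((fr hq hK).n 0 * eA hq hK s * ((fr hq hK).n 0)⁻¹) * (tu hq hK u)⁻¹
      = (tu hq hK u * (fr hq hK).n 0) * eA hq hK s * ((tu hq hK u) * (fr hq hK).n 0)⁻¹ := by group
    _ = _ := by rw [← h]; group

theorem tu_eC (s : F) : (tu hq hK u)⁻¹ * eC hq hK s * tu hq hK u = eC hq hK ((u : F) ^ 2 * s) := by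
  have h := tu_n1 hq hK (F := F) (u := u)
  calc (tu hq hK u)⁻¹ * eC hq hK s * tu hq hK u
      = (tu hq hK u)⁻¹ * eC hq hK s * ((tu hq hK u)⁻¹)⁻¹ := by rw [inv_inv]
    _ = ((fr hq hK).n 1 * tu hq hK u * ((fr hq hK).n 1)⁻¹) * eC hq hK s *
        ((fr hq hK).n 1 * tu hq hK u * ((fr hq hK).n 1)⁻¹)⁻¹ := by rw [h]
    _ = (fr hq hK).n 1 * (tu hq hK u * eB hq hK s * (tu hq hK u)⁻¹) * ((fr hq hK).n 1)⁻¹ := by
      rw [eC]; group
    _ = _ := by rw [tu_eB hq hK hu, eC]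

end Cfsg.Agent.Chev.TwD4
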