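import Cfsg.Agent.Lib.CentralSection.TwD4TwoSec

/-!
# A section of the unipotent group of `³D₄(2)` in every central extension
-/

set_option autoImplicit false
set_option maxRecDepth 20000
set_option linter.unusedSectionVars false
set_option linter.style.haveILetI false
set_option maxHeartbeats 2000000

namespace Cfsg.Agent.Chev.TwD4

open Cfsg.Lie
open Tab
open Cfsg.Agent.CentralSection
open scoped commutatorElement

section Generators

variable {G : Type*} [Group G]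

/-- normalising from generators -/
theorem mem_normalizer_closure [Finite G] {S : Set G} {g : G}
    (h : ∀ x ∈ S, g * x * g⁻¹ ∈ Subgroup.closure S) : g ∈ Subgroup.normalizer (Subgroup.closure S : Set G) := by
  have hle : Subgroup.closure S ≤ (Subgroup.closure S).comap (MulAut.conj g).toMonoidHom :=
    (Subgroup.closure_le _).2 h
  refine Subgroup.mem_normalizer_iff.2 fun x => ⟨fun hx => hle hx, fun hx => ?_⟩
  have hinj : Function.Injective fun y : Subgroup.closure S =>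
      (⟨g * y * g⁻¹, hle y.2⟩ : Subgroup.closure S) := fun a b e =>
    Subtype.ext (by simpa using congrArg Subtype.val e)
  obtain ⟨y, hy⟩ := (Finite.injective_iff_surjective.1 hinj) ⟨_, hx⟩
  have e : (y : G) = x := by simpa using congrArg Subtype.val hy
  exact e ▸ y.2

/-- the same for a subgroup -/
theorem mem_normalizer_closure' [Finite G] {H : Subgroup G} {g : G} (h : ∀ x ∈ H, g * x * g⁻¹ ∈ H) :
    g ∈ Subgroup.normalizer (H : Set G) := by
  have := mem_normalizer_closure (S := (H : Set G)) (g := g) (by rw [Subgroup.closure_eq]; exact h)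
  rwa [Subgroup.closure_eq] at this

end Generators

section Nontriv

variable {F : Type*} [Field F]

theorem xg22_ne_23 : xg g0 22 (1 : F) ≠ xg g0 23 1 := fun h => by
  have h' := lowest_coeff g0 (k := 22) (by decide +kernel) (by decide +kernel)
    (h ▸ xg_mem_genS g0 (S := Set.Ico (22 + 1) D4Data.tab.n) (r := 23) ⟨by norm_num, by decide +kernel⟩ 1)
  exact one_ne_zero h'

end Nontriv

variable {F : Type*} [Field F] [Fintype F] [CharP F 2] (hq : IsPrimePow 2) (hK : Fintype.card F = 2 ^ 3)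

theorem Q_conj {g : ↥(X hq hK).G1} (hA : ∀ s, g * eA hq hK s * g⁻¹ ∈ Qr hq hK)
    (hB : ∀ s, g * eB hq hK s * g⁻¹ ∈ Qr hq hK) (hC : ∀ s, g * eC hq hK s * g⁻¹ ∈ Qr hq hK) :
    g ∈ Subgroup.normalizer (Qr hq hK : Set ↥(X hq hK).G1) :=
  mem_normalizer_closure (S := Set.range (eA hq hK (F := F)) ∪ Set.range (eB hq hK (F := F)) ∪
    Set.range (eC hq hK (F := F))) (by
    rintro _ ((⟨s, rfl⟩ | ⟨s, rfl⟩) | ⟨s, rfl⟩)
    exacts [hA s, hB s, hC s])

variable {u : Fˣ}

section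

variable (hu : nrm 2 u = 1)
include hu

theorem tu_eC' (s : F) : tu hq hK u * eC hq hK s * (tu hq hK u)⁻¹ = eC hq hK (((u : F) ^ 2)⁻¹ * s) := by
  have h := tu_eC hq hK hu (((u : F) ^ 2)⁻¹ * s)
  rw [mul_inv_cancel_left₀ (pow_ne_zero _ (Units.ne_zero u))] at h
  rw [← h]; group

theorem tu_norm_Q : tu hq hK u ∈ Subgroup.normalizer (Qr hq hK : Set ↥(X hq hK).G1) :=
  Q_conj hq hK (fun s => by rw [tu_eA]; exact eA_mem_Q hq hK _)
    (fun s => by rw [tu_eB hq hK hu]; exact eB_mem_Q hq hK _)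
    (fun s => by rw [tu_eC' hq hK hu]; exact eC_mem_Q hq hK _)

variable (hgen : ∀ s : F, s ≠ 0 → ∃ k : ℕ, ((u : F) ^ 2) ^ k = s)
include hgen

/-- the action of the long root involution on the first orbit -/
theorem z_eA (s : F) : ∃ w ∈ (X hq hK).Uf 17,
    zz hq hK * eA hq hK s * zz hq hK = eA hq hK s * eB hq hK s * w := by
  by_cases hs : s = 0
  · subst hs
    exact ⟨1, one_mem _, by rw [eA_zero, eB_zero, mul_one, mul_one, mul_one]; exact xz_sq hq hK _⟩
  obtain ⟨k, rfl⟩ := hgen s hs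
  induction k with
  | zero =>
    refine ⟨eC hq hK 1 * x22 hq hK, mul_mem (eC_Uf hq hK 1) ?_, ?_⟩
    · exact (X hq hK).Uf_anti (show 17 ≤ 22 by norm_num) (Rk_le_Uf hq hK (by simp) (xl_mem hq hK (k := 22) (by simp) (one_pow 2)))
    · rw [pow_zero, relA]; group
  | succ k ih =>
    obtain ⟨w, hw, e⟩ := ih (pow_ne_zero _ (pow_ne_zero _ (Units.ne_zero u)))
    set t := tu hq hK u
    have htz : t * zz hq hK = zz hq hK * t := tu_long hq hK hu _
    refine ⟨t * w * t⁻¹, (Subgroup.mem_normalizer_iff.1 ((X hq hK).Tg_norm 17 (show t ∈ (X hq hK).Tg from ?_)) w).1 hw, ?_⟩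
    · show tor D4Data.tab F _ ∈ D4Data.tab.D.diagonalSubgroup F
      rw [diagonalSubgroup_eq g0]; exact ⟨_, rfl⟩
    · rw [pow_succ']
      have htz' : zz hq hK * t⁻¹ = t⁻¹ * zz hq hK := by
        rw [eq_inv_mul_iff_mul_eq, ← mul_assoc, htz, mul_inv_cancel_right]
      calc zz hq hK * eA hq hK ((u : F) ^ 2 * ((u : F) ^ 2) ^ k) * zz hq hK
          = zz hq hK * (t * eA hq hK (((u : F) ^ 2) ^ k) * t⁻¹) * zz hq hK := by rw [tu_eA]
        _ = t * (zz hq hK * eA hq hK (((u : F) ^ 2) ^ k) * zz hq hK) * t⁻¹ := by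
          rw [show zz hq hK * (t * eA hq hK (((u : F) ^ 2) ^ k) * t⁻¹) * zz hq hK =
            (zz hq hK * t) * eA hq hK (((u : F) ^ 2) ^ k) * (t⁻¹ * zz hq hK) by group, ← htz, ← htz']
          group
        _ = (t * eA hq hK (((u : F) ^ 2) ^ k) * t⁻¹) * (t * eB hq hK (((u : F) ^ 2) ^ k) * t⁻¹) * (t * w * t⁻¹) := by
          rw [e]; group
        _ = _ := by rw [tu_eA, tu_eB hq hK hu]

theorem z_norm_Q : zz hq hK (F := F) ∈ Subgroup.normalizer (Qr hq hK : Set ↥(X hq hK).G1) := by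
  have hzi : (zz hq hK (F := F))⁻¹ = zz hq hK := xz_inv hq hK _
  refine Q_conj hq hK (fun s => ?_) (fun s => ?_) fun s => ?_
  · obtain ⟨w, hw, e⟩ := z_eA hq hK hu hgen s
    rw [hzi, e]
    exact mul_mem (mul_mem (eA_mem_Q hq hK s) (eB_mem_Q hq hK s)) (Uf17_le_Q hq hK hw)
  · rw [hzi, z_commute hq hK (eB_gen hq hK s)]; exact eB_mem_Q hq hK s
  · rw [hzi, z_commute hq hK (eC_gen hq hK s)]; exact eC_mem_Q hq hK s

end

theorem n0_norm_Q : (fr hq hK (F := F)).n 0 ∈ Subgroup.normalizer (Qr hq hK : Set ↥(X hq hK).G1) :=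
  Q_conj hq hK (fun s => by have h := eB_mem_Q hq hK s; rwa [eB] at h)
    (fun s => by rw [n0_eB]; exact eA_mem_Q hq hK s) (fun s => by rw [n0_eC]; exact eC_mem_Q hq hK s)

theorem xz_ne_one {k : ℕ} (hk : k ∈ ([14, 22, 23] : List ℕ)) : xz hq hK (F := F) hk ≠ 1 := fun h =>
  one_ne_zero (xg_injective g0 (F := F) (long_facts k hk).1
    ((congrArg Subtype.val h).trans (xg_zero g0 k).symm))

theorem Tg_tu (u : Fˣ) : tu hq hK u ∈ (X hq hK).Tg := by
  show tor D4Data.tab F _ ∈ D4Data.tab.D.diagonalSubgroup F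
  rw [diagonalSubgroup_eq g0]; exact ⟨_, rfl⟩

theorem dd_x22 : dd hq hK * x22 hq hK * (dd hq hK)⁻¹ = x23 hq hK (F := F) := by
  have hz : zz hq hK * x23 hq hK * zz hq hK = x23 hq hK (F := F) :=
    z_commute hq hK (xg_mem_genS g0 (S := {r | r ∈ ([15, 16, 19, 17, 20, 21, 23] : List ℕ)}) (r := 23) (by simp) 1)
  rw [dd, mul_inv_rev, zz, xz_inv, ← zz]
  calc zz hq hK * (fr hq hK).n 0 * x22 hq hK * (((fr hq hK).n 0)⁻¹ * zz hq hK)
      = zz hq hK * ((fr hq hK).n 0 * x22 hq hK * ((fr hq hK).n 0)⁻¹) * zz hq hK := by group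
    _ = _ := by rw [n0_x22, hz]

theorem dd_x23 : dd hq hK * x23 hq hK * (dd hq hK)⁻¹ = x22 hq hK (F := F) * x23 hq hK := by
  have h : (fr hq hK).n 0 * x23 hq hK * ((fr hq hK).n 0)⁻¹ = x22 hq hK (F := F) := by
    rw [← n0_x22, n0_inv]
    calc (fr hq hK).n 0 * ((fr hq hK).n 0 * x22 hq hK * (fr hq hK).n 0) * (fr hq hK).n 0
        = ((fr hq hK).n 0 * (fr hq hK).n 0) * x22 hq hK * ((fr hq hK).n 0 * (fr hq hK).n 0) := by group
      _ = _ := by rw [n0_sq, one_mul, mul_one]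
  rw [dd, mul_inv_rev, zz, xz_inv, ← zz]
  calc zz hq hK * (fr hq hK).n 0 * x23 hq hK * (((fr hq hK).n 0)⁻¹ * zz hq hK)
      = zz hq hK * ((fr hq hK).n 0 * x23 hq hK * ((fr hq hK).n 0)⁻¹) * zz hq hK := by group
    _ = _ := by rw [h, relZ]

theorem long_gen {k : ℕ} (hk : k ∈ ([22, 23] : List ℕ)) : xz hq hK (F := F) (k := k) (by simp at hk ⊢; tauto) ∈ (X hq hK).Uf 22 := by
  refine (X hq hK).Uf_anti (k := 22) (k' := k) (by simp at hk; omega) ?_
  have hk' : k ∈ ([14, 22, 23] : List ℕ) := by simp at hk ⊢; tauto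
  exact Rk_le_Uf hq hK hk' (xl_mem hq hK hk' (one_pow 2))

theorem x22_Uf : x22 hq hK (F := F) ∈ (X hq hK).Uf 22 := long_gen hq hK (k := 22) (by simp)

theorem x23_Uf : x23 hq hK (F := F) ∈ (X hq hK).Uf 22 := long_gen hq hK (k := 23) (by simp)

theorem dd_norm22 : dd hq hK (F := F) ∈ Subgroup.normalizer ((X hq hK).Uf 22 : Set ↥(X hq hK).G1) := by
  refine mem_normalizer_closure' ?_
  intro v hv
  rcases Uf22_cases hq hK hv with rfl | rfl | rfl | rfl
  · simp
  · rw [dd_x22]; exact x23_Uf hq hK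
  · rw [dd_x23]; exact mul_mem (x22_Uf hq hK) (x23_Uf hq hK)
  · rw [← conj_mul, dd_x22, dd_x23]; exact mul_mem (x23_Uf hq hK) (mul_mem (x22_Uf hq hK) (x23_Uf hq hK))

theorem dd_eC (s : F) : dd hq hK * eC hq hK s * (dd hq hK)⁻¹ = eC hq hK s := by
  rw [dd, mul_inv_rev, zz, xz_inv, ← zz]
  calc zz hq hK * (fr hq hK).n 0 * eC hq hK s * (((fr hq hK).n 0)⁻¹ * zz hq hK)
      = zz hq hK * ((fr hq hK).n 0 * eC hq hK s * ((fr hq hK).n 0)⁻¹) * zz hq hK := by group
    _ = _ := by rw [n0_eC, z_commute hq hK (eC_gen hq hK s)]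

theorem dd_norm17 : dd hq hK (F := F) ∈ Subgroup.normalizer ((X hq hK).Uf 17 : Set ↥(X hq hK).G1) := by
  refine mem_normalizer_closure' fun v hv => ?_
  obtain ⟨s, h⟩ := Uf17_form hq hK hv
  rw [show v = eC hq hK s * ((eC hq hK s)⁻¹ * v) by group, ← conj_mul, dd_eC]
  exact mul_mem (eC_Uf hq hK s) ((X hq hK).Uf_anti (show 17 ≤ 22 by norm_num)
    ((Subgroup.mem_normalizer_iff.1 (dd_norm22 hq hK) _).1 h))

variable {Y : Type*} [Group Y] (η : Y →* ↥(X hq hK).G1)

theorem section_two (hs : Function.Surjective η) (hc : η.ker ≤ Subgroup.center Y) :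
    ∃ N : Subgroup Y, IsSection η ((X hq hK).Uf 12) N := by
  obtain ⟨u, hrel, hu, hgen⟩ := exists_lam (F := F) hK
  set t := tu hq hK u with ht
  set d := dd hq hK (F := F) with hd
  set Q := Qr hq hK (F := F) with hQ
  set lam : F := (u : F) ^ 2 with hlam
  have hlam0 : lam ≠ 0 := pow_ne_zero _ (Units.ne_zero u)
  have h2 : (2 : F) = 0 := CharTwo.two_eq_zero
  have hlam1 : lam + 1 ≠ 0 := fun h => by
    have e : lam = 1 := by linear_combination h - h2
    rw [e] at hrel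
    simp [h2, CharTwo.add_self_eq_zero] at hrel
  -- the abelian group acting
  set T : Subgroup ↥(X hq hK).G1 := Subgroup.closure {t, d} with hT
  have hzt : t * zz hq hK = zz hq hK * t := tu_long hq hK hu _
  have htd : t * d = d * t := by
    rw [hd, dd, ← mul_assoc, hzt, mul_assoc, ← tu_n0 hq hK hu, mul_assoc]
  have hTab : ∀ a ∈ T, ∀ b ∈ T, a * b = b * a := by
    have h1 : T ≤ Subgroup.centralizer {t, d} := (Subgroup.closure_le _).2 (by
      rintro x (rfl | rfl) <;> refine Subgroup.mem_centralizer_iff.2 ?_ <;> rintro y (rfl | rfl)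
      exacts [rfl, htd.symm, htd, rfl])
    have h2 : T ≤ Subgroup.centralizer (T : Set ↥(X hq hK).G1) := (Subgroup.closure_le _).2 (by
      intro x hx
      refine Subgroup.mem_centralizer_iff.2 fun y hy => ?_
      exact ((Subgroup.mem_centralizer_iff.1 (h1 hy)) x hx).symm)
    exact fun a ha b hb => (Subgroup.mem_centralizer_iff.1 (h2 ha) b hb).symm
  have htT : t ∈ T := Subgroup.subset_closure (Or.inl rfl)
  have hdT : d ∈ T := Subgroup.subset_closure (Or.inr rfl)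
  have hTn : ∀ {S : Subgroup ↥(X hq hK).G1}, t ∈ Subgroup.normalizer (S : Set ↥(X hq hK).G1) →
      d ∈ Subgroup.normalizer (S : Set ↥(X hq hK).G1) → T ≤ Subgroup.normalizer (S : Set ↥(X hq hK).G1) :=
    fun h1 h2 => (Subgroup.closure_le _).2 (by rintro x (rfl | rfl) <;> assumption)
  have hTQ : T ≤ Subgroup.normalizer (Q : Set ↥(X hq hK).G1) :=
    hTn (tu_norm_Q hq hK hu) (mul_mem (z_norm_Q hq hK hu hgen) (n0_norm_Q hq hK))
  have hT17 := hTn ((X hq hK).Tg_norm 17 (Tg_tu hq hK u)) (dd_norm17 hq hK)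
  have hT22 := hTn ((X hq hK).Tg_norm 22 (Tg_tu hq hK u)) (dd_norm22 hq hK)
  have hQU : Q ≤ (X hq hK).Uf 12 := Q_le_Uf hq hK
  -- commutators with the torus element
  have htA : ∀ s, ⁅t, eA hq hK s⁆ = eA hq hK ((lam + 1) * s) := fun s => by
    rw [commutatorElement_def, tu_eA, inv_of_add hq hK _ (eA_add hq hK) (eA_zero hq hK), eA_add]
    congr 1; ring
  have htB : ∀ s, ⁅t, eB hq hK s⁆ = eB hq hK ((lam + 1) * s) := fun s => by
    rw [commutatorElement_def, tu_eB hq hK hu, inv_of_add hq hK _ (eB_add hq hK) (eB_zero hq hK), eB_add]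
    congr 1; ring
  have htC : ∀ s, ⁅t, eC hq hK s⁆ = eC hq hK ((lam⁻¹ + 1) * s) := fun s => by
    rw [commutatorElement_def, tu_eC' hq hK hu, inv_of_add hq hK _ (eC_add hq hK) (eC_zero hq hK), eC_add]
    congr 1; ring
  have hlamC : lam⁻¹ + 1 ≠ 0 := fun h => hlam1 (by
    have : lam * (lam⁻¹ + 1) = 0 := by rw [h, mul_zero]
    rw [mul_add, mul_inv_cancel₀ hlam0, mul_one] at this
    linear_combination this)
  have ht22 : ∀ v ∈ (X hq hK).Uf 22, t * v = v * t := fun v hv => by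
    rcases Uf22_cases hq hK hv with rfl | rfl | rfl | rfl
    · simp
    · exact tu_long hq hK hu _
    · exact tu_long hq hK hu _
    · rw [← mul_assoc, show t * x22 hq hK = x22 hq hK * t from tu_long hq hK hu _, mul_assoc,
        show t * x23 hq hK = x23 hq hK * t from tu_long hq hK hu _, mul_assoc]
  -- the highest layer commutes exactly with the radical
  have hA : ∀ x y, η x ∈ Q → η y ∈ (X hq hK).Uf 22 → ⁅x, y⁆ = 1 := by
    intro x y hx hy
    refine Cg_commute η hc ((Subgroup.closure_le _).2 ?_ hx)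
    have key : ∀ g : ↥(X hq hK).G1, g * η y = η y * g → ⁅t, g⁆ ∈ Cg η y := fun g hg =>
      comm_mem_Cg η hc hs hg (ht22 _ hy)
    rintro _ ((⟨s, rfl⟩ | ⟨s, rfl⟩) | ⟨s, rfl⟩)
    · rw [← mul_div_cancel₀ s hlam1, ← htA]
      exact key _ (long_commute hq hK (short_gen hq hK _).1 hy)
    · rw [← mul_div_cancel₀ s hlam1, ← htB]
      exact key _ (long_commute hq hK (short_gen hq hK _).2.1 hy)
    · rw [← mul_div_cancel₀ s hlamC, ← htC]
      exact key _ (long_commute hq hK (short_gen hq hK _).2.2 hy)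
  have hU22 : ∀ a ∈ Q, ∀ v ∈ (X hq hK).Uf 22, ⁅a, v⁆ ∈ (⊥ : Subgroup ↥(X hq hK).G1) := fun a ha v hv => by
    obtain ⟨x, rfl⟩ := hs a
    obtain ⟨y, rfl⟩ := hs v
    rw [← map_commutatorElement, hA x y ha hv, map_one]
    exact one_mem _
  have hnor : ∀ S : Subgroup Y, S ≤ Subgroup.normalizer ((⊥ : Subgroup Y) : Set Y) :=
    fun S y _ => Subgroup.mem_normalizer_iff.2 fun z => by simp
  obtain ⟨N3, -, hN3, hN3Q, hN3T⟩ := CentralSection.step η hc hs hTab (Uf22_le_Q hq hK) hT22 bot_le hU22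
    (isSection_bot η) (hnor _) (hnor _) (fun x y hx hy => Subgroup.mem_bot.2 (hA x y hx hy)) hdT (by
      intro v hv h
      rw [Subgroup.mem_bot, commutatorElement_eq_one_iff_mul_comm, ← mul_inv_eq_iff_eq_mul] at h
      rcases Uf22_cases hq hK hv with rfl | rfl | rfl | rfl
      · exact one_mem _
      · exfalso
        rw [hd, dd_x22] at h
        have := congrArg Subtype.val h
        exact absurd (xg22_ne_23 (F := F)) (not_not.2 this.symm)
      · exfalso
        rw [hd, dd_x23, mul_eq_right] at h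
        exact xz_ne_one hq hK _ h
      · exfalso
        rw [hd, ← conj_mul, dd_x22, dd_x23] at h
        have h' : x22 hq hK (F := F) = 1 := by
          have e : x23 hq hK * (x22 hq hK * x23 hq hK) = x22 hq hK (F := F) := by
            have hcm : x22 hq hK (F := F) * x23 hq hK = x23 hq hK * x22 hq hK := by
              refine Subtype.ext ?_
              show xg g0 22 (1 : F) * xg g0 23 1 = xg g0 23 1 * xg g0 22 1
              exact (genS_commute gA (A := [22]) (B := [23]) (by decide +kernel)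
                (xg_mem_genS g0 (S := {r | r ∈ ([22] : List ℕ)}) (List.mem_singleton_self 22) 1)
                (xg_mem_genS g0 (S := {r | r ∈ ([23] : List ℕ)}) (List.mem_singleton_self 23) 1)).eq
            rw [hcm, ← mul_assoc, show x23 hq hK (F := F) * x23 hq hK = 1 from xz_sq hq hK _, one_mul]
          rw [e, left_eq_mul] at h
          exact absurd h (xz_ne_one hq hK _)
        exact xz_ne_one hq hK _ h')
  -- the middle layer
  have hcomm : ∀ a ∈ Q, ∀ v ∈ (X hq hK).Uf 17, ⁅a, v⁆ ∈ (X hq hK).Uf 22 := fun a ha v hv =>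
    Uf18_le hq hK (Uf_comm' hq hK (by norm_num) (hQU ha) hv)
  have h17Q : (X hq hK (F := F)).Uf 17 ≤ Q := Uf17_le_Q hq hK
  have h22Q : (X hq hK (F := F)).Uf 22 ≤ Q := Uf22_le_Q hq hK
  obtain ⟨τ, hτ⟩ := hs t
  have hτN3 : τ ∈ Subgroup.normalizer (N3 : Set Y) := hN3T (show η τ ∈ T from hτ ▸ htT)
  have hB : ∀ x ∈ ((X hq hK).Uf 17).comap η, ∀ y ∈ ((X hq hK).Uf 17).comap η, ⁅x, y⁆ ∈ N3 := by
    refine rel_kill_mod η hc (τ := τ⁻¹) (inv_mem hτN3) (fun x hx => hN3Q (h17Q hx)) (fun a => ?_)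
      (fun a ha b hb => ?_) (fun a ha b hb => ?_)
    · simp only [Subgroup.mem_comap, map_mul, map_inv, hτ]
      exact (Subgroup.mem_normalizer_iff.1 (inv_mem (hT17 htT)) _).symm
    · obtain ⟨n, hn, e⟩ := hN3.lift (show η ⁅a, b⁆ ∈ (X hq hK).Uf 22 by
        rw [map_commutatorElement]; exact hcomm _ (h17Q ha) _ hb)
      exact ⟨n, hn, e.symm⟩
    · have hw : η ((τ⁻¹ * b * τ⁻¹⁻¹ * b)⁻¹ * (τ⁻¹ ^ 3 * b * (τ⁻¹ ^ 3)⁻¹)) ∈ (X hq hK).Uf 22 := by
        obtain ⟨s, hr⟩ := Uf17_form hq hK hb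
        set r := (eC hq hK s)⁻¹ * η b with hrd
        have eb : η b = eC hq hK s * r := by rw [hrd, mul_inv_cancel_left]
        have hrc : ∀ s', eC hq hK s' * r = r * eC hq hK s' := fun s' =>
          long_commute hq hK (short_gen hq hK s').2.2 hr
        have htr : t⁻¹ * r * t = r := by rw [mul_assoc, ← ht22 r hr, inv_mul_cancel_left]
        have hact : ∀ s', t⁻¹ * (eC hq hK s' * r) * t = eC hq hK (lam * s') * r := fun s' => by
          rw [show t⁻¹ * (eC hq hK s' * r) * t = (t⁻¹ * eC hq hK s' * t) * (t⁻¹ * r * t) by group, htr,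
            tu_eC hq hK hu]
        simp only [map_mul, map_inv, map_pow, hτ, inv_inv, eb]
        rw [show t⁻¹ ^ 3 * (eC hq hK s * r) * (t⁻¹ ^ 3)⁻¹ = t⁻¹ * (t⁻¹ * (t⁻¹ * (eC hq hK s * r) * t) * t) * t by
          simp only [pow_succ, pow_zero, one_mul, mul_inv_rev, inv_inv, mul_assoc], hact, hact, hact]
        rw [show (eC hq hK (lam * s) * r * (eC hq hK s * r))⁻¹ * (eC hq hK (lam * (lam * (lam * s))) * r) =
            r⁻¹ * (eC hq hK s)⁻¹ * r⁻¹ * ((eC hq hK (lam * s))⁻¹ * eC hq hK (lam * (lam * (lam * s)))) * r by group,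
          inv_of_add hq hK _ (eC_add hq hK) (eC_zero hq hK) (lam * s), eC_add,
          show lam * s + lam * (lam * (lam * s)) = s by linear_combination s * hrel + (lam * s) * h2]
        rw [show r⁻¹ * (eC hq hK s)⁻¹ * r⁻¹ * eC hq hK s * r = r⁻¹ * (eC hq hK s)⁻¹ * r⁻¹ * (eC hq hK s * r) by group,
          hrc]
        simp [mul_assoc, hr]
      rw [hA a _ (h17Q ha) hw]
      exact one_mem _
  have hkill2 : ∀ x y, η x ∈ Q → η y ∈ (X hq hK).Uf 17 → ⁅x, y⁆ ∈ N3 := by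
    intro x y hx hy
    let P : ↥(X hq hK).G1 → Prop := fun g => g ∈ Q ∧ ∀ z, η z = g → ⁅z, y⁆ ∈ N3
    have hP17 : ∀ g ∈ (X hq hK).Uf 17, P g := fun g hg =>
      ⟨h17Q hg, fun z hz => hB z (show η z ∈ _ from hz ▸ hg) y hy⟩
    have hmul : ∀ g g', P g → P g' → P (g * g') := fun g g' h h' => ⟨mul_mem h.1 h'.1, fun z hz => by
      obtain ⟨a, rfl⟩ := hs g
      obtain ⟨b, rfl⟩ := hs g'
      rw [comm_congr η hc (a := z) (a' := a * b) (b := y) (b' := y) (by rw [map_mul]; exact hz) rfl]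
      exact killed_mul η hc hN3Q h.1 (h.2 a rfl) (h'.2 b rfl)⟩
    have hinv : ∀ g, P g → P g⁻¹ := fun g h => ⟨inv_mem h.1, fun z hz => by
      obtain ⟨a, rfl⟩ := hs g
      rw [comm_congr η hc (a := z) (a' := a⁻¹) (b := y) (b' := y) (by rw [map_inv]; exact hz) rfl]
      exact killed_inv η hc hN3Q h.1 (h.2 a rfl)⟩
    have hdy : ⁅d, η y⁆ ∈ (X hq hK).Uf 22 := by
      obtain ⟨s, hr⟩ := Uf17_form hq hK hy
      have e : η y = eC hq hK s * ((eC hq hK s)⁻¹ * η y) := by group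
      rw [commutatorElement_def, e, ← conj_mul, hd, dd_eC, mul_inv_rev]
      have h1 := mul_mem ((Subgroup.mem_normalizer_iff.1 (dd_norm22 hq hK) _).1 hr) (inv_mem hr)
      have h2 := Uf_conj hq hK (k := 22) (by norm_num)
        ((X hq hK).Uf_anti (by norm_num) (eC_Uf hq hK s)) h1
      simpa [mul_assoc] using h2
    have hPd : ∀ g ∈ Q, P ⁅d, g⁆ := fun g hg => by
      have hdg : ⁅d, g⁆ ∈ Q := by
        rw [commutatorElement_def]
        exact mul_mem ((Subgroup.mem_normalizer_iff.1 (hTQ hdT) g).1 hg) (inv_mem hg)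
      refine ⟨hdg, fun z hz => ?_⟩
      obtain ⟨δ, hδ⟩ := hs d
      obtain ⟨h, rfl⟩ := hs g
      rw [comm_congr η hc (a := z) (a' := ⁅δ, h⁆) (b := y) (b' := y) (by rw [hz, map_commutatorElement, hδ]) rfl]
      refine fixed_kill_mod η hc (hN3T (show η δ ∈ T from hδ ▸ hdT)) (hN3Q hg) (hN3Q (h17Q hy)) ?_ ?_
      · obtain ⟨n, hn, e⟩ := hN3.lift (show η ⁅h, y⁆ ∈ (X hq hK).Uf 22 by
          rw [map_commutatorElement]; exact hcomm _ hg _ hy)
        exact ⟨n, hn, e.symm⟩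
      · obtain ⟨n, hn, e⟩ := hN3.lift (show η ⁅δ, y⁆ ∈ (X hq hK).Uf 22 by
          rw [map_commutatorElement, hδ]; exact hdy)
        exact ⟨n, hn, e.symm⟩
    have hPA : ∀ s, P (eA hq hK s) := fun s => by
      obtain ⟨w, hw, e⟩ := z_eA hq hK hu hgen s
      have hzi : (zz hq hK (F := F))⁻¹ = zz hq hK := xz_inv hq hK _
      have hcm : ⁅d, eB hq hK s⁆ = eA hq hK s * eB hq hK s * w * eB hq hK s := by
        rw [commutatorElement_def, inv_of_add hq hK _ (eB_add hq hK) (eB_zero hq hK)]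
        congr 1
        rw [hd, dd, mul_inv_rev, hzi, ← e, ← n0_eB hq hK s]
        group
      have hw' : eB hq hK s * w * eB hq hK s ∈ (X hq hK).Uf 17 := by
        have := Uf_conj hq hK (k := 17) (by norm_num) ((X hq hK).Uf_anti (by norm_num) (eB_Uf hq hK s)) hw
        rwa [inv_of_add hq hK _ (eB_add hq hK) (eB_zero hq hK)] at this
      have h := hmul _ _ (hPd _ (eB_mem_Q hq hK s)) (hinv _ (hP17 _ hw'))
      rwa [hcm, show eA hq hK s * eB hq hK s * w * eB hq hK s * (eB hq hK s * w * eB hq hK s)⁻¹ = eA hq hK s by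
        group] at h
    have hPB : ∀ s, P (eB hq hK s) := fun s => by
      have hcm : ⁅d, eA hq hK s⁆ = eB hq hK s * eA hq hK s := by
        rw [commutatorElement_def, inv_of_add hq hK _ (eA_add hq hK) (eA_zero hq hK)]
        congr 1
        rw [hd, dd, mul_inv_rev, show (zz hq hK (F := F))⁻¹ = zz hq hK from xz_inv hq hK _,
          ← z_commute hq hK (eB_gen hq hK s), eB]
        group
      have h := hmul _ _ (hPd _ (eA_mem_Q hq hK s)) (hinv _ (hPA s))
      rwa [hcm, mul_inv_cancel_right] at h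
    have hall : ∀ g ∈ Q, P g := fun g hg => by
      obtain ⟨s, r, w, hw, rfl⟩ := Q_form hq hK hg
      exact hmul _ _ (hmul _ _ (hPA s) (hPB r)) (hP17 w hw)
    exact (hall _ hx).2 x rfl
  obtain ⟨N2, hN23, hN2, hN2Q, hN2T⟩ := CentralSection.step η hc hs hTab h17Q hT17
    ((X hq hK).Uf_anti (by norm_num)) hcomm hN3 hN3Q hN3T hkill2 htT (by
      intro v hv h
      obtain ⟨s, hr⟩ := Uf17_form hq hK hv
      set r := (eC hq hK s)⁻¹ * v with hrd
      have e : v = eC hq hK s * r := by rw [hrd, mul_inv_cancel_left]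
      have htr : ⁅t, v⁆ = eC hq hK ((lam⁻¹ + 1) * s) := by
        rw [← htC, e, commutatorElement_def, commutatorElement_def, mul_inv_rev]
        rw [show t * (eC hq hK s * r) * t⁻¹ * (r⁻¹ * (eC hq hK s)⁻¹) =
          t * eC hq hK s * t⁻¹ * ((t * r) * t⁻¹ * r⁻¹) * (eC hq hK s)⁻¹ by group, ht22 r hr]
        group
      rw [htr] at h
      have h0 := eC_inj hq hK ((X hq hK).Uf_anti (by norm_num) h)
      rcases mul_eq_zero.1 h0 with h' | h'
      · exact absurd h' hlamC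
      · rw [e, h', eC_zero, one_mul]; exact hr)
  -- the lowest layer
  have hQQ : ∀ a ∈ Q, ∀ b ∈ Q, ⁅a, b⁆ ∈ (X hq hK).Uf 17 := by
    intro a ha b hb
    have key : ∀ g ∈ Q, ∀ s, ⁅g, eA hq hK s⁆ ∈ (X hq hK).Uf 17 ∧ ⁅g, eB hq hK s⁆ ∈ (X hq hK).Uf 17 := by
      intro g hg s
      have hB15 : ∀ v ∈ (X hq hK).Uf 15, ∀ w ∈ (X hq hK).Uf 12, ⁅w, v⁆ ∈ (X hq hK).Uf 17 := fun v hv w hw =>
        Uf16_le hq hK (Uf_comm' hq hK (by norm_num) hw hv)
      obtain ⟨s', r, w, hw, rfl⟩ := Q_form hq hK hg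
      refine ⟨?_, hB15 _ (eB_Uf hq hK s) _ (hQU hg)⟩
      have hv : eB hq hK r * w ∈ (X hq hK).Uf 15 := mul_mem (eB_Uf hq hK r) ((X hq hK).Uf_anti (by norm_num) hw)
      rw [mul_assoc, show ⁅eA hq hK s' * (eB hq hK r * w), eA hq hK s⁆ =
          eA hq hK s' * ⁅eB hq hK r * w, eA hq hK s⁆ * (eA hq hK s')⁻¹ * ⁅eA hq hK s', eA hq hK s⁆ by
        simp only [commutatorElement_def]; group]
      have h1 : ⁅eA hq hK s', eA hq hK s⁆ = 1 := by
        rw [commutatorElement_eq_one_iff_mul_comm, eA_add, eA_add, add_comm]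
      rw [h1, mul_one, ← commutatorElement_inv]
      exact Uf_conj hq hK (by norm_num) (eA_Uf hq hK s') (inv_mem (hB15 _ hv _ (eA_Uf hq hK s)))
    obtain ⟨s, r, w, hw, rfl⟩ := Q_form hq hK hb
    rw [show ⁅a, eA hq hK s * eB hq hK r * w⁆ = ⁅a, eA hq hK s⁆ *
        (eA hq hK s * ⁅a, eB hq hK r⁆ * (eA hq hK s)⁻¹) *
        ((eA hq hK s * eB hq hK r) * ⁅a, w⁆ * (eA hq hK s * eB hq hK r)⁻¹) by
      simp only [commutatorElement_def]; group]
    refine mul_mem (mul_mem (key a ha s).1 (Uf_conj hq hK (by norm_num) (eA_Uf hq hK s) (key a ha r).2))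
      (Uf_conj hq hK (by norm_num) ?_ ((X hq hK).Uf_anti (by norm_num) (hcomm a ha w hw)))
    exact mul_mem (eA_Uf hq hK s) ((X hq hK).Uf_anti (by norm_num) (eB_Uf hq hK r))
  have hτN2 : τ ∈ Subgroup.normalizer (N2 : Set Y) := hN2T (show η τ ∈ T from hτ ▸ htT)
  have h17act : ∀ v ∈ (X hq hK).Uf 17, t * v * t⁻¹ ∈ (X hq hK).Uf 17 := fun v hv =>
    (Subgroup.mem_normalizer_iff.1 (hT17 htT) v).1 hv
  have hkill1 : ∀ x y, η x ∈ Q → η y ∈ Q → ⁅x, y⁆ ∈ N2 := by
    intro x y hx hy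
    refine rel_kill_mod η hc (H := Q.comap η) (τ := τ) hτN2 (fun x hx => hN2Q hx) (fun a => ?_)
      (fun a ha b hb => ?_) (fun a ha b hb => ?_) x hx y hy
    · simp only [Subgroup.mem_comap, map_mul, map_inv, hτ]
      exact (Subgroup.mem_normalizer_iff.1 (hTQ htT) _).symm
    · obtain ⟨n, hn, e⟩ := hN2.lift (show η ⁅a, b⁆ ∈ (X hq hK).Uf 17 by
        rw [map_commutatorElement]; exact hQQ _ ha _ hb)
      exact ⟨n, hn, e.symm⟩
    · have hw : η ((τ * b * τ⁻¹ * b)⁻¹ * (τ ^ 3 * b * (τ ^ 3)⁻¹)) ∈ (X hq hK).Uf 17 := by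
        obtain ⟨s, r, w, hw, eb⟩ := Q_form hq hK (show η b ∈ Q from hb)
        simp only [map_mul, map_inv, map_pow, hτ, eb]
        let H := Subgroup.normalizer ((X hq hK).Uf 17 : Set ↥(X hq hK).G1)
        haveI : (((X hq hK).Uf 17).subgroupOf H).Normal := Subgroup.normal_subgroupOf_of_le_normalizer le_rfl
        let π : H →* H ⧸ ((X hq hK).Uf 17).subgroupOf H := QuotientGroup.mk' _
        have hUH : (X hq hK).Uf 12 ≤ H := fun g hg => Subgroup.mem_normalizer_iff.2 fun v =>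
          ⟨Uf_conj hq hK (by norm_num) hg, fun h => by
            simpa [mul_assoc] using Uf_conj hq hK (by norm_num) (inv_mem hg) h⟩
        let tH : H := ⟨t, hT17 htT⟩
        let aH : F → H := fun v => ⟨eA hq hK v, hUH (eA_Uf hq hK v)⟩
        let bH : F → H := fun v => ⟨eB hq hK v, hUH ((X hq hK).Uf_anti (by norm_num) (eB_Uf hq hK v))⟩
        let wH : H := ⟨w, Subgroup.le_normalizer hw⟩
        have hπw : π wH = 1 := (QuotientGroup.eq_one_iff _).2 hw
        have hab : ∀ v v', π (bH v) * π (aH v') = π (aH v') * π (bH v) := fun v v' => by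
          rw [← commutatorElement_eq_one_iff_mul_comm, ← map_commutatorElement]
          exact (QuotientGroup.eq_one_iff _).2 (Subgroup.mem_subgroupOf.2 (hQQ _ (eB_mem_Q hq hK v) _ (eA_mem_Q hq hK v')))
        have hta : ∀ v, π tH * π (aH v) * (π tH)⁻¹ = π (aH (lam * v)) := fun v => by
          rw [← map_inv, ← map_mul, ← map_mul]
          exact congrArg π (Subtype.ext (tu_eA hq hK v))
        have htb : ∀ v, π tH * π (bH v) * (π tH)⁻¹ = π (bH (lam * v)) := fun v => by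
          rw [← map_inv, ← map_mul, ← map_mul]
          exact congrArg π (Subtype.ext (tu_eB hq hK hu v))
        have hct : ∀ v v', π tH * (π (aH v) * π (bH v')) * (π tH)⁻¹ = π (aH (lam * v)) * π (bH (lam * v')) :=
          fun v v' => by rw [← hta, ← htb]; group
        have key : π ((tH * (aH s * bH r * wH) * tH⁻¹ * (aH s * bH r * wH))⁻¹ *
            (tH ^ 3 * (aH s * bH r * wH) * (tH ^ 3)⁻¹)) = 1 := by
          simp only [map_mul, map_inv, map_pow, hπw, mul_one]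
          rw [show π tH ^ 3 * (π (aH s) * π (bH r)) * (π tH ^ 3)⁻¹ = π tH * (π tH * (π tH * (π (aH s) * π (bH r)) *
              (π tH)⁻¹) * (π tH)⁻¹) * (π tH)⁻¹ by simp only [pow_succ, pow_zero]; group, hct, hct, hct]
          have e3 : ∀ v, lam * (lam * (lam * v)) = lam * v + v := fun v => by linear_combination v * hrel
          have haH : ∀ v v', π (aH v) * π (aH v') = π (aH (v + v')) := fun v v' => by
            rw [← map_mul]; exact congrArg π (Subtype.ext (eA_add hq hK v v'))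
          have hbH : ∀ v v', π (bH v) * π (bH v') = π (bH (v + v')) := fun v v' => by
            rw [← map_mul]; exact congrArg π (Subtype.ext (eB_add hq hK v v'))
          rw [e3, e3, show π (aH (lam * s)) * π (bH (lam * r)) * (π (aH s) * π (bH r)) =
            π (aH (lam * s)) * (π (bH (lam * r)) * π (aH s)) * π (bH r) by group, hab, ← haH, ← hbH]
          group
        exact Subgroup.mem_subgroupOf.1 ((QuotientGroup.eq_one_iff _).1 key)
      exact hN23 (hkill2 _ _ (show η a ∈ Q from ha) hw)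
  obtain ⟨N1, -, hN1, -, hN1T⟩ := CentralSection.step η hc hs hTab le_rfl hTQ h17Q hQQ hN2 hN2Q hN2T hkill1 htT (by
      intro v hv h
      obtain ⟨s, r, w, hw, e⟩ := Q_form hq hK hv
      have hrest : eB hq hK r * w ∈ (X hq hK).Uf 15 := mul_mem (eB_Uf hq hK r) ((X hq hK).Uf_anti (by norm_num) hw)
      have htrest : t * (eB hq hK r * w) * t⁻¹ ∈ (X hq hK).Uf 15 :=
        (Subgroup.mem_normalizer_iff.1 ((X hq hK).Tg_norm 15 (Tg_tu hq hK u)) _).1 hrest
      have e1 : ⁅t, v⁆ = ⁅t, eA hq hK s⁆ * (eA hq hK s * ⁅t, eB hq hK r * w⁆ * (eA hq hK s)⁻¹) := by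
        rw [e]; simp only [commutatorElement_def]; group
      have hm : eA hq hK ((lam + 1) * s) ∈ (X hq hK).Uf 13 := by
        rw [← htA, show ⁅t, eA hq hK s⁆ = ⁅t, v⁆ * (eA hq hK s * ⁅t, eB hq hK r * w⁆ * (eA hq hK s)⁻¹)⁻¹ by
          rw [e1]; group]
        refine mul_mem ((X hq hK).Uf_anti (by norm_num) h) (inv_mem ?_)
        refine (X hq hK).Uf_anti (show 13 ≤ 15 by norm_num) (Uf_conj hq hK (by norm_num) (eA_Uf hq hK s) ?_)
        rw [commutatorElement_def]; exact mul_mem htrest (inv_mem hrest)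
      have hs0 := (mul_eq_zero.1 (eA_inj hq hK hm)).resolve_left hlam1
      subst hs0
      rw [eA_zero, one_mul] at e
      have hwt : t * w * t⁻¹ * w⁻¹ ∈ (X hq hK).Uf 17 := mul_mem (h17act w hw) (inv_mem hw)
      have e2 : ⁅t, v⁆ = eB hq hK ((lam + 1) * r) *
          (eB hq hK r * (t * w * t⁻¹ * w⁻¹) * (eB hq hK r)⁻¹) := by
        rw [← htB, e]; simp only [commutatorElement_def]; group
      have hm2 : eB hq hK ((lam + 1) * r) ∈ (X hq hK).Uf 16 := by
        have h17 := Uf_conj hq hK (k := 17) (by norm_num) ((X hq hK).Uf_anti (by norm_num) (eB_Uf hq hK r)) hwt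
        rw [show eB hq hK ((lam + 1) * r) = ⁅t, v⁆ * (eB hq hK r * (t * w * t⁻¹ * w⁻¹) * (eB hq hK r)⁻¹)⁻¹ by
          rw [e2]; group]
        exact (X hq hK).Uf_anti (by norm_num) (mul_mem h (inv_mem h17))
      have hr0 := (mul_eq_zero.1 (eB_inj hq hK hm2)).resolve_left hlam1
      rw [e, hr0, eB_zero, one_mul]
      exact hw)
  -- the section of the radical is generated by commutators with the torus element
  have hzeta : ∃ ζ, η ζ = zz hq hK ∧ ζ * ζ = 1 := by
    obtain ⟨n, hn, en⟩ := hN3.lift (x22_Uf hq hK)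
    have hnn : n * n = 1 := hN3.inj _ (mul_mem hn hn) (by rw [map_mul, en]; exact xz_sq hq hK _)
    obtain ⟨l, hl⟩ := hs ((fr hq hK).n 1)
    refine ⟨l⁻¹ * n * l, ?_, ?_⟩
    · rw [map_mul, map_mul, map_inv, hl, en, ← n1_z]; group
    · rw [show l⁻¹ * n * l * (l⁻¹ * n * l) = l⁻¹ * (n * n) * l by group, hnn]; group
  obtain ⟨ζ, hζ, hζ2⟩ := hzeta
  set S := Subgroup.closure {w | ∃ x, η x ∈ Q ∧ w = ⁅τ, x⁆} with hS
  have hSN : S ≤ N1 := (Subgroup.closure_le _).2 (by
    rintro _ ⟨x, hx, rfl⟩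
    obtain ⟨n, hn, en⟩ := hN1.lift hx
    show ⁅τ, x⁆ ∈ N1
    rw [comm_congr η hc (a := τ) (a' := τ) (b := x) (b' := n) rfl en.symm, commutatorElement_def]
    exact mul_mem ((Subgroup.mem_normalizer_iff.1 (hN1T (show η τ ∈ T from hτ ▸ htT)) n).1 hn) (inv_mem hn))
  have hSmap : Q ≤ S.map η := by
    refine (Subgroup.closure_le _).2 ?_
    have key : ∀ g ∈ Q, ⁅t, g⁆ ∈ S.map η := fun g hg => by
      obtain ⟨x, rfl⟩ := hs g
      exact ⟨⁅τ, x⁆, Subgroup.subset_closure ⟨x, hg, rfl⟩, by rw [map_commutatorElement, hτ]⟩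
    rintro _ ((⟨s, rfl⟩ | ⟨s, rfl⟩) | ⟨s, rfl⟩)
    · rw [← mul_div_cancel₀ s hlam1, ← htA]
      exact key _ (eA_mem_Q hq hK _)
    · rw [← mul_div_cancel₀ s hlam1, ← htB]
      exact key _ (eB_mem_Q hq hK _)
    · rw [← mul_div_cancel₀ s hlamC, ← htC]
      exact key _ (eC_mem_Q hq hK _)
  have hzi : ζ⁻¹ = ζ := inv_eq_of_mul_eq_one_right hζ2
  have hconjS : ∀ w ∈ S, ζ * w * ζ⁻¹ ∈ S := by
    intro w hw
    refine (Subgroup.closure_le (S.comap (MulAut.conj ζ).toMonoidHom)).2 ?_ hw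
    rintro _ ⟨x, hx, rfl⟩
    show ζ * ⁅τ, x⁆ * ζ⁻¹ ∈ S
    rw [conj_comm η hc (a := τ) (b := x) (g := ζ) (a' := τ) (b' := ζ * x * ζ⁻¹)
      (by rw [hτ, hζ, ← hzt, mul_inv_cancel_right]) (by simp)]
    refine Subgroup.subset_closure ⟨_, ?_, rfl⟩
    rw [map_mul, map_mul, map_inv, hζ]
    exact (Subgroup.mem_normalizer_iff.1 (z_norm_Q hq hK hu hgen) _).1 hx
  have hSsec : IsSection η Q S := ⟨fun x hx => hN1.inj x (hSN hx),
    le_antisymm ((Subgroup.map_mono hSN).trans hN1.map.le) hSmap⟩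
  refine ⟨S ⊔ Subgroup.zpowers ζ, ?_, ?_⟩
  · intro w hw e
    have hle : Subgroup.zpowers ζ ≤ Subgroup.normalizer (S : Set Y) := by
      rw [Subgroup.zpowers_le]
      refine Subgroup.mem_normalizer_iff.2 fun x => ⟨hconjS x, fun hx => ?_⟩
      have := hconjS _ hx
      rwa [hzi, show ζ * (ζ * x * ζ) * ζ = (ζ * ζ) * x * (ζ * ζ) by group, hζ2, one_mul, mul_one] at this
    rw [← SetLike.mem_coe, Subgroup.coe_mul_of_right_le_normalizer_left _ _ hle] at hw
    obtain ⟨a, ha, b, ⟨i, rfl⟩, rfl⟩ := hw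
    rcases Int.even_or_odd i with ⟨j, rfl⟩ | ⟨j, rfl⟩
    · have : ζ ^ (j + j) = 1 := by rw [← two_mul, zpow_mul, zpow_ofNat, sq, hζ2, one_zpow]
      simp only [this, mul_one] at e ⊢
      exact hSsec.inj a ha e
    · exfalso
      have : ζ ^ (2 * j + 1) = ζ := by rw [zpow_add_one, zpow_mul, zpow_ofNat, sq, hζ2, one_zpow, one_mul]
      simp only [this, map_mul, hζ] at e
      refine z_notMem_Q hq hK (F := F) ?_
      rw [eq_inv_of_mul_eq_one_right e]
      exact inv_mem (hSsec.mem ha)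
  · refine le_antisymm ?_ ?_
    · rw [Subgroup.map_sup, hSsec.map, MonoidHom.map_zpowers, hζ]
      refine sup_le hQU (Subgroup.zpowers_le.2 ?_)
      exact (X hq hK).Uf_anti (show 12 ≤ 14 by norm_num) (Rk_le_Uf hq hK (by simp) (xl_mem hq hK (k := 14) (by simp) (one_pow 2)))
    · intro v hv
      have h1 : Q ≤ (S ⊔ Subgroup.zpowers ζ).map η := hSsec.map.ge.trans (Subgroup.map_mono le_sup_left)
      obtain ⟨a, ha, h | ⟨b, hb, rfl⟩⟩ := U_cover hq hK hv
      · exact h1 h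
      · exact mul_mem (mul_mem (h1 ha) ⟨ζ, Subgroup.mem_sup_right (Subgroup.mem_zpowers ζ), hζ⟩) (h1 hb)

end Cfsg.Agent.Chev.TwD4
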