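import Cfsg.Agent.Lib.CentralSection.TwD4Two

/-!
# The section over the unipotent group of `³D₄(2)`
-/

set_option autoImplicit false
set_option maxRecDepth 20000
set_option linter.unusedSectionVars false
set_option linter.style.haveILetI false

namespace Cfsg.Agent.Chev.TwD4

open Cfsg.Lie
open Tab
open Cfsg.Agent.CentralSection
open scoped commutatorElement

variable {F : Type*} [Field F] [Fintype F] [CharP F 2] (hq : IsPrimePow 2) (hK : Fintype.card F = 2 ^ 3)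

/-- the radical of the parabolic of the long simple root -/
noncomputable def Qr : Subgroup ↥(X hq hK).G1 :=
  Subgroup.closure (Set.range (eA hq hK (F := F)) ∪ Set.range (eB hq hK (F := F)) ∪ Set.range (eC hq hK (F := F)))

theorem eA_mem_Q (s : F) : eA hq hK s ∈ Qr hq hK := Subgroup.subset_closure (Or.inl (Or.inl ⟨s, rfl⟩))

theorem eB_mem_Q (s : F) : eB hq hK s ∈ Qr hq hK := Subgroup.subset_closure (Or.inl (Or.inr ⟨s, rfl⟩))

theorem eC_mem_Q (s : F) : eC hq hK s ∈ Qr hq hK := Subgroup.subset_closure (Or.inr ⟨s, rfl⟩)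

theorem mem_pos {S : Set ℕ} {k : ℕ} (hS : ∀ r ∈ S, k ≤ r ∧ r < 24) {x : ↥(X hq hK).G1}
    (hx : (x : GL D4Data.tab.D.Idx F) ∈ genS g0 F S) : x ∈ (X hq hK).Uf k :=
  genS_mono g0 (S := S) (S' := Set.Ico k D4Data.tab.n)
    (fun r hr => ⟨(hS r hr).1, by rw [nN.2]; exact (hS r hr).2⟩) hx

theorem eA_Uf (s : F) : eA hq hK s ∈ (X hq hK).Uf 12 := by
  refine mem_pos hq hK (S := {r | r ∈ ([12, 13, 18] : List ℕ)})
    (show ∀ r ∈ ([12, 13, 18] : List ℕ), 12 ≤ r ∧ r < 24 by decide) ?_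
  rw [eA_val]
  exact mul_mem (mul_mem (xg_mem_genS g0 (by simp) _) (xg_mem_genS g0 (by simp) _)) (xg_mem_genS g0 (by simp) _)

theorem eB_Uf (s : F) : eB hq hK s ∈ (X hq hK).Uf 15 := by
  refine mem_pos hq hK (S := {r | r ∈ ([15, 16, 19] : List ℕ)})
    (show ∀ r ∈ ([15, 16, 19] : List ℕ), 15 ≤ r ∧ r < 24 by decide) ?_
  rw [eB_val]
  exact mul_mem (mul_mem (xg_mem_genS g0 (by simp) _) (xg_mem_genS g0 (by simp) _)) (xg_mem_genS g0 (by simp) _)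

theorem eC_Uf (s : F) : eC hq hK s ∈ (X hq hK).Uf 17 := by
  refine mem_pos hq hK (S := {r | r ∈ ([21, 20, 17] : List ℕ)})
    (show ∀ r ∈ ([21, 20, 17] : List ℕ), 17 ≤ r ∧ r < 24 by decide) ?_
  rw [eC_val]
  exact mul_mem (mul_mem (xg_mem_genS g0 (by simp) _) (xg_mem_genS g0 (by simp) _)) (xg_mem_genS g0 (by simp) _)

theorem Uf_skip {a b : ℕ} (hab : a ≤ b) (h12 : 12 ≤ a) (hb : b ≤ 24)
    (h : ∀ k, a ≤ k → k < b → k ∉ secReps) : (X hq hK).Uf a ≤ (X hq hK).Uf b := by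
  induction b, hab using Nat.le_induction with
  | base => exact le_rfl
  | succ n hn ih =>
    refine le_trans (ih (by omega) fun k h1 h2 => h k h1 (by omega)) ?_
    exact (X hq hK).Uf_zero zeroOK (by rw [nN.1]; omega) (by rw [nN.2]; omega) (h n hn (by omega))

theorem Uf13_le : (X hq hK (F := F)).Uf 13 ≤ (X hq hK).Uf 14 :=
  Uf_skip hq hK (by norm_num) (by norm_num) (by norm_num) (fun k h1 h2 => by
    have : k = 13 := by omega
    subst this; decide)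

theorem Uf16_le : (X hq hK (F := F)).Uf 16 ≤ (X hq hK).Uf 17 :=
  Uf_skip hq hK (by norm_num) (by norm_num) (by norm_num) (fun k h1 h2 => by
    have : k = 16 := by omega
    subst this; decide)

theorem Uf18_le : (X hq hK (F := F)).Uf 18 ≤ (X hq hK).Uf 22 :=
  Uf_skip hq hK (by norm_num) (by norm_num) (by norm_num) (fun k h1 h2 => by
    simp [secReps]; omega)

theorem Uf24 : (X hq hK (F := F)).Uf 24 = ⊥ := (X hq hK).Uf_top (by rw [nN.2])

/-- peel a lowest coordinate -/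
theorem peel {k : ℕ} (hk : D4Data.tab.N ≤ k) {x e : ↥(X hq hK).G1} {a : F}
    (ha : ∃ w ∈ genS g0 F (Set.Ico (k + 1) D4Data.tab.n), (e : GL D4Data.tab.D.Idx F) = xg g0 k a * w)
    (hx : ∃ w ∈ genS g0 F (Set.Ico (k + 1) D4Data.tab.n), (x : GL D4Data.tab.D.Idx F) = xg g0 k a * w) :
    e⁻¹ * x ∈ (X hq hK).Uf (k + 1) := by
  obtain ⟨w, hw, ew⟩ := ha
  obtain ⟨v, hv, ev⟩ := hx
  show ((e⁻¹ * x : ↥(X hq hK).G1) : GL D4Data.tab.D.Idx F) ∈ genS g0 F (Set.Ico (k + 1) D4Data.tab.n)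
  rw [Subgroup.coe_mul, Subgroup.coe_inv, ew, ev,
    show (xg g0 k a * w)⁻¹ * (xg g0 k a * v) = w⁻¹ * v by group]
  exact mul_mem (inv_mem hw) hv

theorem eA_low (s : F) : ∃ w ∈ genS g0 F (Set.Ico (12 + 1) D4Data.tab.n),
    (eA hq hK s : GL D4Data.tab.D.Idx F) = xg g0 12 ((s ^ 2) ^ 2) * w :=
  ⟨xg g0 13 (s ^ 2) * xg g0 18 s,
    mul_mem (xg_mem_genS g0 (S := Set.Ico (12 + 1) D4Data.tab.n) (r := 13) ⟨le_rfl, lt13⟩ _)
      (xg_mem_genS g0 (S := Set.Ico (12 + 1) D4Data.tab.n) (r := 18) ⟨by norm_num, lt18⟩ _),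
    by rw [eA_val, mul_assoc]⟩

theorem eB_low (s : F) : ∃ w ∈ genS g0 F (Set.Ico (15 + 1) D4Data.tab.n),
    (eB hq hK s : GL D4Data.tab.D.Idx F) = xg g0 15 ((s ^ 2) ^ 2) * w :=
  ⟨xg g0 16 (s ^ 2) * xg g0 19 s,
    mul_mem (xg_mem_genS g0 (S := Set.Ico (15 + 1) D4Data.tab.n) (r := 16) ⟨le_rfl, by decide +kernel⟩ _)
      (xg_mem_genS g0 (S := Set.Ico (15 + 1) D4Data.tab.n) (r := 19) ⟨by norm_num, by decide +kernel⟩ _),
    by rw [eB_val, mul_assoc]⟩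

theorem eC_low (s : F) : ∃ w ∈ genS g0 F (Set.Ico (17 + 1) D4Data.tab.n),
    (eC hq hK s : GL D4Data.tab.D.Idx F) = xg g0 17 s * w := by
  refine ⟨(xg g0 17 s)⁻¹ * (xg g0 21 ((s ^ 2) ^ 2) * xg g0 20 (s ^ 2)) * xg g0 17 s, ?_, ?_⟩
  · have hn : xg g0 17 s ∈ Subgroup.normalizer (genS g0 F (Set.Ico (17 + 1) D4Data.tab.n) : Set (GL D4Data.tab.D.Idx F)) :=
      xg_normalizes_Ico gA (k := 17 + 1) (r := 17) (by rw [nN.1]; norm_num) (by decide +kernel) (by decide +kernel) s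
    have h1 : xg g0 21 ((s ^ 2) ^ 2) * xg g0 20 (s ^ 2) ∈ genS g0 F (Set.Ico (17 + 1) D4Data.tab.n) :=
      mul_mem (xg_mem_genS g0 (S := Set.Ico (17 + 1) D4Data.tab.n) (r := 21) ⟨by norm_num, by decide +kernel⟩ _)
        (xg_mem_genS g0 (S := Set.Ico (17 + 1) D4Data.tab.n) (r := 20) ⟨by norm_num, by decide +kernel⟩ _)
    have := (Subgroup.mem_normalizer_iff.1 (inv_mem hn) _).1 h1
    rwa [inv_inv] at this
  · rw [eC_val]; group

theorem Uf_split {k : ℕ} (hk : 12 ≤ k) {x : ↥(X hq hK).G1} (hx : x ∈ (X hq hK).Uf k) :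
    ∃ a : F, ∃ w ∈ genS g0 F (Set.Ico (k + 1) D4Data.tab.n), (x : GL D4Data.tab.D.Idx F) = xg g0 k a * w :=
  exists_split gA (by rw [nN.1]; exact hk) hx

theorem long_elem {k : ℕ} (hk : k ∈ ([14, 22, 23] : List ℕ)) {x : ↥(X hq hK).G1} (hx : x ∈ (X hq hK).Uf k) :
    x ∈ (X hq hK).Uf (k + 1) ∨ (xz hq hK hk)⁻¹ * x ∈ (X hq hK).Uf (k + 1) := by
  obtain ⟨z, hz, hzx⟩ := long_split hq hK hk hx
  obtain ⟨a, ha, e⟩ := Rk_form hq hK hk hz
  rcases fixed_two ha with rfl | rfl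
  · left
    have : z = 1 := Subtype.ext (e.trans (xg_zero g0 k))
    rwa [this, inv_one, one_mul] at hzx
  · right
    have : z = xz hq hK hk := Subtype.ext e
    rwa [this] at hzx

theorem Uf22_cases {x : ↥(X hq hK).G1} (hx : x ∈ (X hq hK).Uf 22) :
    x = 1 ∨ x = x22 hq hK ∨ x = x23 hq hK ∨ x = x22 hq hK * x23 hq hK := by
  have h23 : ∀ y ∈ (X hq hK).Uf 23, y = 1 ∨ y = x23 hq hK := fun y hy => by
    rcases long_elem hq hK (k := 23) (by simp) hy with h | h <;>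
      rw [show (23 + 1 : ℕ) = 24 from rfl, Uf24, Subgroup.mem_bot] at h
    · exact Or.inl h
    · exact Or.inr (inv_mul_eq_one.1 h).symm
  rcases long_elem hq hK (k := 22) (by simp) hx with h | h <;> rcases h23 _ h with h' | h'
  · exact Or.inl h'
  · exact Or.inr (Or.inr (Or.inl h'))
  · exact Or.inr (Or.inl (inv_mul_eq_one.1 h').symm)
  · exact Or.inr (Or.inr (Or.inr (inv_mul_eq_iff_eq_mul.1 h')))

theorem x22_mem_Q : x22 hq hK (F := F) ∈ Qr hq hK := rel22 hq hK ▸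
  mul_mem (mul_mem (mul_mem (eA_mem_Q hq hK 1) (eC_mem_Q hq hK 1)) (eA_mem_Q hq hK 1)) (eC_mem_Q hq hK 1)

theorem x23_mem_Q : x23 hq hK (F := F) ∈ Qr hq hK := rel23 hq hK ▸
  mul_mem (mul_mem (mul_mem (eB_mem_Q hq hK 1) (eC_mem_Q hq hK 1)) (eB_mem_Q hq hK 1)) (eC_mem_Q hq hK 1)

theorem Uf22_le_Q : (X hq hK (F := F)).Uf 22 ≤ Qr hq hK := fun x hx => by
  rcases Uf22_cases hq hK hx with rfl | rfl | rfl | rfl
  exacts [one_mem _, x22_mem_Q hq hK, x23_mem_Q hq hK, mul_mem (x22_mem_Q hq hK) (x23_mem_Q hq hK)]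

theorem Uf17_form {x : ↥(X hq hK).G1} (hx : x ∈ (X hq hK).Uf 17) :
    ∃ s, (eC hq hK s)⁻¹ * x ∈ (X hq hK).Uf 22 := by
  obtain ⟨a, h⟩ := Uf_split hq hK (by norm_num) hx
  exact ⟨a, Uf18_le hq hK (peel hq hK (by rw [nN.1]; norm_num) (eC_low hq hK a) h)⟩

theorem Uf17_le_Q : (X hq hK (F := F)).Uf 17 ≤ Qr hq hK := fun x hx => by
  obtain ⟨s, h⟩ := Uf17_form hq hK hx
  have := mul_mem (eC_mem_Q hq hK s) (Uf22_le_Q hq hK h)
  rwa [mul_inv_cancel_left] at this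

include hK in
theorem root_four (a : F) : ∃ s : F, (s ^ 2) ^ 2 = a := ⟨a ^ 2, pow_eight hK a⟩

theorem Uf15_le_Q : (X hq hK (F := F)).Uf 15 ≤ Qr hq hK := fun x hx => by
  obtain ⟨a, h⟩ := Uf_split hq hK (by norm_num) hx
  obtain ⟨s, rfl⟩ := root_four hK a
  have := mul_mem (eB_mem_Q hq hK s) (Uf17_le_Q hq hK (Uf16_le hq hK (peel hq hK (by rw [nN.1]; norm_num) (eB_low hq hK s) h)))
  rwa [mul_inv_cancel_left] at this

theorem Q_le_Uf : Qr hq hK (F := F) ≤ (X hq hK).Uf 12 := (Subgroup.closure_le _).2 (by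
  rintro _ ((⟨s, rfl⟩ | ⟨s, rfl⟩) | ⟨s, rfl⟩)
  exacts [eA_Uf hq hK s, (X hq hK).Uf_anti (by norm_num) (eB_Uf hq hK s),
    (X hq hK).Uf_anti (by norm_num) (eC_Uf hq hK s)])

theorem Uf_comm' {k : ℕ} (hk : 12 ≤ k) {u v : ↥(X hq hK).G1} (hu : u ∈ (X hq hK).Uf 12)
    (hv : v ∈ (X hq hK).Uf k) : ⁅u, v⁆ ∈ (X hq hK).Uf (k + 1) :=
  (X hq hK).Uf_comm (by rw [nN.1]; exact hk) (by rw [nN.1]; exact hu) hv

theorem Uf_conj {k : ℕ} (hk : 12 ≤ k) {u v : ↥(X hq hK).G1} (hu : u ∈ (X hq hK).Uf 12)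
    (hv : v ∈ (X hq hK).Uf k) : u * v * u⁻¹ ∈ (X hq hK).Uf k := by
  rw [show u * v * u⁻¹ = ⁅u, v⁆ * v by simp [commutatorElement_def]]
  exact mul_mem ((X hq hK).Uf_anti (Nat.le_succ k) (Uf_comm' hq hK hk hu hv)) hv

/-- the form of the elements of the radical -/
theorem Q_form {x : ↥(X hq hK).G1} (hx : x ∈ Qr hq hK) :
    ∃ s r, ∃ w ∈ (X hq hK).Uf 17, x = eA hq hK s * eB hq hK r * w := by
  have hswap : ∀ g s, g ∈ (X hq hK).Uf 17 → ∃ w ∈ (X hq hK).Uf 17, g * eA hq hK s = eA hq hK s * w :=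
    fun g s hg => ⟨(eA hq hK s)⁻¹ * g * eA hq hK s,
      by simpa using Uf_conj hq hK (k := 17) (by norm_num) (inv_mem (eA_Uf hq hK s)) hg, by group⟩
  have hswapB : ∀ g s, g ∈ (X hq hK).Uf 17 → ∃ w ∈ (X hq hK).Uf 17, g * eB hq hK s = eB hq hK s * w :=
    fun g s hg => ⟨(eB hq hK s)⁻¹ * g * eB hq hK s,
      (by
        simpa using Uf_conj hq hK (k := 17) (by norm_num)
          (inv_mem ((X hq hK).Uf_anti (by norm_num) (eB_Uf hq hK s))) hg), by group⟩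
  have step : ∀ g ∈ Set.range (eA hq hK (F := F)) ∪ Set.range (eB hq hK (F := F)) ∪ Set.range (eC hq hK (F := F)),
      ∀ y, (∃ s r, ∃ w ∈ (X hq hK).Uf 17, y = eA hq hK s * eB hq hK r * w) →
        ∃ s r, ∃ w ∈ (X hq hK).Uf 17, g * y = eA hq hK s * eB hq hK r * w := by
    rintro g hg y ⟨s, r, w, hw, rfl⟩
    rcases hg with (⟨a, rfl⟩ | ⟨b, rfl⟩) | ⟨c, rfl⟩
    · exact ⟨a + s, r, w, hw, by rw [← eA_add]; group⟩
    · set A := eA hq hK s
      set B := eB hq hK b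
      have hv : ⁅A⁻¹, B⁆ ∈ (X hq hK).Uf 17 :=
        Uf16_le hq hK (Uf_comm' hq hK (by norm_num) (inv_mem (eA_Uf hq hK s)) (eB_Uf hq hK b))
      obtain ⟨w', hw', e'⟩ := hswapB _ (b + r) hv
      refine ⟨s, b + r, w' * w, mul_mem hw' hw, ?_⟩
      calc B * (A * eB hq hK r * w) = A * ⁅A⁻¹, B⁆ * (B * eB hq hK r) * w := by
            simp only [commutatorElement_def]; group
        _ = A * (⁅A⁻¹, B⁆ * eB hq hK (b + r)) * w := by rw [eB_add]; group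
        _ = _ := by rw [e']; simp only [A, mul_assoc]
    · obtain ⟨w1, hw1, e1⟩ := hswap _ s (eC_Uf hq hK c)
      obtain ⟨w2, hw2, e2⟩ := hswapB _ r hw1
      refine ⟨s, r, w2 * w, mul_mem hw2 hw, ?_⟩
      calc eC hq hK c * (eA hq hK s * eB hq hK r * w) = eC hq hK c * eA hq hK s * eB hq hK r * w := by group
        _ = eA hq hK s * (w1 * eB hq hK r) * w := by rw [e1]; group
        _ = _ := by rw [e2]; group
  induction hx using Subgroup.closure_induction_left with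
  | one => exact ⟨0, 0, 1, one_mem _, by rw [eA_zero, eB_zero, one_mul, one_mul]⟩
  | mul_left g hg y _ hy => exact step g hg y hy
  | inv_mul_cancel g hg y _ hy =>
    have hinv : g⁻¹ = g := by
      rcases hg with (⟨a, rfl⟩ | ⟨b, rfl⟩) | ⟨c, rfl⟩
      exacts [inv_of_add hq hK _ (eA_add hq hK) (eA_zero hq hK) a,
        inv_of_add hq hK _ (eB_add hq hK) (eB_zero hq hK) b,
        inv_of_add hq hK _ (eC_add hq hK) (eC_zero hq hK) c]
    rw [hinv]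
    exact step g hg y hy

theorem eA_inj {s : F} (h : eA hq hK s ∈ (X hq hK).Uf 13) : s = 0 := by
  obtain ⟨w, hw, e⟩ := eA_low hq hK s
  have h' : xg g0 12 ((s ^ 2) ^ 2) ∈ genS g0 F (Set.Ico (12 + 1) D4Data.tab.n) := by
    have := mul_mem (show (eA hq hK s : GL D4Data.tab.D.Idx F) ∈ genS g0 F (Set.Ico (12 + 1) D4Data.tab.n) from h) (inv_mem hw)
    rwa [e, mul_inv_cancel_right] at this
  simpa using lowest_coeff g0 (by rw [nN.1]) (lt12) h'

theorem eB_inj {s : F} (h : eB hq hK s ∈ (X hq hK).Uf 16) : s = 0 := by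
  obtain ⟨w, hw, e⟩ := eB_low hq hK s
  have h' : xg g0 15 ((s ^ 2) ^ 2) ∈ genS g0 F (Set.Ico (15 + 1) D4Data.tab.n) := by
    have := mul_mem (show (eB hq hK s : GL D4Data.tab.D.Idx F) ∈ genS g0 F (Set.Ico (15 + 1) D4Data.tab.n) from h) (inv_mem hw)
    rwa [e, mul_inv_cancel_right] at this
  simpa using lowest_coeff g0 (by rw [nN.1]; norm_num) (by decide +kernel) h'

theorem eC_inj {s : F} (h : eC hq hK s ∈ (X hq hK).Uf 18) : s = 0 := by
  obtain ⟨w, hw, e⟩ := eC_low hq hK s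
  have h' : xg g0 17 s ∈ genS g0 F (Set.Ico (17 + 1) D4Data.tab.n) := by
    have := mul_mem (show (eC hq hK s : GL D4Data.tab.D.Idx F) ∈ genS g0 F (Set.Ico (17 + 1) D4Data.tab.n) from h) (inv_mem hw)
    rwa [e, mul_inv_cancel_right] at this
  exact lowest_coeff g0 (by rw [nN.1]; norm_num) (by decide +kernel) h'

theorem z_notMem_Q : zz hq hK (F := F) ∉ Qr hq hK := by
  intro h
  obtain ⟨s, r, w, hw, e⟩ := Q_form hq hK h
  have hz14 : zz hq hK (F := F) ∈ (X hq hK).Uf 14 := Rk_le_Uf hq hK (k := 14) (by simp) (xl_mem hq hK (k := 14) (by simp) (one_pow 2))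
  have hrest : eB hq hK r * w ∈ (X hq hK).Uf 15 :=
    mul_mem (eB_Uf hq hK r) ((X hq hK).Uf_anti (by norm_num) hw)
  have hA : eA hq hK s ∈ (X hq hK).Uf 13 := by
    rw [show eA hq hK s = zz hq hK * (eB hq hK r * w)⁻¹ by rw [e]; group]
    exact mul_mem ((X hq hK).Uf_anti (by norm_num) hz14) (inv_mem ((X hq hK).Uf_anti (by norm_num) hrest))
  rw [eA_inj hq hK hA, eA_zero, one_mul] at e
  rw [← e] at hrest
  exact one_ne_zero (lowest_coeff g0 (by rw [nN.1]; norm_num) lt14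
    (show xg g0 14 (1 : F) ∈ genS g0 F (Set.Ico (14 + 1) D4Data.tab.n) from hrest))

theorem U_cover {x : ↥(X hq hK).G1} (hx : x ∈ (X hq hK).Uf 12) :
    ∃ a ∈ Qr hq hK, x ∈ Qr hq hK ∨ ∃ b ∈ Qr hq hK, x = a * zz hq hK * b := by
  obtain ⟨a, h⟩ := Uf_split hq hK le_rfl hx
  obtain ⟨s, rfl⟩ := root_four hK a
  have h14 := Uf13_le hq hK (peel hq hK (by rw [nN.1]) (eA_low hq hK s) h)
  refine ⟨eA hq hK s, eA_mem_Q hq hK s, ?_⟩
  rcases long_elem hq hK (k := 14) (by simp) h14 with h' | h'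
  · left
    have := mul_mem (eA_mem_Q hq hK s) (Uf15_le_Q hq hK h')
    rwa [mul_inv_cancel_left] at this
  · right
    exact ⟨_, Uf15_le_Q hq hK h', by rw [mul_assoc]; simp [zz, mul_inv_cancel_left]⟩

end Cfsg.Agent.Chev.TwD4
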