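import Cfsg.Agent.Lib.CentralSection.TwD4Long

/-!
# Weights of the torus of `³D₄(q)`

Two elements suffice: one of norm one in the first parameter, which sees only the short roots, and
ones with a single parameter in the fixed field.
-/

set_option autoImplicit false
set_option maxRecDepth 20000
set_option linter.unusedSectionVars false
set_option linter.style.haveILetI false

namespace Cfsg.Agent.Chev.TwD4

open Cfsg.Lie
open Tab
open Cfsg.Agent.CentralSection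

/-- representatives of the orbits of positive roots -/
def secReps : List ℕ := [12, 14, 15, 17, 22, 23]

theorem zeroOK : D4Data.tab.checkZero (fun r => D4Data.symA.π.getD r 0) secReps = true := by
  decide +kernel

theorem rep_vals : secReps.map (fun r => (List.range 4).map fun j => D4Data.tab.A j r) =
    [[0, -1, 0, 2], [-1, 2, -1, -1], [-1, 1, -1, 1], [-1, 0, 1, 1], [1, -1, 1, 1], [0, 1, 0, 0]] := by
  decide +kernel

theorem arith {p f i : ℕ} (hp : p.Prime) (hf : 0 < f) (hi : i < 3 * f) :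
    ¬ (p ^ f) ^ 2 + p ^ f + 1 ∣ 1 + p ^ i := by
  set q := p ^ f with hq
  have hq2 : 2 ≤ q := le_trans hp.two_le (Nat.le_self_pow hf.ne' p)
  have small : ∀ P, P + 1 < q ^ 2 + q + 1 → ¬ q ^ 2 + q + 1 ∣ 1 + P := fun P hP h => by
    have := Nat.le_of_dvd (by omega) h
    omega
  have hlt : ∀ a, a < f → p ^ a < q := fun a ha => Nat.pow_lt_pow_right hp.one_lt ha
  rcases lt_or_ge i f with h1 | h1
  · exact small _ (by have := hlt i h1; nlinarith)
  rcases lt_or_ge i (2 * f) with h2 | h2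
  · obtain ⟨a, rfl⟩ := Nat.exists_eq_add_of_le h1
    refine small _ ?_
    rw [pow_add, ← hq]
    have := hlt a (by omega)
    nlinarith
  · obtain ⟨a, rfl⟩ := Nat.exists_eq_add_of_le h2
    intro h
    have hP : p ^ (2 * f + a) = q ^ 2 * p ^ a := by rw [pow_add, hq, ← pow_mul, mul_comm f 2]
    rw [hP] at h
    have ha := hlt a (by omega)
    have h3 : (q ^ 2 + q + 1 : ℤ) ∣ 1 + (q : ℤ) ^ 2 * (p ^ a : ℕ) := by exact_mod_cast h
    have h4 : (q ^ 2 + q + 1 : ℤ) ∣ (q : ℤ) + (p ^ a : ℕ) := by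
      have h5 := dvd_sub (h3.mul_left (q : ℤ))
        (Dvd.intro_left (((q : ℤ) - 1) * (p ^ a : ℕ)) rfl : (q ^ 2 + q + 1 : ℤ) ∣ _)
      rw [show (q : ℤ) + (p ^ a : ℕ) = (q : ℤ) * (1 + (q : ℤ) ^ 2 * (p ^ a : ℕ)) -
        ((q : ℤ) - 1) * (p ^ a : ℕ) * (q ^ 2 + q + 1) by ring]
      exact h5
    have h6 : q ^ 2 + q + 1 ∣ q + p ^ a := by exact_mod_cast h4
    have := Nat.le_of_dvd (by omega) h6
    nlinarith

variable {F : Type*} [Field F] [Fintype F] {q : ℕ} (hq : IsPrimePow q) (hK : Fintype.card F = q ^ 3)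

include hK in
theorem orderOf_gen {g : Fˣ} (hg : orderOf g = Nat.card Fˣ) : orderOf g = q ^ 3 - 1 := by
  rw [hg, TwField.card_units (q := q ^ 3) (k := 1) (by rw [hK, pow_one]), pow_one]

include hq hK in
theorem nrm_fixed (u : Fˣ) : ((nrm q u : Fˣ) : F) ^ q = (nrm q u : Fˣ) := by
  rw [nrm, Units.val_mul, Units.val_mul, Units.val_pow_eq_pow_val, Units.val_pow_eq_pow_val,
    Units.val_pow_eq_pow_val, mul_pow, mul_pow, pow_three hq hK]
  ring

include hq hK in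
theorem exists_nrm (hq3 : 3 ≤ q) : ∃ g : Fˣ, nrm q g ≠ 1 := by
  obtain ⟨g, hg⟩ := IsCyclic.exists_ofOrder_eq_natCard (α := Fˣ)
  refine ⟨g, fun e => ?_⟩
  rw [nrm] at e
  have e' : g ^ (1 + q + q * q) = 1 := by rw [pow_add, pow_add, pow_one, pow_mul]; exact e
  have h := Nat.le_of_dvd (by positivity) (orderOf_dvd_of_pow_eq_one e')
  rw [orderOf_gen hK hg] at h
  have h3 : 3 * (q * q) ≤ q ^ 3 := by
    rw [show q ^ 3 = q * (q * q) by ring]; exact Nat.mul_le_mul_right _ hq3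
  have hq1 : 1 ≤ q ^ 3 := Nat.one_le_pow _ _ hq.pos
  have hqq : q ≤ q * q := Nat.le_mul_self q
  have h4 : 4 ≤ q * q := le_trans (by norm_num) (Nat.mul_le_mul (show 2 ≤ q by omega) (show 2 ≤ q by omega))
  omega

include hq hK in
theorem exists_norm_one : ∃ u : Fˣ, nrm q u = 1 ∧ orderOf u = q ^ 2 + q + 1 := by
  obtain ⟨g, hg⟩ := IsCyclic.exists_ofOrder_eq_natCard (α := Fˣ)
  have hord := orderOf_gen hK hg
  have hq2 := hq.two_le
  have e : q ^ 3 - 1 = (q - 1) * (q ^ 2 + q + 1) := by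
    zify [Nat.one_le_pow 3 q (by omega), show 1 ≤ q by omega]; ring
  refine ⟨g ^ (q - 1), ?_, ?_⟩
  · rw [nrm, ← pow_mul, ← pow_mul, ← pow_add, ← pow_add, ← orderOf_dvd_iff_pow_eq_one, hord, e]
    exact ⟨1, by ring⟩
  · rw [orderOf_pow' g (by omega), hord, e, Nat.gcd_eq_right (dvd_mul_right _ _),
      Nat.mul_div_cancel_left _ (by omega)]

/-- the weight at a representative -/
theorem wt_rep (u : Fˣ) (v : {u : Fˣ // (u : F) ^ q = u}) :
    (wt D4Data.tab F (par q (u, v)) 12 = ((u ^ q) ^ q) ^ 2 * (v.1)⁻¹) ∧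
    (wt D4Data.tab F (par q (u, v)) 14 = v.1 ^ 2 * (nrm q u)⁻¹) ∧
    (wt D4Data.tab F (par q (u, v)) 15 = v.1 * (nrm q u)⁻¹ * ((u ^ q) ^ q) ^ 2) ∧
    (wt D4Data.tab F (par q (u, v)) 17 = nrm q u * (u ^ 2)⁻¹) ∧
    (wt D4Data.tab F (par q (u, v)) 22 = nrm q u * (v.1)⁻¹) ∧
    (wt D4Data.tab F (par q (u, v)) 23 = v.1) := by
  have h := rep_vals
  simp only [secReps, List.range_succ, List.range_zero, List.nil_append, List.cons_append, List.map_cons,
    List.map_nil, List.cons.injEq, and_true] at h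
  obtain ⟨v, hv⟩ := v
  simp only [wt, show D4Data.tab.l = 4 from rfl, Finset.prod_range_succ, Finset.prod_range_zero, h, par,
    nrm, zpow_zero, zpow_one, _root_.zpow_neg_one, zpow_ofNat, one_mul, mul_one]
  generalize u ^ q = a
  generalize a ^ q = b
  refine ⟨?_, ?_, ?_, ?_, ?_, ?_⟩ <;>
    (apply Units.ext; simp only [Units.val_mul, Units.val_pow_eq_pow_val, Units.val_inv_eq_inv_val,
      Units.val_one]; field_simp)

include hq hK in
theorem weights_free (hq3 : 3 ≤ q) : ∀ k ∈ secReps,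
    ∃ c, tor D4Data.tab F c ∈ tw F q ∧ wt D4Data.tab F c k ≠ 1 := by
  obtain ⟨g, hg⟩ := exists_nrm hq hK hq3
  obtain ⟨u, hu1, huo⟩ := exists_norm_one hq hK
  let v : {u : Fˣ // (u : F) ^ q = u} := ⟨nrm q g, nrm_fixed hq hK g⟩
  let o : {u : Fˣ // (u : F) ^ q = u} := ⟨1, by simp⟩
  have hn1 : nrm q (1 : Fˣ) = 1 := by simp [nrm]
  intro k hk
  obtain ⟨-, a14, -, -, a22, -⟩ := wt_rep (q := q) g o
  obtain ⟨b12, -, b15, -, -, b23⟩ := wt_rep (q := q) (1 : Fˣ) v
  obtain ⟨-, -, -, c17, -, -⟩ := wt_rep (q := q) u o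
  simp only [secReps, List.mem_cons, List.not_mem_nil, or_false] at hk
  rcases hk with rfl | rfl | rfl | rfl | rfl | rfl
  · exact ⟨_, par_mem hq hK (1, v), by rw [b12]; simpa [v] using hg⟩
  · exact ⟨_, par_mem hq hK (g, o), by rw [a14]; simpa [o] using hg⟩
  · exact ⟨_, par_mem hq hK (1, v), by rw [b15, hn1]; simpa [v] using hg⟩
  · refine ⟨_, par_mem hq hK (u, o), ?_⟩
    rw [c17, hu1, one_mul, Ne, inv_eq_one, ← orderOf_dvd_iff_pow_eq_one, huo]
    intro h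
    have := Nat.le_of_dvd (by norm_num) h
    have := hq.two_le
    nlinarith
  · exact ⟨_, par_mem hq hK (g, o), by rw [a22]; simpa [o] using hg⟩
  · exact ⟨_, par_mem hq hK (1, v), by rw [b23]; simpa [v] using hg⟩

set_option maxHeartbeats 2000000 in
include hq hK in
theorem weights_pair {p f : ℕ} (hp : p.Prime) (hqp : q = p ^ f) (hq3 : 3 ≤ q) :
    ∀ k ∈ secReps, ∀ j ∈ secReps, j ≤ k →
      (∃ c, tor D4Data.tab F c ∈ tw F q ∧
        ∀ i < 3 * f, wt D4Data.tab F c j * wt D4Data.tab F c k ^ p ^ i ≠ 1) ∨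
      (j = k ∧ k ∈ ([14, 22, 23] : List ℕ)) := by
  obtain ⟨g, hg⟩ := exists_nrm hq hK hq3
  obtain ⟨u, hu1, huo⟩ := exists_norm_one hq hK
  have hf : 0 < f := by
    rcases Nat.eq_zero_or_pos f with rfl | h
    · rw [pow_zero] at hqp; omega
    · exact h
  let v : {u : Fˣ // (u : F) ^ q = u} := ⟨nrm q g, nrm_fixed hq hK g⟩
  let o : {u : Fˣ // (u : F) ^ q = u} := ⟨1, by simp⟩
  have hn1 : nrm q (1 : Fˣ) = 1 := by simp [nrm]
  obtain ⟨-, a14, -, -, a22, a23⟩ := wt_rep (q := q) g o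
  obtain ⟨-, d14, -, -, d22, -⟩ := wt_rep (q := q) g v
  obtain ⟨b12, -, b15, b17, -, -⟩ := wt_rep (q := q) (1 : Fˣ) v
  obtain ⟨c12, c14, c15, c17, c22, c23⟩ := wt_rep (q := q) u o
  simp only [o, v, hn1, hu1, one_pow, inv_one, one_mul, mul_one] at a14 a22 a23 b12 b15 b17 c12 c14 c15 c17 c22 c23 d14 d22
  rw [mul_inv_cancel] at d22
  -- the order of the short weights
  have hodd : ¬ 2 ∣ q ^ 2 + q + 1 := by
    rw [show q ^ 2 + q + 1 = q * (q + 1) + 1 by ring]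
    have := even_iff_two_dvd.1 (Nat.even_mul_succ_self q)
    omega
  set n := q ^ 2 + q + 1 with hn
  have hcop2 : Nat.Coprime n 2 := ((Nat.Prime.coprime_iff_not_dvd Nat.prime_two).2 hodd).symm
  have hcopq : Nat.Coprime n q := by
    rw [hn, show q ^ 2 + q + 1 = 1 + (q + 1) * q by ring, Nat.coprime_add_mul_right_left]
    exact Nat.coprime_one_left q
  have hns : ∀ i < 3 * f, ¬ n ∣ 1 + p ^ i := fun i hi => by rw [hn, hqp]; exact arith hp hf hi
  have hA : ∀ i < 3 * f, ((u ^ q) ^ q) ^ 2 * (((u ^ q) ^ q) ^ 2) ^ p ^ i ≠ 1 := fun i hi h => by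
    rw [← pow_succ', ← pow_mul, ← pow_mul, ← pow_mul, ← orderOf_dvd_iff_pow_eq_one, huo] at h
    exact hns i hi (add_comm (p ^ i) 1 ▸ (hcop2.dvd_of_dvd_mul_left (hcopq.dvd_of_dvd_mul_left (hcopq.dvd_of_dvd_mul_left h))))
  have hC : ∀ i < 3 * f, (u ^ 2)⁻¹ * ((u ^ 2)⁻¹) ^ p ^ i ≠ 1 := fun i hi h => by
    rw [← pow_succ', inv_pow, inv_eq_one, ← pow_mul, ← orderOf_dvd_iff_pow_eq_one, huo] at h
    exact hns i hi (add_comm (p ^ i) 1 ▸ hcop2.dvd_of_dvd_mul_left h)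
  have hz : ((u ^ q) ^ q) ^ 2 ≠ 1 := fun h => by
    rw [← pow_mul, ← pow_mul, ← orderOf_dvd_iff_pow_eq_one, huo] at h
    have := hcopq.dvd_of_dvd_mul_left (hcopq.dvd_of_dvd_mul_left h)
    exact absurd (Nat.le_of_dvd (by norm_num) this) (by rw [hn]; nlinarith)
  have hu2 : (u ^ 2)⁻¹ ≠ 1 := fun h => by
    rw [inv_eq_one, ← orderOf_dvd_iff_pow_eq_one, huo] at h
    exact absurd (Nat.le_of_dvd (by norm_num) h) (by rw [hn]; nlinarith)
  have right : ∀ {c : ℕ → Fˣ} {j k : ℕ}, wt D4Data.tab F c j ≠ 1 → wt D4Data.tab F c k = 1 →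
      ∀ i < 3 * f, wt D4Data.tab F c j * wt D4Data.tab F c k ^ p ^ i ≠ 1 :=
    fun h1 h2 i _ => by rw [h2, one_pow, mul_one]; exact h1
  have hinj : ∀ (z : Fˣ) (i : ℕ), z ^ p ^ i = 1 → z = 1 := fun z i h => by
    have hd := orderOf_dvd_of_pow_eq_one h
    have hd' : orderOf z ∣ q ^ 3 - 1 := by
      have h0 := orderOf_dvd_natCard z
      rwa [TwField.card_units (q := q ^ 3) (k := 1) (by rw [hK, pow_one]), pow_one] at h0
    have hco : Nat.Coprime (p ^ i) (q ^ 3 - 1) := by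
      refine Nat.Coprime.pow_left i ((Nat.Prime.coprime_iff_not_dvd hp).2 fun h2 => ?_)
      have h3 : p ∣ q ^ 3 := dvd_pow (hqp ▸ dvd_pow_self p hf.ne') (by norm_num)
      have h1 : 1 ≤ q ^ 3 := Nat.one_le_pow _ _ hq.pos
      have := Nat.dvd_sub h3 h2
      rw [Nat.sub_sub_self h1] at this
      exact hp.not_dvd_one this
    rw [← orderOf_eq_one_iff]
    exact Nat.eq_one_of_dvd_coprimes hco hd hd'
  have left : ∀ {c : ℕ → Fˣ} {j k : ℕ}, wt D4Data.tab F c j = 1 → wt D4Data.tab F c k ≠ 1 →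
      ∀ i < 3 * f, wt D4Data.tab F c j * wt D4Data.tab F c k ^ p ^ i ≠ 1 :=
    fun h1 h2 i _ => by rw [h1, one_mul]; exact fun h => h2 (hinj _ i h)
  have hg' : (nrm q g)⁻¹ ≠ 1 := fun h => hg (inv_eq_one.1 h)
  have hB := par_mem hq hK (u, o)
  have hCm := par_mem hq hK (g, o)
  have hD := par_mem hq hK (g, v)
  have hV := par_mem hq hK ((1 : Fˣ), v)
  intro k hk j hj hjk
  simp only [secReps, List.mem_cons, List.not_mem_nil, or_false] at hk hj
  rcases hk with rfl | rfl | rfl | rfl | rfl | rfl <;>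
    rcases hj with rfl | rfl | rfl | rfl | rfl | rfl <;>
    first
      | (refine Or.inr ⟨rfl, ?_⟩; simp; done)
      | omega
      | exact Or.inl ⟨_, hB, right (c12.trans_ne hz) c14⟩
      | exact Or.inl ⟨_, hB, right (c12.trans_ne hz) c22⟩
      | exact Or.inl ⟨_, hB, right (c12.trans_ne hz) c23⟩
      | exact Or.inl ⟨_, hB, right (c15.trans_ne hz) c22⟩
      | exact Or.inl ⟨_, hB, right (c15.trans_ne hz) c23⟩
      | exact Or.inl ⟨_, hB, right (c17.trans_ne hu2) c22⟩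
      | exact Or.inl ⟨_, hB, right (c17.trans_ne hu2) c23⟩
      | exact Or.inl ⟨_, hB, left c14 (c15.trans_ne hz)⟩
      | exact Or.inl ⟨_, hB, left c14 (c17.trans_ne hu2)⟩
      | exact Or.inl ⟨_, hD, right (by rw [d14, sq, mul_inv_cancel_right]; exact hg) d22⟩
      | exact Or.inl ⟨_, hCm, right (a14.trans_ne hg') a23⟩
      | exact Or.inl ⟨_, hCm, right (a22.trans_ne hg) a23⟩
      | exact Or.inl ⟨_, hV, right (b12.trans_ne hg') b17⟩
      | exact Or.inl ⟨_, hV, right (b15.trans_ne hg) b17⟩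
      | exact Or.inl ⟨_, hB, fun i hi => by rw [c12]; exact hA i hi⟩
      | exact Or.inl ⟨_, hB, fun i hi => by rw [c12, c15]; exact hA i hi⟩
      | exact Or.inl ⟨_, hB, fun i hi => by rw [c15]; exact hA i hi⟩
      | exact Or.inl ⟨_, hB, fun i hi => by rw [c17]; exact hC i hi⟩

end Cfsg.Agent.Chev.TwD4
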