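import Cfsg.Agent.Lib.CentralSection.TwE6Weights
import Cfsg.Agent.Lib.CentralSection.Fixed
import Cfsg.Agent.Lib.Lie.TwClosure

/-!
# The long root groups of `²E₆(q)` in central extensions, and the section over `U`

Lifts of a long root group commute: a torus element fixing it scales two long root groups whose
commutators fill it, and the Weyl group moves this to the other long roots.
-/

set_option autoImplicit false
set_option maxRecDepth 20000
set_option linter.unusedSectionVars false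
set_option linter.style.haveILetI false

namespace Cfsg.Agent.Chev.TwE6

open Cfsg.Lie
open Tab
open Cfsg.Agent.CentralSection
open scoped commutatorElement

variable {F : Type*} [Field F] [Fintype F] {q : ℕ} (hq : IsPrimePow q) (hK : Fintype.card F = q ^ 2)

theorem nN : E6Data.tab.N = 36 ∧ E6Data.tab.n = 72 := by decide +kernel

theorem long_facts : ∀ k ∈ longs, k < E6Data.tab.n ∧ E6Data.tab.N ≤ k ∧
    E6Data.sym.π.getD k 0 = k ∧ E6Data.sym.ζ.getD k 1 = 1 := by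
  decide +kernel

/-- a long root group -/
noncomputable def Rk (k : ℕ) : Subgroup ↥(X hq hK).G1 :=
  (genS g0 F {k}).subgroupOf (X hq hK).G1

theorem genS_single {k : ℕ} {x : GL E6Data.tab.D.Idx F} (hx : x ∈ genS g0 F {k}) :
    ∃ a, x = xg g0 k a := by
  refine genS_induction g0 (p := fun x => ∃ a, x = xg g0 k a) ⟨0, (xg_zero g0 k).symm⟩ ?_ hx
  rintro r hr t y ⟨a, rfl⟩
  rw [Set.mem_singleton_iff] at hr
  subst hr
  exact ⟨t + a, xg_add g0 r t a⟩

theorem Rk_form {k : ℕ} (hk : k ∈ longs) {x : ↥(X hq hK).G1} (hx : x ∈ Rk hq hK k) :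
    ∃ a : F, a ^ q = a ∧ (x : GL E6Data.tab.D.Idx F) = xg g0 k a := by
  obtain ⟨hkn, -, hπ, hζ⟩ := long_facts k hk
  obtain ⟨a, e⟩ := genS_single (x := (x : GL E6Data.tab.D.Idx F)) hx
  refine ⟨a, ?_, e⟩
  have h := (twisted_fixed hq hK _ x.2).2
  rw [e] at h
  simp only [sigma] at h
  rw [graphσ_xg g0 _ _ hkn, hπ, hζ, psi_apply, Int.cast_one, one_mul] at h
  exact xg_injective g0 hkn h

theorem sign_fixed (hq : IsPrimePow q) (hK : Fintype.card F = q ^ 2) {ε : Fˣ} (hε : ε * ε = 1) {a : F}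
    (ha : a ^ q = a) : ((ε : F) * a) ^ q = (ε : F) * a := by
  rw [mul_pow, ha]
  congr 1
  have : (ε : F) * ε = 1 := by rw [← Units.val_mul, hε, Units.val_one]
  rcases mul_self_eq_one_iff.1 this with h | h <;> simp [h, neg_one_pow hq hK]

/-- words moving the long roots to the highest one -/
def longW : ℕ → List ℕ
  | 70 => [0]
  | 69 => [0, 1]
  | 65 => [0, 1, 2]
  | 63 => [0, 1, 2, 1]
  | 53 => [0, 1, 2, 3]
  | 60 => [0, 1, 2, 1, 0]
  | 51 => [0, 1, 2, 1, 3]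
  | 44 => [0, 1, 2, 1, 0, 3]
  | 47 => [0, 1, 2, 1, 3, 2]
  | 39 => [0, 1, 2, 1, 0, 3, 2]
  | 46 => [0, 1, 2, 1, 3, 2, 1]
  | _ => []

theorem steps_ok : (∀ k ∈ longs, (∀ b ∈ longW k, b < 4) ∧
      E6Data.tab.rw' (flatW wd (longW k)) k = 71) ∧
    E6Data.tab.rw' (flatW wd [1, 2, 1, 3, 2, 1]) 46 = 70 := by
  decide +kernel

include hq hK in
theorem flat_mem : ∀ P : List ℕ, (∀ b ∈ P, b < 4) → nWd g0 F (flatW wd P) ∈ tw F q := by
  intro P
  induction P with
  | nil => intro _; simp [flatW, nWd]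
  | cons b P ih =>
    intro h
    rw [flatW_cons, nWd_append]
    exact mul_mem (n_mem hq hK b (h b List.mem_cons_self))
      (ih fun x hx => h x (List.mem_cons_of_mem _ hx))

/-- the roots of the argument -/
def topRoots : List ℕ := [46, 70, 71]

theorem top_facts : ∀ k ∈ topRoots, k < E6Data.tab.n ∧ k ∈ longs ∧
    (k ≠ 71 → E6Data.tab.checkComPair [k] [71] = true) := by
  decide +kernel

include hq hK in
theorem xlong_mem {k : ℕ} (hk : k ∈ topRoots) {a : F} (ha : a ^ q = a) : xg g0 k a ∈ tw F q := by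
  have h46 : ∀ a : F, a ^ q = a → xg g0 46 a ∈ tw F q := fun a ha => by
    have h := (mid_mem (i := 1) (Or.inl rfl) ha).1
    rwa [show E6Data.tab.smp 1 = 46 by decide +kernel] at h
  have step : ∀ P : List ℕ, (∀ b ∈ P, b < 4) → ∀ a : F, a ^ q = a →
      xg g0 (E6Data.tab.rw' (flatW wd P) 46) a ∈ tw F q := by
    intro P hP a ha
    have hwd : E6Data.tab.Wd (flatW wd P) := (X hq hK).flat_wd (Ls := P) hP
    obtain ⟨ε, hε, hc⟩ := nWd_conj (F := F) g0 hwd (show 46 < E6Data.tab.n by decide +kernel)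
    have := mul_mem (mul_mem (flat_mem hq hK P hP) (h46 _ (sign_fixed hq hK hε ha)))
      (inv_mem (flat_mem hq hK P hP))
    rwa [(hc _).1, ← mul_assoc, ← Units.val_mul, hε, Units.val_one, one_mul] at this
  simp only [topRoots, List.mem_cons, List.not_mem_nil, or_false] at hk
  rcases hk with rfl | rfl | rfl
  · exact h46 a ha
  · exact steps_ok.2 ▸ step [1, 2, 1, 3, 2, 1] (by decide) a ha
  · exact (steps_ok.1 46 (by decide)).2 ▸ step (longW 46) (steps_ok.1 46 (by decide)).1 a ha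

/-- a long root element -/
noncomputable def xl {k : ℕ} (hk : k ∈ topRoots) {a : F} (ha : a ^ q = a) : ↥(X hq hK).G1 :=
  ⟨xg g0 k a, xlong_mem hq hK hk ha⟩

/-- the torus element fixing the highest root -/
noncomputable def tu (ν : {u : Fˣ // u ^ q = u}) : ↥(X hq hK).G1 :=
  ⟨tor E6Data.tab F (Pi.mulSingle 3 ν.1), fix_mem hq hK (single_mid_fix (Or.inr rfl) ν.2)⟩

omit [Fintype F] in
theorem wt_top (u : Fˣ) : wt E6Data.tab F (Pi.mulSingle 3 u) 46 = u⁻¹ ∧
    wt E6Data.tab F (Pi.mulSingle 3 u) 70 = u ∧ wt E6Data.tab F (Pi.mulSingle 3 u) 71 = 1 := by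
  have h : E6Data.tab.A 3 46 = -1 ∧ E6Data.tab.A 3 70 = 1 ∧ E6Data.tab.A 3 71 = 0 := by decide +kernel
  simp [wt_single g0 (show 3 < E6Data.tab.l by decide), h.1, h.2.1, h.2.2]

theorem tu_comm {k : ℕ} (hk : k ∈ topRoots) (ν : {u : Fˣ // u ^ q = u}) {a : F} (ha : a ^ q = a)
    {b : F} (hb : b ^ q = b)
    (e : ((wt E6Data.tab F (Pi.mulSingle 3 ν.1) k : F) - 1) * a = b) :
    ⁅tu hq hK ν, xl hq hK hk ha⁆ = xl hq hK hk hb := by
  refine Subtype.ext ?_
  rw [show ((⁅tu hq hK ν, xl hq hK hk ha⁆ : ↥(X hq hK).G1) : GL E6Data.tab.D.Idx F) =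
    ⁅tor E6Data.tab F (Pi.mulSingle 3 ν.1), xg g0 k a⁆ from
      map_commutatorElement (X hq hK).G1.subtype _ _]
  rw [commutatorElement_def, tor_xg g0 _ (top_facts k hk).1, xg_inv, xg_add]
  show _ = xg g0 k b
  rw [← e]
  congr 1
  ring

theorem comm_fill : ∃ C : F, (C = 1 ∨ C = -1) ∧ ∀ b : F,
    (xg g0 46 (1 : F) * xg g0 70 b)⁻¹ * (xg g0 70 b * xg g0 46 1) = xg g0 71 (C * b) := by
  have hd : E6Data.tab.cTerms 46 70 = [(71, 1, 1, 1)] := by decide +kernel
  have hlt : 46 < E6Data.tab.n ∧ 70 < E6Data.tab.n ∧ (70 : ℕ) ≠ E6Data.tab.neg 46 := by decide +kernel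
  refine ⟨-1, Or.inr rfl, fun b => ?_⟩
  have e := xg_comm gA hlt.1 hlt.2.1 (by norm_num) hlt.2.2 (1 : F) b
  simp only [cVal, hd, List.map_cons, List.map_nil, List.prod_cons, List.prod_nil, mul_one,
    Int.cast_one, pow_one, one_mul] at e
  rw [e, inv_mul_cancel_left]

variable {Y : Type*} [Group Y] (η : Y →* ↥(X hq hK).G1)

/-- exact commutation of all lifts -/
def Ex (A B : Subgroup ↥(X hq hK).G1) : Prop := ∀ x y, η x ∈ A → η y ∈ B → ⁅x, y⁆ = 1

variable (hs : Function.Surjective η) (hc : η.ker ≤ Subgroup.center Y)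

include hs hc in
theorem Ex_conj {A B : Subgroup ↥(X hq hK).G1} (g : ↥(X hq hK).G1) (hAB : ∀ v ∈ B, g * v * g⁻¹ ∈ A)
    (h : Ex hq hK η A A) : Ex hq hK η B B := by
  intro x y hx hy
  obtain ⟨l, rfl⟩ := hs g
  have h1 := h (l * x * l⁻¹) (l * y * l⁻¹) (by simpa using hAB _ hx) (by simpa using hAB _ hy)
  rw [show ⁅l * x * l⁻¹, l * y * l⁻¹⁆ = l * ⁅x, y⁆ * l⁻¹ by simp only [commutatorElement_def]; group] at h1
  exact conj_eq_one_iff.1 h1

include hs hc in
theorem ex71 (hq3 : 3 ≤ q) : Ex hq hK η (Rk hq hK 71) (Rk hq hK 71) := by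
  intro x y hx hy
  obtain ⟨a, ha, ex⟩ := Rk_form hq hK (k := 71) (by decide) hx
  obtain ⟨b, hb, ey⟩ := Rk_form hq hK (k := 71) (by decide) hy
  refine Cg_commute η hc ?_
  -- a torus element fixing `y` and moving the other long roots
  obtain ⟨g, hg⟩ := exists_gen (q := q) hK
  have hgg : g ^ (q * q) = g := Units.ext (by
    rw [Units.val_pow_eq_pow_val, pow_mul]; exact pow_two_q hK _)
  let ν : {u : Fˣ // u ^ q = u} := ⟨g ^ (q + 1), by
    rw [← pow_mul, add_one_mul, pow_add, hgg, pow_succ, mul_comm]⟩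
  have hν1 : (ν.1 : F) ≠ 1 := by
    rw [Ne, Units.val_eq_one]
    intro e
    have := Nat.le_of_dvd (by omega) (orderOf_dvd_of_pow_eq_one e)
    rw [hg] at this
    have : 3 * q ≤ q ^ 2 := by rw [sq]; exact Nat.mul_le_mul_right _ hq3
    omega
  have hνq : (ν.1 : F) ^ q = ν.1 := by rw [← Units.val_pow_eq_pow_val, ν.2]
  have hyfix : ∀ {r : ℕ} (hr : r ∈ topRoots) (_ : r ≠ 71) {c : F} (hc' : c ^ q = c),
      xl hq hK hr hc' * η y = η y * xl hq hK hr hc' := by
    intro r hr hne c hc'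
    refine Subtype.ext ?_
    rw [Subgroup.coe_mul, Subgroup.coe_mul, ey]
    exact (genS_commute gA ((top_facts r hr).2.2 hne)
      (xg_mem_genS g0 (S := {s | s ∈ [r]}) (r := r) (List.mem_singleton_self r) c)
      (xg_mem_genS g0 (S := {s | s ∈ [71]}) (r := 71) (List.mem_singleton_self 71) b)).eq
  obtain ⟨w46, w70, w71⟩ := wt_top (F := F) ν.1
  have htfix : tu hq hK ν * η y = η y * tu hq hK ν := by
    refine Subtype.ext ?_
    rw [Subgroup.coe_mul, Subgroup.coe_mul, ey]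
    show tor E6Data.tab F _ * xg g0 71 b = xg g0 71 b * tor E6Data.tab F _
    rw [← mul_inv_eq_iff_eq_mul, tor_xg g0 _ (long_facts 71 (by decide)).1, w71,
      Units.val_one, one_mul]
  have hfill : ∀ {r : ℕ} (hr : r ∈ topRoots), r ≠ 71 →
      ((wt E6Data.tab F (Pi.mulSingle 3 ν.1) r : F) ≠ 1) →
      ((wt E6Data.tab F (Pi.mulSingle 3 ν.1) r : F) ^ q =
        (wt E6Data.tab F (Pi.mulSingle 3 ν.1) r : F)) →
      ∀ c : F, ∀ hc' : c ^ q = c, xl hq hK hr hc' ∈ Cg η y := by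
    intro r hr hne' hw hwq c hc'
    set w := (wt E6Data.tab F (Pi.mulSingle 3 ν.1) r : F) with hwdef
    have hne : w - 1 ≠ 0 := sub_ne_zero.2 hw
    have ha' : (c / (w - 1)) ^ q = c / (w - 1) := by
      rw [div_pow, hc', ← psi_apply hq hK (w - 1), map_sub, map_one, psi_apply, hwq]
    rw [← tu_comm hq hK hr ν ha' hc' (mul_div_cancel₀ c hne)]
    exact comm_mem_Cg η hc hs (hyfix hr hne' ha') htfix
  have h46 := hfill (r := 46) (by decide) (by decide)
    (by rw [w46, Units.val_inv_eq_inv_val, Ne, inv_eq_one]; exact hν1)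
    (by rw [w46, Units.val_inv_eq_inv_val, inv_pow, hνq])
  have h70 := hfill (r := 70) (by decide) (by decide) (by rw [w70]; exact hν1) (by rw [w70]; exact hνq)
  obtain ⟨C, hC, hform⟩ := comm_fill (F := F)
  have hCq : (C * a) ^ q = C * a := by
    rcases hC with rfl | rfl
    · rw [one_mul, ha]
    · rw [mul_pow, neg_one_pow hq hK, ha]
  set u := xl hq hK (k := 46) (by decide) (one_pow q : (1 : F) ^ q = 1) with hu
  set v := xl hq hK (k := 70) (by decide) hCq with hv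
  have e : η x = (u * v)⁻¹ * (v * u) := by
    refine Subtype.ext ?_
    rw [ex, Subgroup.coe_mul, Subgroup.coe_inv, Subgroup.coe_mul, Subgroup.coe_mul]
    show _ = (xg g0 46 (1 : F) * xg g0 70 (C * a))⁻¹ * (xg g0 70 (C * a) * xg g0 46 1)
    rw [hform, ← mul_assoc]
    rcases hC with rfl | rfl <;> simp
  rw [e]
  exact mul_mem (inv_mem (mul_mem (h46 1 _) (h70 _ hCq))) (mul_mem (h70 _ hCq) (h46 1 _))

include hs hc in
theorem ex_long (hq3 : 3 ≤ q) : ∀ k ∈ longs, Ex hq hK η (Rk hq hK k) (Rk hq hK k) := by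
  intro k hk
  obtain ⟨hP, hk71⟩ := steps_ok.1 k hk
  let gg : ↥(X hq hK).G1 := ⟨nWd g0 F (flatW wd (longW k)), flat_mem hq hK _ hP⟩
  refine Ex_conj hq hK η hs hc gg (fun v hv => ?_) (ex71 hq hK η hs hc hq3)
  have hwd : E6Data.tab.Wd (flatW wd (longW k)) := (X hq hK).flat_wd (Ls := longW k) hP
  have h := Subgroup.mem_map_of_mem (MulAut.conj (nWd g0 F (flatW wd (longW k)))).toMonoidHom
    (show (v : GL E6Data.tab.D.Idx F) ∈ genS g0 F ({k} : Set ℕ) from hv)
  rw [genS_map_nWd g0 hwd (fun r hr => (Set.mem_singleton_iff.1 hr) ▸ (long_facts k hk).1),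
    Set.image_singleton, hk71] at h
  show ((gg * v * gg⁻¹ : ↥(X hq hK).G1) : GL E6Data.tab.D.Idx F) ∈ genS g0 F ({71} : Set ℕ)
  rw [Subgroup.coe_mul, Subgroup.coe_mul, Subgroup.coe_inv]
  exact h

/-- the orbit map -/
def piE (r : ℕ) : ℕ := E6Data.sym.π.getD r 0

/-- the roots above a long one common to an iterate -/
def longR (k : ℕ) : List ℕ := (List.range' k (72 - k)).filter fun r => Nat.ble k (piE r)

theorem longR_ok : ∀ k ∈ longs,
    (∀ r ∈ imgList E6Data.tab piE 1 k, 36 ≤ r ∧ r < 72 ∧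
      ∀ s ∈ imgList E6Data.tab piE 1 k, ∀ c ∈ E6Data.tab.cTerms r s, c.1 ∈ imgList E6Data.tab piE 1 k) ∧
    (∀ r ∈ imgList E6Data.tab piE 1 k, k ≤ r → r ∈ longR k) ∧
    (k ∈ longR k ∧ ∀ r ∈ longR k, k ≤ r ∧ r < 72 ∧
      (∀ s ∈ longR k, ∀ c ∈ E6Data.tab.cTerms r s, c.1 ∈ longR k) ∧
      (k + 1 ≤ r → piE r < 72 ∧ k + 1 ≤ piE r)) := by
  decide +kernel

include hq hK in
theorem xk_mem {k : ℕ} (hk : k ∈ longs) {a : F} (ha : a ^ q = a) : xg g0 k a ∈ tw F q := by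
  obtain ⟨hP, hk71⟩ := steps_ok.1 k hk
  have hwd : E6Data.tab.Wd (flatW wd (longW k)) := (X hq hK).flat_wd (Ls := longW k) hP
  obtain ⟨ε, hε, hc⟩ := nWd_conj (F := F) g0 hwd (long_facts k hk).1
  have h71 := xlong_mem hq hK (k := 71) (by decide) (sign_fixed hq hK hε ha)
  have := mul_mem (mul_mem (inv_mem (flat_mem hq hK _ hP)) h71) (flat_mem hq hK _ hP)
  rwa [← hk71, ← (hc a).1, ← mul_assoc, ← mul_assoc, inv_mul_cancel, one_mul,
    inv_mul_cancel_right] at this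

/-- a long layer is its root group -/
theorem long_split {k : ℕ} (hk : k ∈ longs) {x : ↥(X hq hK).G1}
    (hx : x ∈ (X hq hK).Uf k) :
    ∃ z ∈ Rk hq hK k, z⁻¹ * x ∈ (X hq hK).Uf (k + 1) := by
  obtain ⟨hkn, hkN, hπ, hζ⟩ := long_facts k hk
  obtain ⟨himg, hinter, hkR, hR⟩ := longR_ok k hk
  obtain ⟨eN, en⟩ := nN
  set a := (x : GL E6Data.tab.D.Idx F) with ha
  have hxI : a ∈ genS g0 F (Set.Ico k E6Data.tab.n) := hx
  have hxσ := ((X hq hK).σ_iter (S := Set.Ico k E6Data.tab.n) (fun r hr => hr.2) hxI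
    ((X hq hK).G1_le _ x.2).2 1).1
  have himgmem : ∀ r, r ∈ (X hq hK).π^[1] '' Set.Ico k E6Data.tab.n ↔ r ∈ imgList E6Data.tab piE 1 k := fun r => by
    simp only [imgList, List.mem_map, List.mem_range'_1, Set.mem_image, Set.mem_Ico, Function.iterate_one]
    constructor <;> rintro ⟨s, hs, e⟩ <;> exact ⟨s, ⟨hs.1, by omega⟩, e⟩
  have hA : BTi.Cl E6Data.tab ((X hq hK).π^[1] '' Set.Ico k E6Data.tab.n) :=
    ⟨fun r hr => ⟨by rw [eN]; exact (himg r ((himgmem r).1 hr)).1, by rw [en]; exact (himg r ((himgmem r).1 hr)).2.1⟩,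
      fun r hr s hs c hc => (himgmem _).2 ((himg r ((himgmem r).1 hr)).2.2 s ((himgmem s).1 hs) c hc)⟩
  have hIco : ∀ i, E6Data.tab.N ≤ i → BTi.Cl E6Data.tab (Set.Ico i E6Data.tab.n) := fun i hi => by
    have e : Set.Ico E6Data.tab.N E6Data.tab.n ∩ Set.Ico i E6Data.tab.n = Set.Ico i E6Data.tab.n :=
      Set.inter_eq_right.2 fun r hr => ⟨hi.trans hr.1, hr.2⟩
    exact e ▸ (BTi.cl_pos g0).ico g0 (k := i)
  have hRc : BTi.Cl E6Data.tab {r | r ∈ longR k} :=
    ⟨fun r hr => ⟨by rw [eN] at hkN ⊢; have := (hR r hr).1; omega, by rw [en]; exact (hR r hr).2.1⟩,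
      fun r hr s hs c hc => (hR r hr).2.2.1 s hs c hc⟩
  have hxR : a ∈ genS g0 F {r | r ∈ longR k} :=
    genS_mono g0 (fun r hr => hinter r ((himgmem r).1 hr.1) hr.2.1) (BTi.genS_inter gA hA (hIco k hkN) hxσ hxI)
  obtain ⟨c, w, hw, e⟩ := exists_split gA hkN hxI
  have hwR : w ∈ genS g0 F {r | r ∈ longR k} := by
    have : w = (xg g0 k c)⁻¹ * a := by rw [e, inv_mul_cancel_left]
    rw [this]
    exact mul_mem (inv_mem (xg_mem_genS g0 (S := {r | r ∈ longR k}) hkR c)) hxR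
  have hwI := BTi.genS_inter gA hRc (hIco (k + 1) (by omega)) hwR hw
  have hσw : sigma hq hK w ∈ genS g0 F (Set.Ico (k + 1) E6Data.tab.n) := by
    have h := (X hq hK).σ_genS (fun r hr => hr.2.2) hwI
    refine genS_mono g0 ?_ h
    rintro _ ⟨r, hr, rfl⟩
    have := (hR r hr.1).2.2.2 hr.2.1
    exact ⟨this.2, by rw [en]; exact this.1⟩
  have hfix : sigma hq hK a = a := (twisted_fixed hq hK _ x.2).2
  rw [e, map_mul] at hfix
  rw [show sigma hq hK (xg g0 k c) = xg g0 k (c ^ q) by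
    simp only [sigma]; rw [graphσ_xg g0 _ _ hkn, hπ, hζ, psi_apply, Int.cast_one, one_mul]] at hfix
  have hc' : c ^ q = c := by
    have h : xg g0 k (-c + c ^ q) = w * (sigma hq hK w)⁻¹ := by
      rw [← xg_add, ← xg_inv]
      calc (xg g0 k c)⁻¹ * xg g0 k (c ^ q) =
            (xg g0 k c)⁻¹ * (xg g0 k (c ^ q) * sigma hq hK w) * (sigma hq hK w)⁻¹ := by group
        _ = _ := by rw [hfix]; group
    have h0 := lowest_coeff g0 hkN hkn (t := -c + c ^ q) (by rw [h]; exact mul_mem hw (inv_mem hσw))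
    linear_combination h0
  refine ⟨⟨xg g0 k c, xk_mem hq hK hk hc'⟩,
    show xg g0 k c ∈ genS g0 F ({k} : Set ℕ) from xg_mem_genS g0 (Set.mem_singleton k) c, ?_⟩
  show ((((⟨xg g0 k c, xk_mem hq hK hk hc'⟩ : ↥(X hq hK).G1))⁻¹ * x : ↥(X hq hK).G1) :
    GL E6Data.tab.D.Idx F) ∈ genS g0 F (Set.Ico (k + 1) E6Data.tab.n)
  rw [Subgroup.coe_mul, Subgroup.coe_inv]
  show (xg g0 k c)⁻¹ * a ∈ genS g0 F (Set.Ico (k + 1) E6Data.tab.n)
  rw [e, inv_mul_cancel_left]
  exact hw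

theorem Rk_le_Uf {k : ℕ} (hk : k ∈ longs) : Rk hq hK k ≤ (X hq hK).Uf k := fun x hx =>
  genS_mono g0 (S := ({k} : Set ℕ)) (S' := Set.Ico k E6Data.tab.n)
    (fun r hr => by rw [Set.mem_singleton_iff] at hr; subst hr; exact ⟨le_rfl, (long_facts _ hk).1⟩) hx

include hs hc in
/-- lifts over a long layer commute modulo a section of the higher ones -/
theorem special_long (hq3 : 3 ≤ q) {k : ℕ} (hk : k ∈ longs) : (X hq hK).Special η k k := by
  intro N hN hNU hW x y hx hy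
  obtain ⟨za, hza, hxa⟩ := long_split hq hK hk hx
  obtain ⟨zb, hzb, hyb⟩ := long_split hq hK hk hy
  obtain ⟨a, rfl⟩ := hs za
  obtain ⟨b, rfl⟩ := hs zb
  set a' := a⁻¹ * x with ha'
  set b' := b⁻¹ * y with hb'
  have hxe : x = a * a' := by rw [ha', mul_inv_cancel_left]
  have hye : y = b * b' := by rw [hb', mul_inv_cancel_left]
  have hUN : (X hq hK).Uf k ≤ (X hq hK).Uf E6Data.tab.N := (X hq hK).Uf_anti (long_facts k hk).2.1
  rw [hxe, hye]
  refine layer_kill η hc hNU (hUN (Rk_le_Uf hq hK hk hza)) (hUN (Rk_le_Uf hq hK hk hzb))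
    (ex_long hq hK η hs hc hq3 k hk a b hza hzb) (hW a' b (by simpa [ha'] using hxa) (Rk_le_Uf hq hK hk hzb)) ?_
  rw [← hxe, ← commutatorElement_inv]
  exact inv_mem (hW b' x (by simpa [hb'] using hyb) hx)

theorem zeroOK : E6Data.tab.checkZero (fun r => E6Data.sym.π.getD r 0) secReps = true := by
  decide +kernel

include hs hc in
/-- every central extension splits over `U` -/
theorem section_U {p f : ℕ} [Fact p.Prime] [CharP F p] (hqp : q = p ^ f) (hq3 : 3 ≤ q) :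
    ∃ N : Subgroup Y, IsSection η ((X hq hK).Uf E6Data.tab.N) N := by
  refine (X hq hK).exists_section η hs hc (p := p) (e := 2 * f)
    (hK.trans (by rw [hqp, ← pow_mul, mul_comm])) zeroOK (weights_free hq hK hq3) fun k hk j hj hjk => ?_
  rcases weights_pair hq hK (p := p) Fact.out hqp hq3 k hk j hj hjk with h | ⟨rfl, h⟩
  · exact Or.inl h
  · exact Or.inr (special_long hq hK η hs hc hq3 h)

end Cfsg.Agent.Chev.TwE6
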