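import Cfsg.Agent.Lib.CentralSection.TwE6Long
import Cfsg.Agent.Lib.Lie.CovCenter
import Cfsg.Agent.Lib.SchurMult.Bound

/-!
# The multiplier of `²E₆(q)`

The frame and the section bound it by `gcd (3, q + 1)`; the preimage in the universal group of type
`E₆` shows that the bound is attained.
-/

set_option autoImplicit false
set_option maxRecDepth 20000
set_option linter.unusedSectionVars false
set_option linter.style.haveILetI false

namespace Cfsg.Agent.Chev.TwE6

open Cfsg.Lie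
open Tab
open Cfsg.Agent.CentralSection
open scoped commutatorElement

variable {F : Type*} [Field F] [Fintype F] {q : ℕ} (hq : IsPrimePow q) (hK : Fintype.card F = q ^ 2)

include hq hK in
/-- the index of `U` is prime to `p` -/
theorem index_prime {p f : ℕ} [Fact p.Prime] (hqp : q = p ^ f) : ¬ p ∣ (fr hq hK).U.index := by
  have hU : Nat.card (fr hq hK).U = q ^ 36 := by
    rw [← card_pos hq hK, posUnipotent_eq g0, show (fr hq hK).U =
      (genS g0 F (Set.Ico E6Data.tab.N E6Data.tab.n)).subgroupOf (X hq hK).G1 from rfl,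
      ← Subgroup.inf_subgroupOf_right]
    exact Nat.card_congr (Subgroup.subgroupOfEquivOfLe inf_le_right).toEquiv
  have h0 := (fr hq hK).U.card_mul_index
  rw [hU] at h0
  have h : Nat.gcd 3 (q + 1) * (q ^ 36 * (fr hq hK).U.index) = q ^ 36 * (q ^ 2 - 1) * (q ^ 5 + 1) *
      (q ^ 6 - 1) * (q ^ 8 - 1) * (q ^ 9 + 1) * (q ^ 12 - 1) :=
    (congrArg _ h0).trans (card_twisted hq hK)
  have h' : Nat.gcd 3 (q + 1) * (fr hq hK).U.index =
      (q ^ 2 - 1) * (q ^ 5 + 1) * (q ^ 6 - 1) * (q ^ 8 - 1) * (q ^ 9 + 1) * (q ^ 12 - 1) :=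
    Nat.eq_of_mul_eq_mul_left (pow_pos hq.pos 36) (by rw [mul_left_comm, h]; ring)
  intro hd
  have hd' : p ∣ _ := h' ▸ Dvd.dvd.mul_left hd _
  have hp : p.Prime := Fact.out
  have hpq : p ∣ q := by
    rw [hqp]; exact dvd_pow_self p (fun e => by rw [e, pow_zero] at hqp; exact hq.one_lt.ne' hqp)
  have hsub : ∀ k, k ≠ 0 → ¬ p ∣ q ^ k - 1 := fun k hk h => by
    have h1 := Nat.dvd_sub (dvd_pow hpq hk) h
    rw [Nat.sub_sub_self (Nat.one_le_pow _ _ hq.pos)] at h1
    exact hp.not_dvd_one h1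
  have hadd : ∀ k, k ≠ 0 → ¬ p ∣ q ^ k + 1 := fun k hk h =>
    hp.not_dvd_one ((Nat.dvd_add_right (dvd_pow hpq hk)).1 h)
  rw [hp.dvd_mul, hp.dvd_mul, hp.dvd_mul, hp.dvd_mul, hp.dvd_mul] at hd'
  rcases hd' with ((((h | h) | h) | h) | h) | h
  exacts [hsub 2 (by norm_num) h, hadd 5 (by norm_num) h, hsub 6 (by norm_num) h,
    hsub 8 (by norm_num) h, hadd 9 (by norm_num) h, hsub 12 (by norm_num) h]

include hq hK in
/-- the upper bound -/
theorem card_inf_le (hq3 : 3 ≤ q) {p f : ℕ} [Fact p.Prime] [CharP F p] (hqp : q = p ^ f)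
    {E : Type*} [Group E] (ξ : E →* ↥(tw F q)) (hs : Function.Surjective ξ)
    (hc : ξ.ker ≤ Subgroup.center E) : Nat.card ↥(ξ.ker ⊓ commutator E) ≤ Nat.gcd 3 (q + 1) := by
  classical
  refine card_inf_of_frame (G := ↥(X hq hK).G1) ξ hs hc ((X hq hK).perfect (derived hq hK))
    (fr hq hK) (frame_ax hq hK hqp) (index_prime hq hK hqp) ?_ ?_ (rel_bound hq hK)
  · intro i r hr hrp P
    exact L_sylow hq hK hr hrp i P
  · intro Y _ _ η hηs hηc
    exact section_U hq hK η hηs hηc hqp hq3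

include hq hK in
/-- an element of order three in the kernel of the preimage in the universal group -/
theorem exists_cover (h3 : 3 ∣ q + 1) {p f : ℕ} [Fact p.Prime] [CharP F p] (hqp : q = p ^ f) :
    ∃ (Y : Subgroup (E6Data.tab.D.SteinbergGroup F)) (ξ : ↥Y →* ↥(tw F q)),
      Function.Surjective ξ ∧ ξ.ker ≤ Subgroup.center ↥Y ∧
        ∃ z ∈ ξ.ker ⊓ commutator ↥Y, orderOf z = 3 := by
  classical
  let θ := Tab.θ0 gA F
  let Y : Subgroup (E6Data.tab.D.SteinbergGroup F) := (tw F q).comap θ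
  let ξ : ↥Y →* ↥(tw F q) := (θ.comp Y.subtype).codRestrict (tw F q) fun y => y.2
  have hs : Function.Surjective ξ := fun g => by
    have hg : (g : GL E6Data.tab.D.Idx F) ∈ θ.range := by
      rw [θ0_range (F := F) gA]; exact (twisted_fixed hq hK _ g.2).1
    obtain ⟨x, hx⟩ := hg
    exact ⟨⟨x, show θ x ∈ tw F q from hx.symm ▸ g.2⟩, Subtype.ext hx⟩
  have hker : ∀ y : ↥Y, y ∈ ξ.ker → (y : E6Data.tab.D.SteinbergGroup F) ∈ Subgroup.center _ :=
    fun y hy => by
      rw [← ker_eq_center gW, MonoidHom.mem_ker]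
      exact congrArg Subtype.val (MonoidHom.mem_ker.1 hy)
  have hc : ξ.ker ≤ Subgroup.center ↥Y := fun y hy => Subgroup.mem_center_iff.2 fun b =>
    Subtype.ext (Subgroup.mem_center_iff.1 (hker y hy) b.1)
  have hk3 : ∀ y : ↥Y, y ∈ ξ.ker → y ^ 3 = 1 := fun y hy => by
    have h := hker y hy
    rw [center_eq_map gW e6_data] at h
    obtain ⟨u, hu, e⟩ := h
    refine Subtype.ext ?_
    rw [Subgroup.coe_pow, ← e, ← map_pow, show u ^ 3 = 1 from hu, map_one]
    rfl
  -- elements of order `p` are commutators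
  have hp : p.Prime := Fact.out
  have hp3 : Nat.gcd p 3 = 1 := (Nat.coprime_primes hp Nat.prime_three).2 fun e => by
    have hf : f ≠ 0 := fun h => by rw [h, pow_zero] at hqp; exact hq.one_lt.ne' hqp
    have hd : 3 ∣ q := by rw [hqp, ← e]; exact dvd_pow_self p hf
    have := (Nat.dvd_add_right hd).1 h3
    omega
  have hC : ∀ x : ↥Y, x ^ p = 1 → x ∈ commutator ↥Y := by
    intro x hx
    have hm : ξ x ∈ (commutator ↥Y).map ξ := by
      rw [_root_.map_commutator_eq, MonoidHom.range_eq_top.2 hs, ← commutator_def]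
      have hperf : commutator ↥(tw F q) = ⊤ := (X hq hK).perfect (derived hq hK)
      rw [hperf]; trivial
    obtain ⟨c, hcC, e⟩ := hm
    set k := c⁻¹ * x with hk
    have hkk : k ∈ ξ.ker := by rw [MonoidHom.mem_ker, hk, map_mul, map_inv, e, inv_mul_cancel]
    have hxe : x = c * k := by rw [hk, mul_inv_cancel_left]
    rw [hxe, (show Commute c k from Subgroup.mem_center_iff.1 (hc hkk) c).mul_pow, ← eq_inv_iff_mul_eq_one] at hx
    have h1 : k ^ p ∈ commutator ↥Y := by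
      rw [← inv_eq_iff_eq_inv.2 hx]
      exact inv_mem (pow_mem hcC p)
    have h2 : k ^ 3 ∈ commutator ↥Y := by rw [hk3 k hkk]; exact one_mem _
    rw [hxe]
    refine mul_mem hcC ?_
    have h := Nat.gcd_eq_gcd_ab p 3
    rw [hp3, Nat.cast_one] at h
    rw [← zpow_one k, h, zpow_add, zpow_mul, zpow_mul, zpow_natCast, zpow_natCast]
    exact mul_mem (zpow_mem h1 _) (zpow_mem h2 _)
  -- the lifted pair elements
  set C := (commutator ↥Y).map Y.subtype with hCdef
  have hcomm : ∀ r s : ℕ, r < E6Data.tab.n → s < E6Data.tab.n → s ≠ r → s ≠ E6Data.tab.neg r →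
      E6Data.tab.cTerms r s = [] → ∀ t u : F,
      Commute (Tab.sx E6Data.tab F r t) (Tab.sx E6Data.tab F s u) := by
    intro r s hr hs' h1 h2 h0 t u
    have h := Tab.sx_comm g0 hr hs' h1 h2 t u
    simp only [Tab.sWord, cVal, h0, List.map_nil, List.prod_nil, mul_one] at h
    exact h.symm
  have hfour : ∀ i j, IsPair i j → ∀ r ∈ [E6Data.tab.smp i, E6Data.tab.neg (E6Data.tab.smp i)],
      ∀ s ∈ [E6Data.tab.smp j, E6Data.tab.neg (E6Data.tab.smp j)],
      r < E6Data.tab.n ∧ s < E6Data.tab.n ∧ s ≠ r ∧ s ≠ E6Data.tab.neg r ∧ E6Data.tab.cTerms r s = [] := by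
    rintro i j (⟨rfl, rfl⟩ | ⟨rfl, rfl⟩) <;> decide +kernel
  have hcm : ∀ i j, IsPair i j → ∀ r ∈ [E6Data.tab.smp i, E6Data.tab.neg (E6Data.tab.smp i)],
      ∀ s ∈ [E6Data.tab.smp j, E6Data.tab.neg (E6Data.tab.smp j)], ∀ t u : F,
      Commute (Tab.sx E6Data.tab F r t) (Tab.sx E6Data.tab F s u) := by
    intro i j hij r hr s hs' t u
    obtain ⟨a, b, c, d, e⟩ := hfour i j hij r hr s hs'
    exact hcomm r s a b c d e t u
  have hpair : ∀ i j, IsPair i j → ∀ t : F,
      Tab.sx E6Data.tab F (E6Data.tab.smp i) t * Tab.sx E6Data.tab F (E6Data.tab.smp j) (t ^ q) ∈ C ∧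
      Tab.sx E6Data.tab F (E6Data.tab.neg (E6Data.tab.smp i)) t *
        Tab.sx E6Data.tab F (E6Data.tab.neg (E6Data.tab.smp j)) (t ^ q) ∈ C := by
    intro i j hij t
    have key : ∀ r ∈ [E6Data.tab.smp i, E6Data.tab.neg (E6Data.tab.smp i)],
        ∀ s ∈ [E6Data.tab.smp j, E6Data.tab.neg (E6Data.tab.smp j)],
        xg g0 r t * xg g0 s (t ^ q) ∈ tw F q →
        Tab.sx E6Data.tab F r t * Tab.sx E6Data.tab F s (t ^ q) ∈ C := by
      intro r hr s hs' hm
      have hy : Tab.sx E6Data.tab F r t * Tab.sx E6Data.tab F s (t ^ q) ∈ Y := by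
        show θ (Tab.sx E6Data.tab F r t * Tab.sx E6Data.tab F s (t ^ q)) ∈ tw F q
        rw [map_mul, θ0_sx, θ0_sx]; exact hm
      refine ⟨⟨_, hy⟩, hC _ ?_, rfl⟩
      refine Subtype.ext ?_
      have hpow : ∀ (r : ℕ) (a : F) (n : ℕ),
          Tab.sx E6Data.tab F r a ^ n = Tab.sx E6Data.tab F r ((n : F) * a) := by
        intro r a n
        induction n with
        | zero => simp [Tab.sx_zero g0]
        | succ n ih => rw [pow_succ, ih, Tab.sx_add g0]; congr 1; push_cast; ring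
      show (Tab.sx E6Data.tab F r t * Tab.sx E6Data.tab F s (t ^ q)) ^ p = 1
      rw [(hcm i j hij r hr s hs' t (t ^ q)).mul_pow, hpow, hpow, CharP.cast_eq_zero, zero_mul,
        zero_mul, Tab.sx_zero g0, Tab.sx_zero g0, one_mul]
    exact ⟨key _ (by simp) _ (by simp) (eP_mem hij t), key _ (by simp) _ (by simp) (eN_mem hij t)⟩
  have hnn : ∀ i j, IsPair i j → ∀ t : F,
      Tab.sn E6Data.tab F (E6Data.tab.smp i) t * Tab.sn E6Data.tab F (E6Data.tab.smp j) (t ^ q) ∈ C := by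
    intro i j hij t
    have h1 := (hpair i j hij t).1
    have h2 := (hpair i j hij (-t⁻¹)).2
    rw [neg_inv_pow hq hK] at h2
    have h := mul_mem (mul_mem h1 h2) h1
    simp only [Tab.sn]
    set a := Tab.sx E6Data.tab F (E6Data.tab.smp i) t
    set b := Tab.sx E6Data.tab F (E6Data.tab.neg (E6Data.tab.smp i)) (-t⁻¹)
    set a' := Tab.sx E6Data.tab F (E6Data.tab.smp j) (t ^ q)
    set b' := Tab.sx E6Data.tab F (E6Data.tab.neg (E6Data.tab.smp j)) (-(t ^ q)⁻¹)
    have c1 : Commute (b * a) a' :=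
      (hcm i j hij _ (by simp) _ (by simp) _ _).mul_left (hcm i j hij _ (by simp) _ (by simp) _ _)
    have c2 : Commute a b' := hcm i j hij _ (by simp) _ (by simp) _ _
    have e : a * b * a * (a' * b' * a') = a * a' * (b * b') * (a * a') := by
      calc a * b * a * (a' * b' * a') = a * ((b * a) * a') * b' * a' := by group
        _ = a * a' * b * (a * b') * a' := by rw [c1.eq]; group
        _ = _ := by rw [c2.eq]; group
    rw [e]; exact h
  have hh : ∀ i j, IsPair i j → ∀ u : Fˣ,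
      Tab.hb E6Data.tab F i u * Tab.hb E6Data.tab F j (u ^ q) ∈ C := by
    intro i j hij u
    have h2 := hnn i j hij (-1)
    rw [neg_one_pow hq hK] at h2
    have h := mul_mem (hnn i j hij (u : F)) h2
    simp only [Tab.hb, Tab.sh, Units.val_pow_eq_pow_val]
    have c : Commute (Tab.sn E6Data.tab F (E6Data.tab.smp i) (-1 : F))
        (Tab.sn E6Data.tab F (E6Data.tab.smp j) ((u : F) ^ q)) := by
      have cr : ∀ s ∈ [E6Data.tab.smp j, E6Data.tab.neg (E6Data.tab.smp j)], ∀ w : F,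
          Commute (Tab.sn E6Data.tab F (E6Data.tab.smp i) (-1 : F)) (Tab.sx E6Data.tab F s w) :=
        fun s hs' w => ((hcm i j hij _ (by simp) s hs' _ w).mul_left
          (hcm i j hij _ (by simp) s hs' _ w)).mul_left (hcm i j hij _ (by simp) s hs' _ w)
      exact ((cr _ (by simp) _).mul_right (cr _ (by simp) _)).mul_right (cr _ (by simp) _)
    rw [c.mul_mul_mul_comm]; exact h
  -- the central element
  obtain ⟨g, hg⟩ := exists_gen (q := q) hK
  have hd : 3 ∣ q ^ 2 - 1 := h3.trans ⟨q - 1, by rw [← Nat.sq_sub_sq, one_pow]⟩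
  obtain ⟨m, hm⟩ := hd
  set ω := g ^ m with hω
  have hm0 : 0 < m := by
    rcases Nat.eq_zero_or_pos m with rfl | h
    · have : 4 ≤ q ^ 2 := by nlinarith [hq.two_le]
      omega
    · exact h
  have ho : orderOf ω = 3 := by
    rw [hω, orderOf_pow' g hm0.ne', hg, hm, Nat.gcd_eq_right (dvd_mul_left _ _), Nat.mul_div_cancel _ hm0]
  have w3 : ω ^ 3 = 1 := by rw [← ho]; exact pow_orderOf_eq_one ω
  have wq : ω ^ (q + 1) = 1 := by
    obtain ⟨l, hl⟩ := h3
    rw [hl, pow_mul, w3, one_pow]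
  have e1 : ω ^ q = ω ^ 2 := by
    have : ω ^ q * ω = ω ^ 2 * ω := by rw [← pow_succ, wq, ← pow_succ, w3]
    exact mul_right_cancel this
  have e2 : (ω ^ 2) ^ q = ω := by
    rw [← pow_mul, mul_comm, pow_mul, e1, ← pow_mul, show 2 * 2 = 3 + 1 from rfl, pow_add, w3,
      one_mul, pow_one]
  set z := muHom gW F E6Data.cert ω with hz
  have hzform : z = Tab.hb E6Data.tab F 0 ω * Tab.hb E6Data.tab F 5 (ω ^ q) *
      (Tab.hb E6Data.tab F 2 (ω ^ 2) * Tab.hb E6Data.tab F 4 ((ω ^ 2) ^ q)) := by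
    rw [e1, e2, hz]
    show ((List.range E6Data.tab.l).map fun i => Tab.hb E6Data.tab F i (ω ^ E6Data.cert.v 0 i)).prod = _
    have hb1 : ∀ i, Tab.hb E6Data.tab F i (1 : Fˣ) = 1 := fun i => by
      simp [Tab.hb, Tab.sh_one g0]
    have hv : (List.range 6).map (E6Data.cert.v 0) = [1, 0, 2, 0, 1, 2] := by decide +kernel
    simp only [List.range_succ, List.range_zero, List.nil_append, List.cons_append, List.map_cons,
      List.map_nil, List.cons.injEq, and_true] at hv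
    simp only [show E6Data.tab.l = 6 from rfl, List.range_succ, List.range_zero, List.nil_append,
      List.cons_append, List.map_cons, List.map_nil, List.prod_cons, List.prod_nil, mul_one, hv,
      zpow_ofNat, pow_zero, pow_one, hb1, one_mul]
    have l : (0 : ℕ) < E6Data.tab.l ∧ 2 < E6Data.tab.l ∧ 4 < E6Data.tab.l ∧ 5 < E6Data.tab.l := by decide
    rw [mul_assoc (Tab.hb E6Data.tab F 0 ω) (Tab.hb E6Data.tab F 5 _),
      ((hb_comm gW l.2.2.2 l.2.1 (ω ^ 2) (ω ^ 2)).mul_right (hb_comm gW l.2.2.2 l.2.2.1 (ω ^ 2) ω)).eq,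
      mul_assoc (Tab.hb E6Data.tab F 2 _)]
  have hzC : z ∈ C := by
    rw [hzform]
    exact mul_mem (hh 0 5 (Or.inr ⟨rfl, rfl⟩) ω) (hh 2 4 (Or.inl ⟨rfl, rfl⟩) (ω ^ 2))
  obtain ⟨zz, hzz, ezz⟩ := hzC
  refine ⟨Y, ξ, hs, hc, zz, Subgroup.mem_inf.2 ⟨?_, hzz⟩, ?_⟩
  · refine MonoidHom.mem_ker.2 (Subtype.ext ?_)
    show θ (zz : E6Data.tab.D.SteinbergGroup F) = 1
    have hzc : z ∈ Subgroup.center (E6Data.tab.D.SteinbergGroup F) := by
      rw [center_eq_map gW e6_data]
      exact ⟨ω, w3, rfl⟩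
    rw [← ker_eq_center gW] at hzc
    rw [show (zz : E6Data.tab.D.SteinbergGroup F) = z from ezz]
    exact hzc
  · rw [← Subgroup.orderOf_coe, show (zz : E6Data.tab.D.SteinbergGroup F) = z from ezz]
    haveI : Fact (Nat.Prime 3) := ⟨Nat.prime_three⟩
    refine orderOf_eq_prime (by rw [hz, ← map_pow, w3, map_one]) fun e => ?_
    have h1 : ω = 1 := muHom_injOn gW e6_data w3 e
    rw [h1, orderOf_one] at ho
    omega

include hq hK in
/-- the multiplier of `²E₆(q)` is cyclic of order `gcd (3, q + 1)` -/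
theorem multiplier (h2 : q ≠ 2) : Cfsg.HasCyclicSchurMultiplier ↥(tw F q) (Nat.gcd 3 (q + 1)) := by
  have hq3 : 3 ≤ q := by have := hq.two_le; omega
  obtain ⟨p, f, hp, -, hqp⟩ := (isPrimePow_nat_iff q).1 hq
  haveI : Fact p.Prime := ⟨hp⟩
  haveI : CharP F p := charP_of_card_eq_prime_pow (f := f * 2) (by rw [hK, pow_mul, hqp])
  haveI : Finite ↥(tw F q) := inferInstance
  have hle : Nat.card (Schur.Multiplier ↥(tw F q)) ≤ Nat.gcd 3 (q + 1) := by
    obtain ⟨⟨Γ, iG, iF, σ, ⟨hs, hc, hm⟩, ⟨e⟩⟩, -⟩ := Schur.hasSchurMultiplier_multiplier ↥(tw F q)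
    rw [← Nat.card_congr e.toEquiv]
    have h := card_inf_le hq hK hq3 hqp.symm σ hs hc
    rwa [inf_eq_left.2 hm] at h
  have hd : Nat.gcd 3 (q + 1) ≠ 0 := (Nat.gcd_pos_of_pos_left _ (by norm_num)).ne'
  haveI : NeZero (Nat.gcd 3 (q + 1)) := ⟨hd⟩
  refine SchurMult.cyclic_of _ hle ?_
  by_cases h3 : 3 ∣ q + 1
  · obtain ⟨Y, ξ, hs, hc, z, hz, ho⟩ := exists_cover hq hK h3 hqp.symm
    rw [Nat.gcd_eq_left h3, ← ho]
    exact SchurMult.exists_orderOf ξ hs hc hz
  · rw [show Nat.gcd 3 (q + 1) = 1 from (Nat.prime_three.coprime_iff_not_dvd.2 h3)]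
    exact one_dvd _

end Cfsg.Agent.Chev.TwE6
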