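import Cfsg.Agent.Lib.CentralSection.TwFrameN
import Cfsg.Agent.Lib.CentralSection.RankOneSL2
import Cfsg.Agent.Lib.ChevOdd.RootSL2
import Cfsg.Agent.Lib.Lie.TwE6

/-!
# The frame of `²E₆(q)`

The rank one groups lie in injective images of `SL₂` of the field with `q²` elements; the relations
between their torus parts are the kernel of the parametrisation of the torus.
-/

set_option autoImplicit false
set_option maxRecDepth 20000
set_option linter.unusedSectionVars false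
set_option linter.style.haveILetI false

namespace Cfsg.Agent.Chev.TwE6

open Cfsg.Lie
open Tab
open Cfsg.Agent.CentralSection
open Matrix (SpecialLinearGroup)
open SL2Pres (up low wS diagS)

theorem gW : E6Data.tab.GoodW phiK
    [(16, 66, 0), (1, 71, 0), (5, 69, 0), (2, 70, 0), (3, 69, 0), (4, 68, 0)] :=
  ⟨⟨⟨E6Data.good, by decide +kernel⟩, by decide +kernel⟩, by decide +kernel⟩

section

variable {F : Type*} [Field F]

theorem exists_hom0 {r : ℕ} (hr : r < E6Data.tab.n) :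
    ∃ φ : SpecialLinearGroup (Fin 2) F →* GL E6Data.tab.D.Idx F,
      (∀ t, φ (up t) = xg g0 r t) ∧ ∀ t, φ (low t) = xg g0 (E6Data.tab.neg r) t := by
  have hrel : ∀ s < E6Data.tab.n, ∀ t u : F, t ≠ 0 →
      (xg g0 s t * xg g0 (E6Data.tab.neg s) (-t⁻¹) * xg g0 s t) * xg g0 s u *
        (xg g0 s t * xg g0 (E6Data.tab.neg s) (-t⁻¹) * xg g0 s t)⁻¹ =
          xg g0 (E6Data.tab.neg s) (-(t⁻¹ ^ 2 * u)) :=
    fun s hs t u ht => by
      have h := congrArg (Tab.Cov.θ0 gA F) (Tab.Cov.sn_conj_self gW s hs t u ht)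
      simpa [Tab.Cov.sn, Tab.Cov.θ0_sx] using h
  let D : SL2Pres.SData F (GL E6Data.tab.D.Idx F) :=
    { X := xg g0 r
      Y := xg g0 (E6Data.tab.neg r)
      addX := xg_add g0 r
      addY := xg_add g0 (E6Data.tab.neg r)
      relX := hrel r hr
      relY := fun t u ht => by
        have h := hrel (E6Data.tab.neg r) (neg_lt hr) t u ht
        rwa [Tab.neg_neg hr] at h }
  exact SL2Pres.exists_hom' D fun s t hs ht =>
    (hE_mul g0 hr (Units.mk0 s hs) (Units.mk0 t ht)).symm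

/-- the `SL₂` of a root -/
noncomputable def rh (F : Type*) [Field F] {r : ℕ} (hr : r < E6Data.tab.n) :
    SpecialLinearGroup (Fin 2) F →* GL E6Data.tab.D.Idx F :=
  (exists_hom0 hr).choose

theorem rh_up {r : ℕ} (hr : r < E6Data.tab.n) (t : F) : rh F hr (up t) = xg g0 r t :=
  (exists_hom0 hr).choose_spec.1 t

theorem rh_low {r : ℕ} (hr : r < E6Data.tab.n) (t : F) :
    rh F hr (low t) = xg g0 (E6Data.tab.neg r) t :=
  (exists_hom0 hr).choose_spec.2 t

theorem rh_wS {r : ℕ} (hr : r < E6Data.tab.n) : rh F hr (wS F) = nE g0 r (1 : F) := by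
  rw [SL2Img.wS_root, map_mul, map_mul, rh_up, rh_low]
  simp [nE]

theorem rh_diag {r : ℕ} (hr : r < E6Data.tab.n) (u : Fˣ) :
    rh F hr (diagS F u) = hE g0 r (u : F) := by
  rw [ChevOdd.diagS_eq]
  simp only [map_mul, rh_up, rh_low, hE, nE]

theorem rh_commute {r s : ℕ} (hr : r < E6Data.tab.n) (hs : s < E6Data.tab.n)
    (h : E6Data.tab.checkComPair [r, E6Data.tab.neg r] [s, E6Data.tab.neg s] = true)
    (x y : SpecialLinearGroup (Fin 2) F) : Commute (rh F hr x) (rh F hs y) := by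
  simp only [checkComPair, List.all_cons, List.all_nil, Bool.and_true, Bool.and_eq_true, nat_blt,
    Bool.not_eq_true', List.isEmpty_iff, nat_beq_false] at h
  obtain ⟨⟨h0, a, b⟩, ⟨h0', a', b'⟩⟩ := h
  refine ChevOdd.commute_of_gen _ _ (fun u v => ?_) x y
  simp only [rh_up, rh_low]
  exact ⟨xg_commute gA h0 a.1.1.1 a.1.1.2 a.1.2 a.2 u v, xg_commute gA h0 b.1.1.1 b.1.1.2 b.1.2 b.2 u v,
    xg_commute gA h0' a'.1.1.1 a'.1.1.2 a'.1.2 a'.2 u v, xg_commute gA h0' b'.1.1.1 b'.1.1.2 b'.1.2 b'.2 u v⟩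

/-- a diagonal element of the image of `SL₂` that keeps both root images is the image of a diagonal one -/
theorem diag_of_norm (φ : SpecialLinearGroup (Fin 2) F →* GL E6Data.tab.D.Idx F) (hφ : Function.Injective φ)
    {γ : SpecialLinearGroup (Fin 2) F} (h1 : ∃ w, φ γ * φ (up 1) * (φ γ)⁻¹ = φ (up w))
    (h2 : ∃ w, φ γ * φ (low 1) * (φ γ)⁻¹ = φ (low w)) : ∃ a : Fˣ, γ = diagS F a := by
  obtain ⟨w, hw⟩ := h1
  obtain ⟨z, hz⟩ := h2
  rw [← map_inv, ← map_mul, ← map_mul] at hw hz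
  have hw1 : γ * up 1 * γ⁻¹ = up w := hφ hw
  have hz1 : γ * low 1 * γ⁻¹ = low z := hφ hz
  rw [mul_inv_eq_iff_eq_mul] at hw1 hz1
  have e1 := congrArg Subtype.val hw1
  have e2 := congrArg Subtype.val hz1
  obtain ⟨a, b, c, d, hv⟩ : ∃ a b c d, γ.1 = !![a, b; c, d] := ⟨_, _, _, _, Matrix.eta_fin_two _⟩
  have c1 := congrFun (congrFun e1 1) 1
  have c2 := congrFun (congrFun e2 0) 0
  simp [hv, SL2Pres.up_val, SL2Pres.low_val, Matrix.mul_apply, Fin.sum_univ_two] at c1 c2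
  have hc : c = 0 := by exact c1
  have hb : b = 0 := by exact c2
  have hdet := γ.2
  rw [hv, Matrix.det_fin_two_of, hb, zero_mul, sub_zero] at hdet
  refine ⟨Units.mkOfMulEqOne a d hdet, Subtype.ext ?_⟩
  rw [hv, hb, hc, SL2Pres.diagS_val]
  simp [eq_inv_of_mul_eq_one_right hdet]

end

variable {F : Type*} [Field F] [Fintype F] {q : ℕ} (hq : IsPrimePow q) (hK : Fintype.card F = q ^ 2)

/-- the fixed node of a block -/
def midNode : Fin 4 → ℕ := ![1, 3, 2, 0]

/-- the second node of a pair -/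
def sndNode : Fin 4 → ℕ := ![1, 3, 4, 5]

theorem node_lt : ∀ b : Fin 4, E6Data.tab.smp (midNode b) < E6Data.tab.n ∧
    E6Data.tab.smp (sndNode b) < E6Data.tab.n ∧ midNode b < E6Data.tab.l ∧ sndNode b < E6Data.tab.l := by
  decide +kernel

theorem node_block : ∀ b : Fin 4,
    ((b : ℕ) < 2 → ((b : ℕ) = 0 ∧ midNode b = 1 ∨ (b : ℕ) = 1 ∧ midNode b = 3)) ∧
    (2 ≤ (b : ℕ) → ((b : ℕ) = 2 ∧ midNode b = 2 ∧ sndNode b = 4 ∨
      (b : ℕ) = 3 ∧ midNode b = 0 ∧ sndNode b = 5)) := by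
  decide

theorem node_mid (b : Fin 4) (h : (b : ℕ) < 2) : IsMid (midNode b) :=
  ((node_block b).1 h).imp And.right And.right

theorem node_pair (b : Fin 4) (h : 2 ≤ (b : ℕ)) : IsPair (midNode b) (sndNode b) :=
  ((node_block b).2 h).imp And.right And.right

/-- the twisted diagonal `SL₂` of a pair -/
noncomputable def phiP (b : Fin 4) (h : 2 ≤ (b : ℕ)) :
    SpecialLinearGroup (Fin 2) F →* GL E6Data.tab.D.Idx F :=
  MonoidHom.mk' (fun γ => rh F (node_lt b).1 γ *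
      rh F (node_lt b).2.1 (Matrix.SpecialLinearGroup.map (psi hq hK) γ))
    fun x y => by
      simp only [map_mul]
      exact Commute.mul_mul_mul_comm
        (rh_commute (node_lt b).1 (node_lt b).2.1 (pair_data (node_pair b h)).2.2.1 _ _) _ _

/-- the `SL₂` of a block -/
noncomputable def phiI (b : Fin 4) : SpecialLinearGroup (Fin 2) F →* GL E6Data.tab.D.Idx F :=
  if h : 2 ≤ (b : ℕ) then phiP hq hK b h else rh F (node_lt b).1

theorem phiI_pair {b : Fin 4} (h : 2 ≤ (b : ℕ)) : phiI hq hK b = phiP hq hK b h := dif_pos h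

theorem phiI_mid {b : Fin 4} (h : (b : ℕ) < 2) : phiI hq hK b = rh F (node_lt b).1 := dif_neg h.not_ge

theorem map_up (t : F) : Matrix.SpecialLinearGroup.map (psi hq hK) (up t) = up (t ^ q) :=
  Subtype.ext (by
    ext i j
    fin_cases i <;> fin_cases j <;> simp [SL2Pres.up_val, psi_apply, hq.ne_zero])

theorem map_low (t : F) : Matrix.SpecialLinearGroup.map (psi hq hK) (low t) = low (t ^ q) :=
  Subtype.ext (by
    ext i j
    fin_cases i <;> fin_cases j <;> simp [SL2Pres.low_val, psi_apply, hq.ne_zero])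

theorem map_diag (u : Fˣ) :
    Matrix.SpecialLinearGroup.map (psi hq hK) (diagS F u) = diagS F (u ^ q) :=
  Subtype.ext (by
    show (psi hq hK).mapMatrix (diagS F u : Matrix (Fin 2) (Fin 2) F) = _
    rw [SL2Pres.diagS_val, SL2Pres.diagS_val, RingHom.mapMatrix_apply]
    ext i j
    fin_cases i <;> fin_cases j <;> simp [psi_apply, hq.ne_zero])

theorem phiP_up (b : Fin 4) (h : 2 ≤ (b : ℕ)) (t : F) :
    phiP hq hK b h (up t) = eP F q (midNode b) (sndNode b) t := by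
  show rh F _ _ * rh F _ _ = _
  rw [map_up, rh_up, rh_up, eP]

theorem phiP_low (b : Fin 4) (h : 2 ≤ (b : ℕ)) (t : F) :
    phiP hq hK b h (low t) = eN F q (midNode b) (sndNode b) t := by
  show rh F _ _ * rh F _ _ = _
  rw [map_low, rh_low, rh_low, eN]

theorem rh_smp {i : ℕ} (hi : i < E6Data.tab.l) (hr : E6Data.tab.smp i < E6Data.tab.n) (u : Fˣ) :
    rh F hr (diagS F u) = tor E6Data.tab F (Pi.mulSingle i u) := by
  rw [rh_diag, hE_smp g0 hi, hS_eq_tor]

theorem phiI_diag (b : Fin 4) (u : Fˣ) :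
    phiI hq hK b (diagS F u) = tor E6Data.tab F (Pi.mulSingle (midNode b) u *
      if 2 ≤ (b : ℕ) then Pi.mulSingle (sndNode b) (u ^ q) else 1) := by
  rcases le_or_gt 2 (b : ℕ) with h | h
  · rw [phiI_pair hq hK h, if_pos h, map_mul]
    show rh F _ _ * rh F _ _ = _
    rw [map_diag, rh_smp (node_lt b).2.2.1, rh_smp (node_lt b).2.2.2]
  · rw [phiI_mid hq hK h, if_neg h.not_ge, mul_one, rh_smp (node_lt b).2.2.1]

theorem phiI_wS (b : Fin 4) : phiI hq hK b (wS F) = nWd g0 F (wd b) := by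
  have e : ∀ i, nG g0 F i = nE g0 (E6Data.tab.smp i) (1 : F) := fun i => by simp [nG, nE]
  have hw : Matrix.SpecialLinearGroup.map (psi hq hK) (wS F) = wS F := by
    rw [SL2Img.wS_root, map_mul, map_mul, map_up, map_low, one_pow, neg_one_pow hq hK]
  rcases le_or_gt 2 (b : ℕ) with h | h
  · rw [phiI_pair hq hK h]
    show rh F _ _ * rh F _ _ = _
    rw [hw, rh_wS, rh_wS]
    rcases (node_block b).2 h with ⟨hb, hi, hj⟩ | ⟨hb, hi, hj⟩ <;>
      simp [hb, hi, hj, wd, nWd, e]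
  · rw [phiI_mid hq hK h, rh_wS]
    rcases (node_block b).1 h with ⟨hb, hi⟩ | ⟨hb, hi⟩ <;> simp [hb, hi, wd, nWd, e]

theorem eP_one {b : Fin 4} (h : 2 ≤ (b : ℕ)) {t : F}
    (ht : eP F q (midNode b) (sndNode b) t = 1) : t = 0 := by
  have hd : ∀ b : Fin 4, 2 ≤ (b : ℕ) →
      [E6Data.tab.smp (sndNode b), E6Data.tab.smp (midNode b)].Pairwise (· < ·) ∧
      (∀ r ∈ [E6Data.tab.smp (sndNode b), E6Data.tab.smp (midNode b)],
        E6Data.tab.N ≤ r ∧ r < E6Data.tab.n) ∧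
      E6Data.tab.smp (midNode b) ≠ E6Data.tab.smp (sndNode b) := by
    decide +kernel
  obtain ⟨h1, h2, h3⟩ := hd b h
  have e : sProd g0 [E6Data.tab.smp (sndNode b), E6Data.tab.smp (midNode b)]
      (fun r => if r = E6Data.tab.smp (midNode b) then t else t ^ q) =
      sProd g0 [E6Data.tab.smp (sndNode b), E6Data.tab.smp (midNode b)] (fun _ => (0 : F)) := by
    simp only [sProd, List.map_cons, List.map_nil, List.prod_cons, List.prod_nil, mul_one, if_true,
      if_neg h3.symm, xg_zero]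
    rw [← (pair_commute (node_pair b h) (xg_node _ t) (xg_node _ (t ^ q))).eq]
    exact ht
  simpa using sProd_unique g0 h1 h2 e (E6Data.tab.smp (midNode b)) (by simp)

theorem up_one (b : Fin 4) {t : F} (h : phiI hq hK b (up t) = 1) : t = 0 := by
  rcases le_or_gt 2 (b : ℕ) with hb | hb
  · rw [phiI_pair hq hK hb, phiP_up] at h
    exact eP_one hb h
  · rw [phiI_mid hq hK hb, rh_up, ← xg_zero (F := F) g0 (E6Data.tab.smp (midNode b))] at h
    exact xg_injective g0 (node_lt b).1 h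

theorem pos_neg_one {x y : GL E6Data.tab.D.Idx F}
    (hx : x ∈ genS g0 F (Set.Ico E6Data.tab.N E6Data.tab.n)) (hy : y ∈ genS g0 F (Set.Iio E6Data.tab.N))
    (e : y = x) : x = 1 := by
  subst e
  exact borel_inf_neg g0 (genS_pos_le_borel g0 (fun r hr => hr) hx) hy

theorem smp_pos : ∀ b : Fin 4, E6Data.tab.N ≤ E6Data.tab.smp (midNode b) ∧
    E6Data.tab.N ≤ E6Data.tab.smp (sndNode b) ∧
    E6Data.tab.neg (E6Data.tab.smp (midNode b)) < E6Data.tab.N ∧
    E6Data.tab.neg (E6Data.tab.smp (sndNode b)) < E6Data.tab.N := by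
  decide +kernel

theorem up_pos (b : Fin 4) (t : F) :
    phiI hq hK b (up t) ∈ genS g0 F (Set.Ico E6Data.tab.N E6Data.tab.n) := by
  obtain ⟨hn, hn', -, -⟩ := node_lt b
  obtain ⟨h1, h2, -, -⟩ := smp_pos b
  rcases le_or_gt 2 (b : ℕ) with hb | hb
  · rw [phiI_pair hq hK hb, phiP_up]
    exact mul_mem (xg_mem_genS g0 (S := Set.Ico E6Data.tab.N E6Data.tab.n) ⟨h1, hn⟩ _)
      (xg_mem_genS g0 (S := Set.Ico E6Data.tab.N E6Data.tab.n) ⟨h2, hn'⟩ _)
  · rw [phiI_mid hq hK hb, rh_up]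
    exact xg_mem_genS g0 (S := Set.Ico E6Data.tab.N E6Data.tab.n) ⟨h1, hn⟩ _

theorem low_neg (b : Fin 4) (t : F) : phiI hq hK b (low t) ∈ genS g0 F (Set.Iio E6Data.tab.N) := by
  obtain ⟨-, -, h1, h2⟩ := smp_pos b
  rcases le_or_gt 2 (b : ℕ) with hb | hb
  · rw [phiI_pair hq hK hb, phiP_low]
    exact mul_mem (xg_mem_genS g0 (S := Set.Iio E6Data.tab.N) h1 _)
      (xg_mem_genS g0 (S := Set.Iio E6Data.tab.N) h2 _)
  · rw [phiI_mid hq hK hb, rh_low]
    exact xg_mem_genS g0 (S := Set.Iio E6Data.tab.N) h1 _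

/-- a root pairing with the node and not with its partner -/
def sepRoot : Fin 4 → ℕ := ![71, 70, 45, 55]

theorem sepRoot_ok : ∀ b : Fin 4, sepRoot b < E6Data.tab.n ∧
    (E6Data.tab.A (midNode b) (sepRoot b) = 1 ∨ E6Data.tab.A (midNode b) (sepRoot b) = -1) ∧
    (2 ≤ (b : ℕ) → E6Data.tab.A (sndNode b) (sepRoot b) = 0) := by
  decide +kernel

theorem wt_diag (b : Fin 4) (u : Fˣ) {k : ℕ} (hk : 2 ≤ (b : ℕ) → E6Data.tab.A (sndNode b) k = 0) :
    wt E6Data.tab F (Pi.mulSingle (midNode b) u *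
      if 2 ≤ (b : ℕ) then Pi.mulSingle (sndNode b) (u ^ q) else 1) k =
      u ^ E6Data.tab.A (midNode b) k := by
  rw [wt_mul, wt_single g0 (node_lt b).2.2.1]
  split_ifs with h
  · rw [wt_single g0 (node_lt b).2.2.2, hk h, zpow_zero, mul_one]
  · simp [wt]

theorem phiI_injective (b : Fin 4) : Function.Injective (phiI hq hK b) := by
  refine SL2Img.injective_of _ (fun z c e => ?_) fun h => ?_
  · have h1 := pos_neg_one (up_pos hq hK b z) (low_neg hq hK b c) e
    rw [h1, ← SL2Pres.low_eq, map_mul, map_mul, map_inv, conj_eq_one_iff] at e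
    simpa using up_one hq hK b e
  · rw [phiI_diag, ← map_one (tor E6Data.tab F), tor_eq_iff_wt g0, div_one] at h
    obtain ⟨hk, hA, h0⟩ := sepRoot_ok b
    have h' := wt_one_of_simple g0 h _ hk
    rw [wt_diag b _ h0] at h'
    rcases hA with hA | hA <;> rw [hA] at h' <;> simp at h' <;> rw [h', map_one]

/-! ### the frame -/

/-- the frame -/
noncomputable abbrev fr : FrameN ↥(X hq hK).G1 4 := (X hq hK).frameN rfl

theorem R_param (i : Fin 4) {x : ↥(X hq hK).G1} (hx : x ∈ (fr hq hK).R i) :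
    ∃ t, (2 ≤ (i : ℕ) ∨ t ^ q = t) ∧ phiI hq hK i (up t) = (x : GL E6Data.tab.D.Idx F) := by
  have hx' : (x : GL E6Data.tab.D.Idx F) ∈ uMinus g0 F (wd i) := hx
  have hf := (twisted_fixed hq hK _ x.2).2
  rcases le_or_gt 2 (i : ℕ) with h | h
  · obtain ⟨t, e⟩ := fixed_pair hq hK ((node_block i).2 h) hx' hf
    exact ⟨t, Or.inl h, by rw [phiI_pair hq hK h, phiP_up, e]⟩
  · obtain ⟨t, ht, e⟩ := fixed_mid hq hK ((node_block i).1 h) hx' hf
    exact ⟨t, Or.inr ht, by rw [phiI_mid hq hK h, rh_up, e]⟩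

theorem R_one (i : Fin 4) : phiI hq hK i (up 1) ∈ ((fr hq hK).R i).map (X hq hK).G1.subtype := by
  have key : ∀ (y : GL E6Data.tab.D.Idx F), y ∈ tw F q → y ∈ uMinus g0 F (wd i) →
      y ∈ ((uMinus g0 F (wd i)).subgroupOf (X hq hK).G1).map (X hq hK).G1.subtype :=
    fun y h1 h2 => ⟨⟨y, h1⟩, h2, rfl⟩
  rcases le_or_gt 2 (i : ℕ) with h | h
  · rw [phiI_pair hq hK h, phiP_up]
    exact key _ (eP_mem (node_pair i h) 1) (eP_uMinus ((node_block i).2 h) 1)
  · rw [phiI_mid hq hK h, rh_up]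
    refine key _ (mid_mem (node_mid i h) (one_pow q)).1 (xg_mem_genS g0 ?_ _)
    have hd : ∀ b : Fin 4, (b : ℕ) < 2 → E6Data.tab.N ≤ E6Data.tab.smp (midNode b) ∧
        E6Data.tab.smp (midNode b) < E6Data.tab.n ∧
        E6Data.tab.rw' (wd b) (E6Data.tab.smp (midNode b)) < E6Data.tab.N := by decide +kernel
    exact hd i h

theorem phiI_n (i : Fin 4) :
    phiI hq hK i (wS F) = (((fr hq hK).n i : ↥(X hq hK).G1) : GL E6Data.tab.D.Idx F) :=
  phiI_wS hq hK i

theorem L_map (i : Fin 4) : ((fr hq hK).L i).map (X hq hK).G1.subtype =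
    ((fr hq hK).R i).map (X hq hK).G1.subtype ⊔
      (((fr hq hK).R i).map (X hq hK).G1.subtype).map (MulAut.conj (phiI hq hK i (wS F))).toMonoidHom := by
  rw [FrameN.L, Subgroup.map_sup, phiI_n, Subgroup.map_map, FrameN.R', Subgroup.map_map]
  rfl

theorem L_le (i : Fin 4) : ((fr hq hK).L i).map (X hq hK).G1.subtype ≤ (phiI hq hK i).range := by
  rw [L_map]
  refine SL2Img.le_range _ ?_
  rintro _ ⟨x, hx, rfl⟩
  obtain ⟨t, -, e⟩ := R_param hq hK i hx
  exact ⟨t, e⟩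

theorem n_mem_L (i : Fin 4) : (fr hq hK).n i ∈ (fr hq hK).L i := by
  rw [← Subgroup.mem_map_iff_mem (X hq hK).G1.subtype_injective, L_map]
  simp only [Subgroup.coe_subtype]
  rw [← phiI_n]
  exact SL2Img.refl_mem _ (R_one hq hK i)

include hq hK in
theorem T_norm (i : Fin 4) {t : ↥(X hq hK).G1} (ht : t ∈ (fr hq hK).T) :
    t ∈ Subgroup.normalizer ((fr hq hK).R i : Set ↥(X hq hK).G1) := by
  have h : (t : GL E6Data.tab.D.Idx F) ∈ E6Data.tab.D.diagonalSubgroup F := ht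
  rw [diagonalSubgroup_eq g0] at h
  obtain ⟨c, hc⟩ := h
  refine Subgroup.mem_normalizer_iff.2 fun z => ?_
  show (z : GL E6Data.tab.D.Idx F) ∈ uMinus g0 F (wd i) ↔
    ((t * z * t⁻¹ : ↥(X hq hK).G1) : GL E6Data.tab.D.Idx F) ∈ uMinus g0 F (wd i)
  rw [Subgroup.coe_mul, Subgroup.coe_mul, Subgroup.coe_inv, ← hc]
  exact Subgroup.mem_normalizer_iff.1 (tor_normalizes g0 (fun r hr => hr.2.1) c) _

theorem L_inf_T (i : Fin 4) {t : ↥(X hq hK).G1} (hL : t ∈ (fr hq hK).L i) (hT : t ∈ (fr hq hK).T) :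
    ∃ a : Fˣ, phiI hq hK i (diagS F a) = (t : GL E6Data.tab.D.Idx F) := by
  obtain ⟨γ, hγ⟩ := L_le hq hK i ⟨t, hL, rfl⟩
  obtain ⟨p, hp, ep⟩ := R_one hq hK i
  set n := (fr hq hK).n i with hn
  have hnval := phiI_n hq hK i
  have hnT : ∀ s ∈ (fr hq hK).T, n⁻¹ * s * n ∈ (fr hq hK).T := by
    intro s hs
    have hx : nWd g0 F (wd i) ∈ E6Data.tab.D.monomialSubgroup F :=
      (X hq hK).n_mem_monomial (show (i : ℕ) < 4 from i.isLt)
    set x := (nWd g0 F (wd i))⁻¹ with hxdef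
    have hx' : x ∈ E6Data.tab.D.monomialSubgroup F := inv_mem hx
    have hm : x * (s : GL E6Data.tab.D.Idx F) * x⁻¹ ∈ E6Data.tab.D.monomialSubgroup F :=
      mul_mem (mul_mem hx' (Subgroup.mem_sup_left hs)) (inv_mem hx')
    have hk : (⟨_, hm⟩ : ↥(E6Data.tab.D.monomialSubgroup F)) ∈ (toPerm g0 (F := F)).ker := by
      rw [show (⟨_, hm⟩ : ↥(E6Data.tab.D.monomialSubgroup F)) =
        ⟨x, hx'⟩ * ⟨s, Subgroup.mem_sup_left hs⟩ * ⟨x, hx'⟩⁻¹ from rfl]
      refine Subgroup.Normal.conj_mem (MonoidHom.normal_ker _) _ ?_ _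
      rw [toPerm_ker, Subgroup.mem_subgroupOf]; exact hs
    rw [toPerm_ker, Subgroup.mem_subgroupOf] at hk
    show ((n⁻¹ * s * n : ↥(X hq hK).G1) : GL E6Data.tab.D.Idx F) ∈ E6Data.tab.D.diagonalSubgroup F
    rw [Subgroup.coe_mul, Subgroup.coe_mul, Subgroup.coe_inv]
    show (nWd g0 F (wd i))⁻¹ * (s : GL E6Data.tab.D.Idx F) * nWd g0 F (wd i) ∈ _
    simpa [hxdef] using hk
  have hconj : ∀ s ∈ (fr hq hK).T,
      ∃ w, (s : GL E6Data.tab.D.Idx F) * phiI hq hK i (up 1) * (s : GL E6Data.tab.D.Idx F)⁻¹ =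
        phiI hq hK i (up w) := by
    intro s hs
    obtain ⟨w, -, hw⟩ := R_param hq hK i ((Subgroup.mem_normalizer_iff.1 (T_norm hq hK i hs) p).1 hp)
    refine ⟨w, ?_⟩
    rw [hw, ← ep]
    rfl
  obtain ⟨a, rfl⟩ := diag_of_norm _ (phiI_injective hq hK i) (γ := γ)
    (by rw [hγ]; exact hconj t hT) (by
      rw [hγ]
      obtain ⟨w, hw⟩ := hconj _ (hnT _ hT)
      have hlow : ∀ x : F, phiI hq hK i (low x) =
          (n : GL E6Data.tab.D.Idx F) * phiI hq hK i (up (-x)) * (n : GL E6Data.tab.D.Idx F)⁻¹ := fun x => by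
        rw [← SL2Pres.low_eq, map_mul, map_mul, map_inv, hnval]
      refine ⟨w * (1 : F), ?_⟩
      have hw' : (n : GL E6Data.tab.D.Idx F)⁻¹ * t * n * (phiI hq hK i (up 1))⁻¹ *
          ((n : GL E6Data.tab.D.Idx F)⁻¹ * t * n)⁻¹ = (phiI hq hK i (up w))⁻¹ := by
        rw [← hw]
        simp only [Subgroup.coe_mul, Subgroup.coe_inv]
        group
      have hup : ∀ x : F, (phiI hq hK i (up x))⁻¹ = phiI hq hK i (up (-x)) := fun x => by
        rw [← map_inv]
        congr 1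
        exact inv_eq_of_mul_eq_one_right (by rw [SL2Pres.up_add, add_neg_cancel, SL2Pres.up_zero])
      rw [mul_one, hlow 1, hlow w, ← hup, ← hup, ← hw']
      simp only [Subgroup.coe_subtype]
      group)
  exact ⟨a, hγ⟩

theorem rho_node : ∀ i : Fin 4, (i : ℕ) < 2 → E6Data.sym.ρ'.getD (midNode i) 0 = midNode i ∧
    ∀ j < 6, E6Data.sym.ρ'.getD j 0 = midNode i → j = midNode i := by
  decide +kernel

theorem mid_fixed {i : Fin 4} (h : (i : ℕ) < 2) {a : Fˣ} {t : ↥(X hq hK).G1}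
    (e : phiI hq hK i (diagS F a) = (t : GL E6Data.tab.D.Idx F)) : a ^ q = a := by
  have hf := (twisted_fixed hq hK _ t.2).2
  rw [← e, phiI_diag, if_neg h.not_ge, mul_one, sigma_tor, tor_eq_iff_wt g0] at hf
  obtain ⟨hk, hA, -⟩ := sepRoot_ok i
  have h' := wt_one_of_simple g0 hf _ hk
  have hr := rho_node i h
  have hfun : ∀ j < 6, ((fun j => ((Pi.mulSingle (midNode i) a : ℕ → Fˣ) (E6Data.sym.ρ'.getD j 0)) ^ q) /
      (Pi.mulSingle (midNode i) a : ℕ → Fˣ)) j = (Pi.mulSingle (midNode i) (a ^ q / a) : ℕ → Fˣ) j := by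
    intro j hj
    by_cases hji : j = midNode i
    · subst hji; rw [Pi.div_apply]; rw [hr.1, Pi.mulSingle_eq_same, Pi.mulSingle_eq_same]
    · have hne : E6Data.sym.ρ'.getD j 0 ≠ midNode i := fun e => hji (hr.2 j hj e)
      rw [Pi.div_apply, Pi.mulSingle_eq_of_ne hji, Pi.mulSingle_eq_of_ne hne, one_pow,
        Pi.mulSingle_eq_of_ne hji, div_one]
  rw [wt, show E6Data.tab.l = 6 from rfl,
    Finset.prod_congr rfl fun j hj => by rw [hfun j (Finset.mem_range.1 hj)]] at h'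
  change wt E6Data.tab F (Pi.mulSingle (midNode i) (a ^ q / a)) (sepRoot i) = 1 at h'
  rw [wt_single g0 (node_lt i).2.2.1] at h'
  rcases hA with hA | hA <;> rw [hA] at h' <;> simp [div_eq_one] at h' <;>
    first | exact h' | exact h'.symm

theorem braidOK : E6Data.tab.checkBraid wd (m := 4) (fun a b => CoxeterMatrix.F₄ a b) = true := by
  decide +kernel

theorem frame_ax {p e : ℕ} [Fact p.Prime] (hpe : q = p ^ e) :
    (fr hq hK).Axioms p CoxeterMatrix.F₄ :=
  (X hq hK).frameN_axioms (blocks hq hK) rfl braidOK (k := e * 36)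
    (by rw [pow_mul, ← hpe]; exact card_pos hq hK) hq.one_lt (d := 1) (hblk hq hK) cox
    (S := {x | ∃ w ∈ e6Words F q, x = (w.map fun e => xg g0 e.1 e.2).prod})
    (genSubgroup_eq g0 _) split (n_mem_L hq hK)

/-- Sylow subgroups of the rank one groups for other primes -/
theorem L_sylow {p r : ℕ} [Fact p.Prime] [CharP F p] (hr : r.Prime) (hrp : r ≠ p) (i : Fin 4)
    (P : Sylow r ((fr hq hK).L i)) :
    Cfsg.HasCyclicSchurMultiplier (P : Subgroup ((fr hq hK).L i)) 1 :=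
  SL2Img.mult_sylow (p := p) hr hrp (phiI hq hK i) (phiI_injective hq hK i)
    ((X hq hK).G1.subtype.comp ((fr hq hK).L i).subtype)
    ((X hq hK).G1.subtype_injective.comp ((fr hq hK).L i).subtype_injective)
    (by rw [MonoidHom.range_comp, Subgroup.range_subtype]; exact L_le hq hK i) P

include hq hK in
/-- the relations in the torus -/
theorem rel_bound (τ : ((i : Fin 4) → ↥((fr hq hK).L i ⊓ (fr hq hK).T)) →* ↥(X hq hK).G1)
    (hτ : ∀ i t, τ (Pi.mulSingle i t) = (t : ↥(X hq hK).G1)) :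
    Nat.card τ.ker ≤ Nat.gcd 3 (q + 1) := by
  have hex : ∀ i, ∀ t : ↥((fr hq hK).L i ⊓ (fr hq hK).T),
      ∃ a : Fˣ, phiI hq hK i (diagS F a) = ((t : ↥(X hq hK).G1) : GL E6Data.tab.D.Idx F) :=
    fun i t => L_inf_T hq hK i t.2.1 t.2.2
  choose a ha using hex
  have hm : ∀ i : Fin 4, (i : ℕ) < 2 → ∀ t, a i t ∈ (powMonoidHom (q - 1) : Fˣ →* Fˣ).ker :=
    fun i hi t => (TwField.fixed_iff hq.one_lt _).1
      (by simpa using congrArg Units.val (mid_fixed hq hK hi (ha i t)))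
  let par : ((i : Fin 4) → ↥((fr hq hK).L i ⊓ (fr hq hK).T)) → (Fˣ × Fˣ) ×
      ((powMonoidHom (q - 1) : Fˣ →* Fˣ).ker × (powMonoidHom (q - 1) : Fˣ →* Fˣ).ker) :=
    fun t => ((a 3 (t 3), a 2 (t 2)), (⟨a 0 (t 0), hm 0 (by decide) _⟩, ⟨a 1 (t 1), hm 1 (by decide) _⟩))
  have hpar : ∀ t, parHom F q (par t) = ((τ t : ↥(X hq hK).G1) : GL E6Data.tab.D.Idx F) := by
    intro t
    have e : t = Pi.mulSingle 0 (t 0) * Pi.mulSingle 1 (t 1) * Pi.mulSingle 2 (t 2) *
        Pi.mulSingle 3 (t 3) := by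
      funext i; fin_cases i <;> simp
    have e2 := congrArg τ e
    rw [τ.map_mul, τ.map_mul, τ.map_mul, hτ, hτ, hτ, hτ] at e2
    rw [e2, Subgroup.coe_mul, Subgroup.coe_mul, Subgroup.coe_mul, ← ha, ← ha, ← ha, ← ha]
    simp only [phiI_diag, ← map_mul]
    show tor E6Data.tab F (parFun q (par t)) = tor E6Data.tab F _
    refine tor_congr g0 fun j hj => ?_
    change j < 6 at hj
    interval_cases j <;> simp [parFun, par, midNode, sndNode]
  rw [← card_ker hq hK]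
  refine Nat.card_le_card_of_injective (fun t => (⟨par t.1, ?_⟩ : (parHom F q).ker)) ?_
  · rw [MonoidHom.mem_ker, hpar, MonoidHom.mem_ker.1 t.2]; rfl
  · intro s t h
    have h' : par s.1 = par t.1 := congrArg Subtype.val h
    simp only [par, Prod.mk.injEq, Subtype.mk.injEq] at h'
    refine Subtype.ext (funext fun i => Subtype.ext (Subtype.ext ?_))
    rw [← ha i, ← ha i]
    fin_cases i
    · exact congrArg _ (congrArg _ h'.2.1)
    · exact congrArg _ (congrArg _ h'.2.2)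
    · exact congrArg _ (congrArg _ h'.1.2)
    · exact congrArg _ (congrArg _ h'.1.1)

end Cfsg.Agent.Chev.TwE6
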