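import Cfsg.Agent.Lib.CentralSection.TwE6Rank

/-!
# Weights of the torus of `²E₆(q)`

The torus elements are powers of one element `x`, a generator of the units or one of norm one; the
weights are then `x ^ (α + q β)` and the pairs of layers are separated by a finite check.
-/

set_option autoImplicit false
set_option maxRecDepth 20000
set_option linter.unusedSectionVars false
set_option linter.style.haveILetI false

namespace Cfsg.Agent.Chev.TwE6

open Cfsg.Lie
open Tab
open Cfsg.Agent.CentralSection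

/-- representatives of the orbits of positive roots -/
def secReps : List ℕ :=
  [36, 37, 38, 39, 40, 41, 44, 45, 46, 47, 48, 49, 51, 52, 53, 54, 55, 60, 63, 65, 66, 69, 70, 71]

/-- the fixed roots -/
def longs : List ℕ := [39, 44, 46, 47, 51, 53, 60, 63, 65, 69, 70, 71]

/-- a torus element: norm one or a generator, and four exponents -/
structure TCert where
  /-- norm one -/
  z : Bool
  /-- at the pair of the outer nodes -/
  a : ℤ
  /-- at the pair of the inner nodes -/
  b : ℤ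
  /-- at the first fixed node -/
  u : ℤ
  /-- at the second fixed node -/
  v : ℤ

/-- the torus elements used -/
def certs : List TCert :=
  [⟨true, -1, -1, -2, -2⟩, ⟨false, -1, -2, -1, -2⟩, ⟨false, 0, 0, -1, -1⟩, ⟨false, -1, -1, -1, -1⟩,
   ⟨false, 0, 0, -1, 0⟩, ⟨false, 0, -1, 0, 0⟩, ⟨true, -2, -1, -2, -2⟩, ⟨false, -1, -2, -2, -1⟩]

/-- the exponents at a root -/
def TCert.expo (c : TCert) (k : ℕ) : ℤ × ℤ :=
  (E6Data.tab.A 0 k * c.a + E6Data.tab.A 2 k * c.b + E6Data.tab.A 1 k * c.u + E6Data.tab.A 3 k * c.v,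
   E6Data.tab.A 5 k * c.a + E6Data.tab.A 4 k * c.b + E6Data.tab.A 1 k * c.u + E6Data.tab.A 3 k * c.v)

/-- the weight is trivial -/
def TCert.one (c : TCert) (k : ℕ) : Bool :=
  if c.z then (c.expo k).1 == (c.expo k).2 else (c.expo k).1 == 0 && (c.expo k).2 == 0

/-- the weight is not trivial -/
def TCert.good (c : TCert) (k : ℕ) : Bool :=
  if c.z then Nat.ble 1 ((c.expo k).1 - (c.expo k).2).natAbs &&
      Nat.ble ((c.expo k).1 - (c.expo k).2).natAbs 3
    else !((c.expo k).1 == 0 && (c.expo k).2 == 0) &&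
      ((Nat.ble (c.expo k).1.natAbs 1 && Nat.ble (c.expo k).2.natAbs 2) ||
        (Nat.ble (c.expo k).1.natAbs 2 && Nat.ble (c.expo k).2.natAbs 1))

/-- the weight has full order -/
def TCert.full (c : TCert) (k : ℕ) : Bool :=
  !c.z && Nat.beq ((c.expo k).1.natAbs + (c.expo k).2.natAbs) 1

/-- the finite check -/
def checkW : Bool :=
  secReps.all fun k => certs.any (fun c => c.good k) && secReps.all fun j =>
    if Nat.beq j k then longs.elem k || certs.any (fun c => c.full k)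
    else certs.any fun c => (c.one j && c.good k) || (c.good j && c.one k)

theorem checkW_ok : checkW = true := by decide +kernel

variable {F : Type*} [Field F]

/-- the parameters -/
def TCert.par (c : TCert) (q : ℕ) (x : Fˣ) : ℕ → Fˣ
  | 0 => x ^ c.a
  | 1 => (x ^ (q + 1)) ^ c.u
  | 2 => x ^ c.b
  | 3 => (x ^ (q + 1)) ^ c.v
  | 4 => (x ^ c.b) ^ q
  | 5 => (x ^ c.a) ^ q
  | _ => 1

theorem TCert.wt_eq (c : TCert) (q : ℕ) (x : Fˣ) (k : ℕ) :
    wt E6Data.tab F (c.par q x) k = x ^ ((c.expo k).1 + q * (c.expo k).2) := by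
  simp only [wt, show E6Data.tab.l = 6 from rfl, Finset.prod_range_succ, Finset.prod_range_zero,
    one_mul, TCert.par, ← zpow_natCast, ← zpow_mul, ← zpow_add, TCert.expo]
  congr 1
  push_cast
  ring

variable [Fintype F] {q : ℕ} (hq : IsPrimePow q) (hK : Fintype.card F = q ^ 2)

include hq hK in
theorem TCert.par_mem (c : TCert) (x : Fˣ) : tor E6Data.tab F (c.par q x) ∈ tw F q := by
  have h2 : ∀ y : Fˣ, (y ^ q) ^ q = y := fun y => Units.ext (by
    simpa using pow_two_q hK (y : F))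
  refine fix_mem hq hK ⟨?_, ?_, rfl, h2 _, rfl, h2 _⟩ <;>
  · simp only [TCert.par]
    rw [← zpow_natCast ((x ^ (q + 1)) ^ _) q, ← zpow_mul, mul_comm, zpow_mul, zpow_natCast]
    congr 1
    rw [← pow_mul, add_one_mul, pow_add, pow_mul, h2, pow_succ', mul_comm]

/-- the element used by a certificate -/
def TCert.base (c : TCert) (q : ℕ) (g : Fˣ) : Fˣ := if c.z then g ^ (q - 1) else g

include hK in
theorem exists_gen : ∃ g : Fˣ, orderOf g = q ^ 2 - 1 := by
  obtain ⟨g, hg⟩ := IsCyclic.exists_ofOrder_eq_natCard (α := Fˣ)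
  exact ⟨g, hg.trans (TwField.card_units hK)⟩

omit [Fintype F] in
theorem zpow_ne {g : Fˣ} {N : ℕ} (hg : orderOf g = N) {e : ℤ} (h0 : e ≠ 0) (hlt : e.natAbs < N) :
    g ^ e ≠ 1 := by
  intro h
  have hd : N ∣ e.natAbs := Int.natCast_dvd.1 (hg ▸ orderOf_dvd_iff_zpow_eq_one.2 h)
  have := Nat.le_of_dvd (Int.natAbs_pos.2 h0) hd
  omega

include hq in
omit [Fintype F] in
theorem base_order (hq3 : 3 ≤ q) {g : Fˣ} (hg : orderOf g = q ^ 2 - 1) :
    orderOf (g ^ (q - 1)) = q + 1 := by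
  rw [orderOf_pow' g (by omega), hg, show q ^ 2 - 1 = (q + 1) * (q - 1) by
    rw [← Nat.sq_sub_sq, one_pow], Nat.gcd_eq_right (dvd_mul_left _ _),
    Nat.mul_div_cancel _ (by omega)]

include hq in
omit [Fintype F] in
theorem one_wt (hq3 : 3 ≤ q) {g : Fˣ} (hg : orderOf g = q ^ 2 - 1) {c : TCert} {k : ℕ}
    (h : c.one k = true) : wt E6Data.tab F (c.par q (c.base q g)) k = 1 := by
  rw [c.wt_eq]
  unfold TCert.one at h
  unfold TCert.base
  split_ifs at h ⊢ with hz
  · rw [beq_iff_eq] at h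
    rw [h, show (c.expo k).2 + (q : ℤ) * (c.expo k).2 = ((q + 1 : ℕ) : ℤ) * (c.expo k).2 by
      push_cast; ring, zpow_mul, zpow_natCast, ← base_order hq hq3 hg, pow_orderOf_eq_one, one_zpow]
  · simp only [Bool.and_eq_true, beq_iff_eq] at h
    rw [h.1, h.2, mul_zero, add_zero, zpow_zero]

include hq in
omit [Fintype F] in
theorem good_wt (hq3 : 3 ≤ q) {g : Fˣ} (hg : orderOf g = q ^ 2 - 1) {c : TCert} {k : ℕ}
    (h : c.good k = true) : wt E6Data.tab F (c.par q (c.base q g)) k ≠ 1 := by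
  rw [c.wt_eq]
  unfold TCert.good at h
  unfold TCert.base
  split_ifs at h ⊢ with hz
  · simp only [Bool.and_eq_true, Nat.ble_eq] at h
    set α := (c.expo k).1
    set β := (c.expo k).2
    rw [show α + (q : ℤ) * β = (α - β) + ((q + 1 : ℕ) : ℤ) * β by push_cast; ring, zpow_add,
      zpow_mul, zpow_natCast, show (g ^ (q - 1)) ^ (q + 1) = 1 from
        base_order hq hq3 hg ▸ pow_orderOf_eq_one _, one_zpow, mul_one]
    exact zpow_ne (base_order hq hq3 hg) (by omega) (by omega)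
  · simp only [Bool.and_eq_true, Bool.or_eq_true, Nat.ble_eq, Bool.not_eq_true', Bool.and_eq_false_iff,
      beq_eq_false_iff_ne] at h
    set α := (c.expo k).1
    set β := (c.expo k).2
    have hQ : (3 : ℤ) ≤ q := by exact_mod_cast hq3
    have hcast : ((q ^ 2 - 1 : ℕ) : ℤ) = (q : ℤ) ^ 2 - 1 := by
      rw [Nat.cast_sub (Nat.one_le_pow 2 q (by omega))]; push_cast; ring
    refine zpow_ne hg ?_ ?_
    · intro e
      obtain ⟨h0, hs⟩ := h
      rcases eq_or_ne β 0 with hb | hb
      · simp only [hb, mul_zero, add_zero] at e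
        rcases h0 with h0 | h0 <;> exact h0 (by assumption)
      · have hbq : (q : ℤ) ≤ |(q : ℤ) * β| := by
          rw [abs_mul, abs_of_nonneg (by omega : (0 : ℤ) ≤ q)]
          exact le_mul_of_one_le_right (by omega) (Int.one_le_abs hb)
        have : |(q : ℤ) * β| = |α| := by rw [show α = -((q : ℤ) * β) by omega, abs_neg]
        have ha : |α| ≤ 2 := by rw [Int.abs_eq_natAbs]; rcases hs with ⟨a, b⟩ | ⟨a, b⟩ <;> omega
        omega
    · rw [← Int.ofNat_lt, Int.natCast_natAbs, hcast, abs_lt]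
      obtain ⟨-, hs⟩ := h
      rcases hs with ⟨a, b⟩ | ⟨a, b⟩
      · have h1 : -1 ≤ α ∧ α ≤ 1 ∧ -2 ≤ β ∧ β ≤ 2 := by omega
        constructor <;> nlinarith
      · have h1 : -2 ≤ α ∧ α ≤ 2 ∧ -1 ≤ β ∧ β ≤ 1 := by omega
        constructor <;> nlinarith

include hq hK in
theorem weights_free (hq3 : 3 ≤ q) : ∀ k ∈ secReps,
    ∃ c, tor E6Data.tab F c ∈ tw F q ∧ wt E6Data.tab F c k ≠ 1 := by
  obtain ⟨g, hg⟩ := exists_gen hK
  intro k hk
  have h := checkW_ok
  simp only [checkW, List.all_eq_true, Bool.and_eq_true, List.any_eq_true] at h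
  obtain ⟨c, -, hc⟩ := (h k hk).1
  exact ⟨_, c.par_mem hq hK _, good_wt hq hq3 hg hc⟩

include hq hK in
theorem weights_pair {p f : ℕ} (hp : p.Prime) (hqp : q = p ^ f) (hq3 : 3 ≤ q) :
    ∀ k ∈ secReps, ∀ j ∈ secReps, j ≤ k →
      (∃ c, tor E6Data.tab F c ∈ tw F q ∧
        ∀ i < 2 * f, wt E6Data.tab F c j * wt E6Data.tab F c k ^ p ^ i ≠ 1) ∨
      (j = k ∧ k ∈ longs) := by
  obtain ⟨g, hg⟩ := exists_gen hK
  have hf : f ≠ 0 := fun h => by rw [h, pow_zero] at hqp; omega
  have hinj : ∀ (z : Fˣ) (i : ℕ), z ^ p ^ i = 1 → z = 1 := fun z i h => by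
    have hd := orderOf_dvd_of_pow_eq_one h
    have hd' : orderOf z ∣ q ^ 2 - 1 := TwField.card_units (K := F) hK ▸ orderOf_dvd_natCard z
    have hco : Nat.Coprime (p ^ i) (q ^ 2 - 1) := by
      refine Nat.Coprime.pow_left i ((Nat.Prime.coprime_iff_not_dvd hp).2 fun h2 => ?_)
      have h3 : p ∣ q ^ 2 := dvd_pow (hqp ▸ dvd_pow_self p hf) (by norm_num)
      have := Nat.dvd_sub h3 h2
      rw [Nat.sub_sub_self (Nat.one_le_pow 2 q hq.pos)] at this
      exact hp.not_dvd_one this
    rw [← orderOf_eq_one_iff]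
    exact Nat.eq_one_of_dvd_coprimes hco hd hd'
  intro k hk j hj _
  have h := checkW_ok
  simp only [checkW, List.all_eq_true, Bool.and_eq_true, List.any_eq_true] at h
  have h' := (h k hk).2 j hj
  by_cases hjk : j = k
  · subst hjk
    rw [if_pos (Nat.beq_refl j)] at h'
    simp only [Bool.or_eq_true, List.any_eq_true, List.elem_eq_mem, decide_eq_true_eq] at h'
    rcases h' with h' | ⟨c, -, hc⟩
    · exact Or.inr ⟨rfl, h'⟩
    refine Or.inl ⟨_, c.par_mem hq hK (c.base q g), fun i hi e => ?_⟩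
    simp only [TCert.full, Bool.and_eq_true, Bool.not_eq_true', nat_beq] at hc
    obtain ⟨hz, hu⟩ := hc
    rw [c.wt_eq, TCert.base, hz, if_neg Bool.false_ne_true] at e
    set α := (c.expo j).1
    set β := (c.expo j).2
    have hcases : (α = 0 ∧ (β = 1 ∨ β = -1)) ∨ (β = 0 ∧ (α = 1 ∨ α = -1)) := by omega
    have e' : g ^ (1 + p ^ i) = 1 ∨ (g ^ q) ^ (1 + p ^ i) = 1 := by
      rcases hcases with ⟨ha, hb | hb⟩ | ⟨hb, ha | ha⟩ <;>
        simp only [ha, hb, mul_one, mul_neg, mul_zero, zero_add, add_zero, zpow_natCast, zpow_neg,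
          zpow_one, ← inv_pow] at e
      · exact Or.inr (by rw [pow_add, pow_one]; exact e)
      · refine Or.inr ?_
        rw [← inv_eq_one, ← inv_pow, ← inv_pow, pow_add, pow_one]; exact e
      · exact Or.inl (by rw [pow_add, pow_one]; exact e)
      · refine Or.inl ?_
        rw [← inv_eq_one, ← inv_pow, pow_add, pow_one]; exact e
    have e1 : g ^ (1 + p ^ i) = 1 := by
      rcases e' with e' | e'
      · exact e'
      · have hgg : g ^ (q * q) = g := Units.ext (by
          rw [Units.val_pow_eq_pow_val, pow_mul]; exact pow_two_q hK _)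
        rw [← hgg, ← pow_mul, show q * q * (1 + p ^ i) = q * (1 + p ^ i) * q by ring, pow_mul,
          pow_mul, e', one_pow]
    have hd := Nat.le_of_dvd (by positivity) (orderOf_dvd_of_pow_eq_one e1)
    rw [hg] at hd
    have h2 : 2 * p ^ i ≤ q ^ 2 := by
      calc 2 * p ^ i ≤ p * p ^ i := Nat.mul_le_mul_right _ hp.two_le
        _ = p ^ (i + 1) := by rw [pow_succ']
        _ ≤ p ^ (2 * f) := Nat.pow_le_pow_right hp.pos (by omega)
        _ = q ^ 2 := by rw [hqp, ← pow_mul, mul_comm]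
    have : 9 ≤ q ^ 2 := by nlinarith
    omega
  · rw [if_neg (fun e => hjk (Nat.eq_of_beq_eq_true e))] at h'
    simp only [List.any_eq_true, Bool.or_eq_true, Bool.and_eq_true] at h'
    obtain ⟨c, -, ⟨h1, h2⟩ | ⟨h1, h2⟩⟩ := h'
    · refine Or.inl ⟨_, c.par_mem hq hK (c.base q g), fun i _ e => ?_⟩
      rw [one_wt hq hq3 hg h1, one_mul] at e
      exact good_wt hq hq3 hg h2 (hinj _ i e)
    · refine Or.inl ⟨_, c.par_mem hq hK (c.base q g), fun i _ e => ?_⟩
      rw [one_wt hq hq3 hg h2, one_pow, mul_one] at e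
      exact good_wt hq hq3 hg h1 e

end Cfsg.Agent.Chev.TwE6
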