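import Cfsg.Agent.Lib.CentralSection.TwF4Special
import Cfsg.Agent.Lib.CentralSection.TwBlock
import Cfsg.Agent.Lib.CentralSection.RankOne

/-!
# The multiplier of `²F₄(2^(2m+1))`

The rank one groups act on blocks of two and four coordinates of the adjoint module with determinant
one, which makes their tori cyclic and independent and their odd Sylow subgroups cyclic.
-/

set_option autoImplicit false
set_option maxRecDepth 20000
set_option linter.unusedSectionVars false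
set_option linter.style.haveILetI false

namespace Cfsg.Agent.Chev.TwF4

open Cfsg.Lie
open Tab
open Cfsg.Agent.CentralSection

variable {F : Type*} [Field F] [CharP F 2] [Fintype F] {m : ℕ} (hK : Fintype.card F = 2 ^ (2 * m + 1))

/-- the frame -/
noncomputable abbrev fr : Frame ↥(X hK).G1 := (X hK).frame rfl 4

theorem dihOK : F4Data.tab.checkDih wd 4 = true := by decide +kernel

theorem wd1_conj : F4Data.tab.rw' (wd 0) 33 = 14 ∧ F4Data.tab.rw' (wd 0) 24 = 23 ∧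
    F4Data.tab.rw' (wd 1) 28 = 19 ∧ F4Data.tab.rw' (wd 1) 30 = 17 ∧
    (∀ r ∈ [24, 33, 28, 30], r < F4Data.tab.n) := by
  decide +kernel

theorem nWd_conj2 {b r : ℕ} (hr : r < F4Data.tab.n) (t : F) :
    nWd g0 F (wd b) * xg g0 r t * (nWd g0 F (wd b))⁻¹ = xg g0 (F4Data.tab.rw' (wd b) r) t := by
  obtain ⟨ε, hε, h⟩ := nWd_conj (F := F) g0 (wd_wd b) hr
  have e1 : (ε : F) = 1 := by
    have : (ε : F) * ε = 1 := by rw [← Units.val_mul, hε, Units.val_one]
    rcases mul_self_eq_one_iff.1 this with h | h <;> simp [h, CharTwo.neg_eq]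
  rw [(h t).1, e1, one_mul]

theorem fr_n_val (i : Fin 2) : (((fr hK).n i : ↥(X hK).G1) : GL F4Data.tab.D.Idx F) = nWd g0 F (wd i) := rfl

theorem n_mem_L : ∀ i, (fr hK).n i ∈ (fr hK).L i := by
  obtain ⟨c33, c24, c28, c30, hlt⟩ := wd1_conj
  have hR' : ∀ (i : Fin 2) (p : ↥(X hK).G1), p ∈ (fr hK).R i →
      (fr hK).n i * p * ((fr hK).n i)⁻¹ ∈ (fr hK).L i := fun i p hp =>
    Subgroup.mem_sup_right ⟨p, hp, rfl⟩
  rw [Fin.forall_fin_two]
  constructor
  · set p : ↥(X hK).G1 := ⟨eP m 1, (eP_mem 1).2⟩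
    have hp : p ∈ (fr hK).R 0 := (eP_mem (F := F) (m := m) 1).1
    have hR : p ∈ (fr hK).L 0 := Subgroup.mem_sup_left hp
    have e : (fr hK).n 0 = p * ((fr hK).n 0 * p * ((fr hK).n 0)⁻¹) * p := by
      refine Subtype.ext ?_
      simp only [Subgroup.coe_mul, Subgroup.coe_inv, fr_n_val, p, eP_word, one_pow, Fin.val_zero]
      set n := nWd g0 F (wd 0) with hn
      have h1 : n * (xg g0 33 1 * xg g0 24 1) * n⁻¹ = xg g0 14 (1 : F) * xg g0 23 1 := by
        rw [← c33, ← c24, ← nWd_conj2 (hlt 33 (by simp)), ← nWd_conj2 (hlt 24 (by simp)), ← hn]; group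
      rw [h1, hn, nWd_word g0, word_eq_modP g0 2 (w := F4Data.tab.nWord (wd 0))
        (w' := [(33, 1), (24, 1), (14, 1), (23, 1), (33, 1), (24, 1)]) (by decide +kernel)]
      simp [cWordVal, mul_assoc]
    rw [e]
    exact mul_mem (mul_mem hR (hR' 0 p hp)) hR
  · set p : ↥(X hK).G1 := ⟨_, (bU_mem (F := F) (m := m) 0 1).2⟩
    have hp : p ∈ (fr hK).R 1 := (bU_mem (F := F) (m := m) 0 1).1
    have hR : p ∈ (fr hK).L 1 := Subgroup.mem_sup_left hp
    have e : (fr hK).n 1 = p * ((fr hK).n 1 * p * ((fr hK).n 1)⁻¹) * p *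
        ((fr hK).n 1 * p * ((fr hK).n 1)⁻¹) * p := by
      refine Subtype.ext ?_
      simp only [Subgroup.coe_mul, Subgroup.coe_inv, fr_n_val, p, bU_zero, one_pow, Fin.val_one]
      set n := nWd g0 F (wd 1) with hn
      have h1 : n * (xg g0 28 1 * xg g0 30 1) * n⁻¹ = xg g0 19 (1 : F) * xg g0 17 1 := by
        rw [← c28, ← c30, ← nWd_conj2 (hlt 28 (by simp)), ← nWd_conj2 (hlt 30 (by simp)), ← hn]; group
      rw [h1, hn, nWd_word g0, ← word_eq_modP g0 2 nWord1OK]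
      simp [nWord1, cWordVal, mul_assoc]
    rw [e]
    exact mul_mem (mul_mem (mul_mem (mul_mem hR (hR' 1 p hp)) hR) (hR' 1 p hp)) hR

/-- the two coefficients cutting out the block -/
def blkK (i : Fin 2) : ℕ × ℕ := if i = 0 then (1, 2) else (0, 3)

/-- half the size of the block -/
def blkD (i : Fin 2) : ℕ := if i = 0 then 1 else 2

/-- the roots of the block -/
def blkR (i : Fin 2) : List ℕ := if i = 0 then [27, 34] else [33, 34, 35, 37]

theorem blkR_lt (i : Fin 2) (j : Fin (2 * blkD i)) : (blkR i).getD j 0 < F4Data.tab.D.nroots := by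
  revert j; revert i; decide +kernel

/-- the coordinates of the block -/
def blkE (i : Fin 2) (j : Fin (2 * blkD i)) : F4Data.tab.D.Idx :=
  Sum.inr ⟨(blkR i).getD j 0, blkR_lt i j⟩

theorem blkOK' : ∀ i : Fin 2,
    (∀ a b : Fin (2 * blkD i), blkE i a = blkE i b → a = b) ∧
    (∀ j : Fin (2 * blkD i), ∀ a : F4Data.tab.D.Idx, (∀ j', blkE i j' ≠ a) →
      F4Data.tab.levK [[2, 3, 4, 2], [3, 6, 8, 4], [2, 4, 6, 3], [1, 2, 3, 2]] (blkK i).1 (blkE i j) ≠
        F4Data.tab.levK [[2, 3, 4, 2], [3, 6, 8, 4], [2, 4, 6, 3], [1, 2, 3, 2]] (blkK i).1 a ∨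
      F4Data.tab.levK [[2, 3, 4, 2], [3, 6, 8, 4], [2, 4, 6, 3], [1, 2, 3, 2]] (blkK i).2 (blkE i j) ≠
        F4Data.tab.levK [[2, 3, 4, 2], [3, 6, 8, 4], [2, 4, 6, 3], [1, 2, 3, 2]] (blkK i).2 a) ∧
    (blkK i).1 < F4Data.tab.l ∧ (blkK i).2 < F4Data.tab.l ∧
    (∀ j ∈ wd i, j ≠ (blkK i).1 ∧ j ≠ (blkK i).2) ∧
    (∀ r ∈ (if i = 0 then [24, 33] else [25, 27, 28, 30] : List ℕ),
      F4Data.tab.c r (blkK i).1 = 0 ∧ F4Data.tab.c r (blkK i).2 = 0) ∧
    (∃ a b : Fin (2 * blkD i), F4Data.tab.code (blkE i a) = F4Data.tab.l +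
        F4Data.tab.rw' (wd i) ((blkR i).getD b 0) ∧
      F4Data.tab.rho (blkE i a) < F4Data.tab.rho (blkE i b)) := by
  decide +kernel

theorem inv_list (i : Fin 2) :
    F4Data.tab.invSet (wd i) = (if i = 0 then [24, 33] else [25, 27, 28, 30] : List ℕ).toFinset := by
  revert i
  rw [Fin.forall_fin_two]
  exact ⟨inv0, inv1⟩

theorem L_levi (i : Fin 2) {k : ℕ} (hk : k = (blkK i).1 ∨ k = (blkK i).2) :
    ((fr hK).L i).map (X hK).G1.subtype ≤ leviK gW.toGoodK F k := by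
  obtain ⟨-, -, -, -, hw, hr, -⟩ := blkOK' i
  have hjk : ∀ j ∈ wd i, j ≠ k := fun j hj => by rcases hk with rfl | rfl; exacts [(hw j hj).1, (hw j hj).2]
  have hR : ∀ y ∈ (fr hK).R i, (y : GL F4Data.tab.D.Idx F) ∈ leviK gW.toGoodK F k := by
    intro y hy
    refine Subgroup.mem_sup_right (genS_mono g0 ?_ (show (y : GL F4Data.tab.D.Idx F) ∈ uMinus g0 F (wd i) from hy))
    rintro r ⟨h1, h2, h3⟩
    refine ⟨h2, fun k' _ hk' => ?_⟩
    have hmem : r ∈ F4Data.tab.invSet (wd i) := by simp [invSet, h1, h2, h3]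
    rw [inv_list, List.mem_toFinset] at hmem
    have e : k' = k := by by_contra h; exact hk' h
    subst e
    rcases hk with rfl | rfl
    exacts [(hr r hmem).1, (hr r hmem).2]
  have hn : nWd g0 F (wd i) ∈ leviK gW.toGoodK F k := Subgroup.list_prod_mem _ fun y hy => by
    obtain ⟨j, hj, rfl⟩ := List.mem_map.1 hy
    have h1 := smp_mem_inJ (J := {i | i ≠ k}) g0 (wd_wd i j hj) (hjk j hj)
    refine Subgroup.mem_sup_right ?_
    rw [show nG g0 F j = nE g0 (F4Data.tab.smp j) (1 : F) by simp [nG, nE], nE]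
    exact mul_mem (mul_mem (xg_mem_genS g0 h1 _) (xg_mem_genS g0 (inJ_neg g0 h1) _)) (xg_mem_genS g0 h1 _)
  rw [Frame.L, Subgroup.map_sup]
  refine sup_le ?_ ?_
  · rintro _ ⟨y, hy, rfl⟩
    exact hR y hy
  · rintro _ ⟨_, ⟨y, hy, rfl⟩, rfl⟩
    exact mul_mem (mul_mem hn (hR y hy)) (inv_mem hn)

/-- the representation on the block -/
noncomputable def rho1 (i : Fin 2) : (fr hK).L i →* GL (Fin (2 * blkD i)) F :=
  (blockHom gW.toGoodK (blkOK' i).2.2.1 (blkOK' i).2.2.2.1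
    (le_inf (L_levi hK i (Or.inl rfl)) (L_levi hK i (Or.inr rfl))) (blkE i)
    (fun a b h => (blkOK' i).1 a b h)
    (fun j a ha => (blkOK' i).2.1 j a fun j' e => ha ⟨j', e⟩)).comp
    (((fr hK).L i).equivMapOfInjective (X hK).G1.subtype (X hK).G1.subtype_injective).toMonoidHom

theorem rho1_apply (i : Fin 2) (x : (fr hK).L i) (a b : Fin (2 * blkD i)) :
    (rho1 hK i x : Matrix (Fin (2 * blkD i)) (Fin (2 * blkD i)) F) a b =
      (((x : ↥(X hK).G1) : GL F4Data.tab.D.Idx F) : Matrix F4Data.tab.D.Idx F4Data.tab.D.Idx F)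
        (blkE i a) (blkE i b) := rfl

include hK in
theorem exists_parF {x : ↥(X hK).G1} (hx : x ∈ (fr hK).T) :
    ∃ p : Fˣ × Fˣ, (x : GL F4Data.tab.D.Idx F) = tor F4Data.tab F (par m p) := by
  obtain ⟨c, hc⟩ := (X hK).exists_par hx
  have hfix := (twisted_fixed hK _ x.2).2
  rw [← hc, sigma_tor] at hfix
  have h := tor_inj hfix
  have h0 := h 0 (by norm_num)
  have h1 := h 1 (by norm_num)
  simp [F4Data.isog] at h0 h1
  refine ⟨(c 3, c 2), hc.symm.trans (tor_congr g0 fun j hj => ?_)⟩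
  change j < 4 at hj
  interval_cases j <;> simp [par, h0, h1]

theorem det_one (i : Fin 2) (x : (fr hK).L i) : Matrix.GeneralLinearGroup.det (rho1 hK i x) = 1 := by
  let χ : (fr hK).L i →* Fˣ := Matrix.GeneralLinearGroup.det.comp (rho1 hK i)
  have hodd : Nat.Coprime 2 (Nat.card Fˣ) := by
    rw [TwField.card_units (q := 2 ^ (2 * m + 1)) (k := 1) (by rw [hK, pow_one]), pow_one,
      Nat.prime_two.coprime_iff_not_dvd]
    have : 2 ∣ 2 ^ (2 * m + 1) := dvd_pow_self 2 (by omega)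
    have := Nat.one_le_two_pow (n := 2 * m + 1)
    omega
  have hpow : ∀ y : (fr hK).L i, (∃ k, y ^ 2 ^ k = 1) → χ y = 1 := by
    rintro y ⟨k, hk⟩
    rw [← orderOf_eq_one_iff]
    exact Nat.eq_one_of_dvd_coprimes (hodd.pow_left k)
      (orderOf_dvd_of_pow_eq_one (by rw [← map_pow, hk, map_one])) (orderOf_dvd_natCard _)
  have hU : ∀ y ∈ (fr hK).R i, ∃ k, y ^ 2 ^ k = 1 := by
    intro y hy
    have hp : IsPGroup 2 (fr hK).U := by
      refine IsPGroup.of_card (n := (2 * m + 1) * 12) ?_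
      rw [pow_mul, ← card_pos hK, posUnipotent_eq g0, show (fr hK).U =
        (genS g0 F (Set.Ico F4Data.tab.N F4Data.tab.n)).subgroupOf (X hK).G1 from rfl,
        ← Subgroup.inf_subgroupOf_right]
      exact Nat.card_congr (Subgroup.subgroupOfEquivOfLe inf_le_right).toEquiv
    obtain ⟨k, hk⟩ := hp ⟨y, uMinus_le_pos g0 (wd i) hy⟩
    exact ⟨k, congrArg Subtype.val hk⟩
  have hle : (fr hK).L i ≤ (χ.ker).map ((fr hK).L i).subtype := by
    refine sup_le (fun y hy => ?_) ?_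
    · obtain ⟨k, hk⟩ := hU y hy
      exact ⟨⟨y, Subgroup.mem_sup_left hy⟩, hpow _ ⟨k, Subtype.ext (by simpa using hk)⟩, rfl⟩
    · rintro _ ⟨y, hy, rfl⟩
      obtain ⟨k, hk⟩ := hU y hy
      refine ⟨⟨_, Subgroup.mem_sup_right ⟨y, hy, rfl⟩⟩, hpow _ ⟨k, Subtype.ext ?_⟩, rfl⟩
      rw [SubgroupClass.coe_pow]
      simp [conj_pow, hk]
  obtain ⟨y, hy, e⟩ := hle x.2
  rw [show y = x from Subtype.ext e] at hy
  exact hy

theorem det_tor (i : Fin 2) {x : ↥(X hK).G1} (hxL : x ∈ (fr hK).L i) {p : Fˣ × Fˣ}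
    (e : (x : GL F4Data.tab.D.Idx F) = tor F4Data.tab F (par m p)) :
    ∏ j : Fin (2 * blkD i), wt F4Data.tab F (par m p) ((blkR i).getD j 0) = 1 := by
  refine Units.ext ?_
  have h := congrArg Units.val (det_one hK i ⟨x, hxL⟩)
  rw [Matrix.GeneralLinearGroup.val_det_apply, Units.val_one] at h
  rw [Units.val_one, ← h, Units.coe_prod]
  rw [show (rho1 hK i ⟨x, hxL⟩ : Matrix (Fin (2 * blkD i)) (Fin (2 * blkD i)) F) =
      Matrix.diagonal fun j : Fin (2 * blkD i) => (wt F4Data.tab F (par m p) ((blkR i).getD j 0) : F) from ?_,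
    Matrix.det_diagonal]
  ext a b
  rw [rho1_apply, e]
  by_cases hab : a = b
  · subst hab
    rw [Matrix.diagonal_apply_eq, tor_entry g0 _ (s := (blkR i).getD a 0) rfl]
  · rw [Matrix.diagonal_apply_ne _ hab, tor_apply_ne _ fun h => hab ((blkOK' i).1 a b h)]

theorem blkA : ∀ i : Fin 2, ∀ j < 4,
    ∑ a : Fin (2 * blkD i), F4Data.tab.A j ((blkR i).getD a 0) =
      (if i = 0 then [0, 3, -2, 0] else [4, 0, 0, -2] : List ℤ).getD j 0 := by
  decide +kernel

theorem zpow_sum' {ι α : Type*} [CommGroup α] (a : α) (s : Finset ι) (f : ι → ℤ) :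
    a ^ (∑ i ∈ s, f i) = ∏ i ∈ s, a ^ f i := by
  induction s using Finset.cons_induction with
  | empty => simp
  | cons i s hi ih => rw [Finset.sum_cons, Finset.prod_cons, zpow_add, ih]

include hK in
/-- the product of the weights of a block -/
theorem blk_prod (i : Fin 2) (p : Fˣ × Fˣ) :
    ∏ a : Fin (2 * blkD i), wt F4Data.tab F (par m p) ((blkR i).getD a 0) =
      if i = 0 then p.2 ^ (3 * 2 ^ m) * (p.2 ^ 2)⁻¹ else p.1 ^ (4 * 2 ^ m) * (p.1 ^ 2)⁻¹ := by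
  simp only [wt]
  rw [Finset.prod_comm, Finset.prod_congr rfl fun j hj => by
    rw [← zpow_sum', blkA i j (Finset.mem_range.1 hj)]]
  rw [show F4Data.tab.l = 4 from rfl]
  revert i
  rw [Fin.forall_fin_two]
  constructor <;>
  simp [Finset.prod_range_succ, par, ← pow_mul, mul_comm, zpow_ofNat]

include hK in
theorem fix_theta (u : Fˣ) : u ^ (2 * 2 ^ m * 2 ^ m) = u := by
  rw [mul_comm, pow_mul]
  exact units_theta hK u

include hK in
/-- the torus of a rank one group has one parameter -/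
theorem L_inf_T (i : Fin 2) {x : ↥(X hK).G1} (hx : x ∈ (fr hK).L i) (hT : x ∈ (fr hK).T) :
    ∃ a : Fˣ, (x : GL F4Data.tab.D.Idx F) =
      tor F4Data.tab F (par m (if i = 0 then (a, 1) else (1, a))) := by
  obtain ⟨⟨a, b⟩, e⟩ := exists_parF hK hT
  have h := (blk_prod hK i (a, b)).symm.trans (det_tor hK i hx e)
  revert h
  revert i
  rw [Fin.forall_fin_two]
  constructor
  · intro _ h
    refine ⟨a, ?_⟩
    simp only [if_true, mul_inv_eq_one] at h ⊢
    suffices hb : b = 1 by rw [e, hb]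
    have h3 : b ^ 3 = b ^ (4 * 2 ^ m) := by
      calc b ^ 3 = (b ^ (2 * 2 ^ m * 2 ^ m)) ^ 3 := by rw [fix_theta hK]
        _ = (b ^ (3 * 2 ^ m)) ^ (2 * 2 ^ m) := by rw [← pow_mul, ← pow_mul]; ring_nf
        _ = _ := by rw [h, ← pow_mul]; ring_nf
    have h4 : b ^ 8 = b ^ 9 := by
      calc b ^ 8 = (b ^ (3 * 2 ^ m)) ^ 4 := by rw [h, ← pow_mul]
        _ = (b ^ (4 * 2 ^ m)) ^ 3 := by rw [← pow_mul, ← pow_mul]; ring_nf
        _ = b ^ 9 := by rw [← h3, ← pow_mul]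
    rw [pow_succ b 8] at h4
    exact mul_eq_left.1 h4.symm
  · intro _ h
    refine ⟨b, ?_⟩
    simp only [Fin.isValue, one_ne_zero, if_false, mul_inv_eq_one] at h ⊢
    suffices ha : a = 1 by rw [e, ha]
    have h3 : a ^ 2 = a ^ (2 * 2 ^ m) := by
      calc a ^ 2 = (a ^ (2 * 2 ^ m * 2 ^ m)) ^ 2 := by rw [fix_theta hK]
        _ = (a ^ (4 * 2 ^ m)) ^ (2 ^ m) := by rw [← pow_mul, ← pow_mul]; ring_nf
        _ = _ := by rw [h, ← pow_mul]
    have h4 : a ^ 2 * a ^ 2 = a ^ 2 := by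
      conv_lhs => rw [h3, ← pow_add, show 2 * 2 ^ m + 2 * 2 ^ m = 4 * 2 ^ m by ring, h]
    have h5 : a ^ 2 = 1 := mul_eq_left.1 h4
    refine Units.ext ?_
    rcases mul_self_eq_one_iff.1 (show (a : F) * a = 1 by rw [← sq, ← Units.val_pow_eq_pow_val, h5, Units.val_one]) with h | h <;>
      simp [h, CharTwo.neg_eq]

/-- one parameter of the torus -/
noncomputable def parHom (i : Fin 2) : Fˣ →* ↥(X hK).G1 where
  toFun a := ⟨tor F4Data.tab F (par m (if i = 0 then (a, 1) else (1, a))), par_mem hK _⟩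
  map_one' := Subtype.ext (by
    show tor F4Data.tab F _ = 1
    rw [← map_one (tor F4Data.tab F)]
    refine tor_congr g0 fun j hj => ?_
    change j < 4 at hj
    interval_cases j <;> split_ifs <;> simp [par])
  map_mul' a b := Subtype.ext (by
    show tor F4Data.tab F _ = tor F4Data.tab F _ * tor F4Data.tab F _
    rw [← map_mul]
    refine tor_congr g0 fun j hj => ?_
    change j < 4 at hj
    interval_cases j <;> split_ifs <;> simp [par, mul_pow])

theorem L_inf_T_le (i : Fin 2) : (fr hK).L i ⊓ (fr hK).T ≤ (parHom hK i).range := fun x hx => by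
  obtain ⟨a, ha⟩ := L_inf_T hK i (Subgroup.mem_inf.1 hx).1 (Subgroup.mem_inf.1 hx).2
  exact ⟨a, Subtype.ext ha.symm⟩

theorem cyclic_L_inf_T (i : Fin 2) : IsCyclic ↥((fr hK).L i ⊓ (fr hK).T) := by
  haveI : IsCyclic (parHom hK i).range :=
    isCyclic_of_surjective _ (parHom hK i).rangeRestrict_surjective
  exact isCyclic_of_injective (Subgroup.inclusion (L_inf_T_le hK i)) (Subgroup.inclusion_injective _)

theorem card_L_inf_T (i : Fin 2) :
    Nat.card ↥((fr hK).L i ⊓ (fr hK).T) ∣ 2 ^ (2 * m + 1) - 1 := by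
  refine (Subgroup.card_dvd_of_le (L_inf_T_le hK i)).trans ?_
  refine (Subgroup.card_range_dvd _).trans ?_
  rw [TwField.card_units (q := 2 ^ (2 * m + 1)) (k := 1) (by rw [hK, pow_one]), pow_one]

theorem tor_indep : ∀ t ∈ (fr hK).L 0, t ∈ (fr hK).L 1 → t ∈ (fr hK).T → t = 1 := by
  intro t h0 h1 hT
  obtain ⟨a, ha⟩ := L_inf_T hK 0 h0 hT
  obtain ⟨b, hb⟩ := L_inf_T hK 1 h1 hT
  simp only [Fin.isValue, if_true, one_ne_zero, if_false] at ha hb
  have h3 := tor_inj (ha.symm.trans hb) 3 (by norm_num)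
  simp [par] at h3
  subst h3
  refine Subtype.ext (ha.trans ?_)
  rw [OneMemClass.coe_one, ← map_one (tor F4Data.tab F)]
  refine tor_congr g0 fun j hj => ?_
  change j < 4 at hj
  interval_cases j <;> simp [par]

theorem card_R (i : Fin 2) : Nat.card ((fr hK).R i) = (2 ^ (2 * m + 1)) ^ blkD i := by
  have e : Nat.card ((fr hK).R i) = Nat.card ↥(uMinus g0 F (wd i) ⊓ tw F (2 ^ m)) := by
    rw [show (fr hK).R i = (uMinus g0 F (wd i)).subgroupOf (X hK).G1 from rfl,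
      ← Subgroup.inf_subgroupOf_right]
    exact Nat.card_congr (Subgroup.subgroupOfEquivOfLe inf_le_right).toEquiv
  rw [e]
  revert i
  rw [Fin.forall_fin_two]
  exact ⟨fun _ => (card_orbit0 hK).trans (pow_one _).symm, fun _ => card_orbit1 hK⟩

theorem frame_ax [Fact (Nat.Prime 2)] : (fr hK).Axioms 2 :=
  (X hK).frame_axioms (blocks hK) rfl (by norm_num) dihOK (M := (2 * m + 1) * 12)
    ((card_pos hK).trans (pow_mul _ _ _).symm)
    (S := {x | ∃ w ∈ f4Words F (2 ^ m), x = (w.map fun e => xg g0 e.1 e.2).prod})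
    (genSubgroup_eq g0 _) S_split (n_mem_L hK) (tor_indep hK)

theorem rho_ker [Fact (Nat.Prime 2)] (i : Fin 2) (x : (fr hK).L i) (hx : rho1 hK i x = 1) :
    ∃ a ∈ (fr hK).R i, ∃ t ∈ (fr hK).L i ⊓ (fr hK).T, (x : ↥(X hK).G1) = a * t := by
  rcases Frame.L_cells (frame_ax hK) i x.2 with h | ⟨a, ha, t, ht, b, hb, e⟩
  · exact h
  exfalso
  have A := frame_ax hK
  have hRL : (fr hK).R i ≤ (fr hK).L i := le_sup_left
  let n' : (fr hK).L i := ⟨(fr hK).n i, A.n_mem i⟩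
  let a' : (fr hK).L i := ⟨a, hRL ha⟩
  let b' : (fr hK).L i := ⟨b, hRL hb⟩
  let t' : (fr hK).L i := ⟨t, (Subgroup.mem_inf.1 ht).1⟩
  have ex : x = a' * t' * n' * b' := Subtype.ext e
  have hn : rho1 hK i n' = rho1 hK i (t'⁻¹ * a'⁻¹ * b'⁻¹) := by
    have h1 : n' = t'⁻¹ * a'⁻¹ * x * b'⁻¹ := by rw [ex]; group
    conv_lhs => rw [h1]
    simp only [map_mul, hx, mul_one]
  obtain ⟨-, -, -, -, -, -, p, s, hps, hrho⟩ := blkOK' i
  have hU : ((a⁻¹ * b⁻¹ : ↥(X hK).G1) : GL F4Data.tab.D.Idx F) ∈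
      genS g0 F (Set.Ico F4Data.tab.N F4Data.tab.n) :=
    show a⁻¹ * b⁻¹ ∈ (fr hK).U from mul_mem (inv_mem (A.R_le i ha)) (inv_mem (A.R_le i hb))
  obtain ⟨q, hq⟩ := exists_parF hK (show t⁻¹ ∈ (fr hK).T from inv_mem (Subgroup.mem_inf.1 ht).2)
  have hv := congrArg (fun M : GL (Fin (2 * blkD i)) F =>
    (M : Matrix (Fin (2 * blkD i)) (Fin (2 * blkD i)) F) p s) hn
  dsimp only at hv
  erw [rho1_apply, rho1_apply] at hv
  simp only [n', t', a', b', Subgroup.coe_mul, InvMemClass.coe_inv, fr_n_val] at hv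
  rw [mul_assoc, show (t : GL F4Data.tab.D.Idx F)⁻¹ = ((t⁻¹ : ↥(X hK).G1) : GL F4Data.tab.D.Idx F) from rfl,
    hq, Units.val_mul, tor_apply, dg_val, Matrix.diagonal_mul] at hv
  have hz := pos_UT g0 hU (blkE i p) (blkE i s) hrho.le
  rw [Matrix.one_apply_ne (fun h => by rw [h] at hrho; exact lt_irrefl _ hrho)] at hz
  rw [show (((a⁻¹ * b⁻¹ : ↥(X hK).G1) : GL F4Data.tab.D.Idx F)) =
    (a : GL F4Data.tab.D.Idx F)⁻¹ * (b : GL F4Data.tab.D.Idx F)⁻¹ from rfl] at hz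
  rw [hz, mul_zero] at hv
  refine nWd_entry g0 (wd_wd i) (1 : ℕ → Fˣ) (s := (blkR i).getD s 0) (b := blkE i s) ?_ hps rfl ?_
  · exact (blkR_lt i s).trans_eq g0.nroots_eq
  · rw [map_one, one_mul]
    exact hv

include hK in
/-- the multiplier of `²F₄(2^(2m+1))` is trivial -/
theorem inf_commutator (hm : 1 ≤ m) {E : Type*} [Group E] (ξ : E →* ↥(tw F (2 ^ m)))
    (hs : Function.Surjective ξ) (hc : ξ.ker ≤ Subgroup.center E) :
    ξ.ker ⊓ commutator E = ⊥ := by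
  classical
  haveI : Fact (Nat.Prime 2) := ⟨Nat.prime_two⟩
  refine inf_commutator_of_frame (G := ↥(X hK).G1) ξ hs hc ((X hK).perfect (derived hK hm))
    (fr hK) (frame_ax hK) ?_ ?_ ?_
  · have hU : Nat.card (fr hK).U = (2 ^ (2 * m + 1)) ^ 12 := by
      rw [← card_pos hK, posUnipotent_eq g0, show (fr hK).U =
        (genS g0 F (Set.Ico F4Data.tab.N F4Data.tab.n)).subgroupOf (X hK).G1 from rfl,
        ← Subgroup.inf_subgroupOf_right]
      exact Nat.card_congr (Subgroup.subgroupOfEquivOfLe inf_le_right).toEquiv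
    have h := (fr hK).U.card_mul_index
    rw [hU, show Nat.card ↥(X hK).G1 = _ from card_twisted hK] at h
    have h2 : (fr hK).U.index = (2 ^ (2 * m + 1) - 1) * ((2 ^ (2 * m + 1)) ^ 3 + 1) *
        ((2 ^ (2 * m + 1)) ^ 4 - 1) * ((2 ^ (2 * m + 1)) ^ 6 + 1) :=
      Nat.eq_of_mul_eq_mul_left (show 0 < (2 ^ (2 * m + 1)) ^ 12 by positivity) (h.trans (by ring))
    have hq : 2 ∣ 2 ^ (2 * m + 1) := dvd_pow_self 2 (by omega)
    rw [h2]
    generalize hQ : 2 ^ (2 * m + 1) = Q at hq ⊢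
    have hQ1 : 1 ≤ Q := hQ ▸ Nat.one_le_two_pow
    have h4 : 1 ≤ Q ^ 4 := Nat.one_le_pow _ _ hQ1
    have e3 : 2 ∣ Q ^ 3 := dvd_pow hq (by norm_num)
    have e4 : 2 ∣ Q ^ 4 := dvd_pow hq (by norm_num)
    have e6 : 2 ∣ Q ^ 6 := dvd_pow hq (by norm_num)
    simp only [Nat.prime_two.dvd_mul]
    omega
  · intro i r hr hr2 P
    haveI := cyclic_L_inf_T hK i
    refine Frame.sylow_cyclic (frame_ax hK) i hK ?_ (card_R hK i) (card_L_inf_T hK i) (rho1 hK i)
      (rho_ker hK i) hr hr2 (fun h => hr2 ?_) P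
    · unfold blkD; split_ifs <;> simp
    · exact (Nat.prime_dvd_prime_iff_eq hr Nat.prime_two).1 (hr.dvd_of_dvd_pow h)
  · intro Y _ _ η hηs hηc
    refine (X hK).exists_section η hηs hηc hK zeroOK (weights_free hK hm) fun k hk j hj hjk => ?_
    rcases weights_pair hK hm k hk j hj hjk with h | ⟨-, h⟩
    · exact Or.inl h
    · exact Or.inr (special hK η hm hηs hηc h)

end Cfsg.Agent.Chev.TwF4
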