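import Cfsg.Agent.Lib.CentralSection.TwF4Weights

/-!
# The four exceptional pairs of `²F₄(8)`

The lifts of the orbits `24` and `28` commute exactly with those over the highest layer, so their
commutators do, which fills the layer of `29`; the Weyl group carries this pair to the other three.
-/

set_option autoImplicit false
set_option maxRecDepth 20000
set_option linter.unusedSectionVars false
set_option linter.style.haveILetI false

namespace Cfsg.Agent.Chev.TwF4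

open Cfsg.Lie
open Tab
open Cfsg.Agent.CentralSection
open scoped commutatorElement

variable {F : Type*} [Field F] [CharP F 2] [Fintype F] {m : ℕ} (hK : Fintype.card F = 2 ^ (2 * m + 1))
variable {Y : Type*} [Group Y] (η : Y →* ↥(X hK).G1)

/-- exact commutation of all lifts -/
def Ex (A B : Subgroup ↥(X hK).G1) : Prop := ∀ x y, η x ∈ A → η y ∈ B → ⁅x, y⁆ = 1

/-- the group of the pair orbit -/
noncomputable def W24 : Subgroup ↥(X hK).G1 := (uMinus g0 F (wd 0)).subgroupOf (X hK).G1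

/-- the group of the `B₂` class -/
noncomputable def W25 : Subgroup ↥(X hK).G1 := (uMinus g0 F (wd 1)).subgroupOf (X hK).G1

/-- its centre -/
noncomputable def W28 : Subgroup ↥(X hK).G1 := (X hK).Uf 28 ⊓ W25 hK

theorem W24_le : W24 hK ≤ (X hK).Uf 24 := fun x hx => by
  have h : (x : GL F4Data.tab.D.Idx F) ∈ genS g0 F (Set.Ico F4Data.tab.N F4Data.tab.n) :=
    uMinus_le_pos g0 (wd 0) hx
  rw [show F4Data.tab.N = 24 by decide +kernel] at h
  exact h

theorem W24_ext : W24 hK ⊓ (X hK).Uf 25 = ⊥ := by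
  rw [eq_bot_iff]
  intro x hx
  obtain ⟨h1, h2⟩ := Subgroup.mem_inf.1 hx
  obtain ⟨t, ht⟩ := fixed0 hK (u := (x : GL F4Data.tab.D.Idx F)) h1 (twisted_fixed hK _ x.2).2
  have h33 : xg g0 33 (t ^ 2 ^ m) ∈ genS g0 F (Set.Ico 25 F4Data.tab.n) :=
    xg_mem_genS g0 (S := Set.Ico 25 F4Data.tab.n) (r := 33) ⟨by norm_num, by decide +kernel⟩ _
  rw [← (pair_comm t (t ^ 2 ^ m)).eq] at ht
  have h24 : xg g0 24 t ∈ genS g0 F (Set.Ico (24 + 1) F4Data.tab.n) := by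
    have : xg g0 24 t = (x : GL F4Data.tab.D.Idx F) * (xg g0 33 (t ^ 2 ^ m))⁻¹ := by rw [ht]; group
    rw [this]; exact mul_mem h2 (inv_mem h33)
  have ht0 := lowest_coeff g0 (k := 24) (by decide +kernel) (by decide +kernel) h24
  refine Subgroup.mem_bot.2 (Subtype.ext ?_)
  rw [ht, ht0, zero_pow (pow_ne_zero _ two_ne_zero), xg_zero, xg_zero, mul_one]
  rfl

theorem bU_split (t u : F) : ∃ y ∈ genS g0 F (Set.Ico (25 + 1) F4Data.tab.n),
    ((b2ClassWord (2 ^ m) f4a f4b f4ab f4aab t u).map fun e => xg g0 e.1 e.2).prod = xg g0 25 t * y := by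
  have hmem : ∀ r ∈ [27, 28, 30], r ∈ Set.Ico (25 + 1) F4Data.tab.n := by
    show ∀ r ∈ [27, 28, 30], 25 + 1 ≤ r ∧ r < F4Data.tab.n
    decide +kernel
  rw [bU_word, bP]
  exact ⟨_, mul_mem (mul_mem (xg_mem_genS g0 (hmem 27 (by simp)) (t ^ 2 ^ m))
    (xg_mem_genS g0 (hmem 28 (by simp)) u))
    (xg_mem_genS g0 (hmem 30 (by simp)) (t * (t ^ 2 ^ m) ^ 2 + u ^ (2 * 2 ^ m))), by simp only [mul_assoc]⟩

theorem bU_zero (u : F) : ((b2ClassWord (2 ^ m) f4a f4b f4ab f4aab 0 u).map fun e => xg g0 e.1 e.2).prod =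
    xg g0 28 u * xg g0 30 (u ^ (2 * 2 ^ m)) := by
  rw [bU_word, bP, zero_pow (pow_ne_zero _ two_ne_zero), zero_mul, zero_add, xg_zero, xg_zero, one_mul,
    one_mul]

theorem W28_form {x : ↥(X hK).G1} (hx : x ∈ W28 hK) :
    ∃ u, (x : GL F4Data.tab.D.Idx F) = xg g0 28 u * xg g0 30 (u ^ (2 * 2 ^ m)) := by
  obtain ⟨h1, h2⟩ := Subgroup.mem_inf.1 hx
  obtain ⟨t, u, e⟩ := fixed1 hK (z := (x : GL F4Data.tab.D.Idx F)) h2 (twisted_fixed hK _ x.2).2
  obtain ⟨y, hy, ey⟩ := bU_split (m := m) t u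
  have hx26 : (x : GL F4Data.tab.D.Idx F) ∈ genS g0 F (Set.Ico (25 + 1) F4Data.tab.n) :=
    genS_mono g0 (S := Set.Ico 28 F4Data.tab.n) (S' := Set.Ico (25 + 1) F4Data.tab.n) (fun r hr => ⟨le_trans (by norm_num) hr.1, hr.2⟩) h1
  have h25 : xg g0 25 t ∈ genS g0 F (Set.Ico (25 + 1) F4Data.tab.n) := by
    have : xg g0 25 t = (x : GL F4Data.tab.D.Idx F) * y⁻¹ := by rw [e, ey]; group
    rw [this]; exact mul_mem hx26 (inv_mem hy)
  have ht := lowest_coeff g0 (k := 25) (by decide +kernel) (by decide +kernel) h25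
  exact ⟨u, by rw [e, ht, bU_zero]⟩

theorem W28_ext : W28 hK ⊓ (X hK).Uf 29 = ⊥ := by
  rw [eq_bot_iff]
  intro x hx
  obtain ⟨h1, h2⟩ := Subgroup.mem_inf.1 hx
  obtain ⟨u, e⟩ := W28_form hK h1
  have h30 : xg g0 30 (u ^ (2 * 2 ^ m)) ∈ genS g0 F (Set.Ico (28 + 1) F4Data.tab.n) :=
    xg_mem_genS g0 (S := Set.Ico (28 + 1) F4Data.tab.n) (r := 30) ⟨by norm_num, by decide +kernel⟩ _
  have h28 : xg g0 28 u ∈ genS g0 F (Set.Ico (28 + 1) F4Data.tab.n) := by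
    have : xg g0 28 u = (x : GL F4Data.tab.D.Idx F) * (xg g0 30 (u ^ (2 * 2 ^ m)))⁻¹ := by rw [e]; group
    rw [this]; exact mul_mem h2 (inv_mem h30)
  have hu := lowest_coeff g0 (k := 28) (by decide +kernel) (by decide +kernel) h28
  refine Subgroup.mem_bot.2 (Subtype.ext ?_)
  rw [e, hu, zero_pow (by positivity), xg_zero, xg_zero, mul_one]
  rfl

theorem Uf45 : (X hK).Uf (44 + 1) = ⊥ := by
  have h : ∀ d, d ≤ 3 → (X hK).Uf (48 - d) = ⊥ := by
    intro d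
    induction d with
    | zero => exact fun _ => (X hK).Uf_top (show F4Data.tab.n ≤ 48 by decide +kernel)
    | succ d ih =>
      intro hd
      refine le_bot_iff.1 (le_trans ((X hK).Uf_zero (reps := secReps) zeroOK ?_ ?_ ?_) ?_)
      · show F4Data.tab.N ≤ _
        rw [show F4Data.tab.N = 24 by decide +kernel]; omega
      · show _ < F4Data.tab.n
        rw [show F4Data.tab.n = 48 by decide +kernel]; omega
      · simp [secReps]; omega
      · rw [show 48 - (d + 1) + 1 = 48 - d by omega, ih (by omega)]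
  exact h 3 le_rfl

variable (hm : 1 ≤ m) (hs : Function.Surjective η) (hc : η.ker ≤ Subgroup.center Y)

include hm hs hc in
/-- a layer commutes exactly with the highest one -/
theorem ex_top {j : ℕ} (hj : j ∈ secReps) (hne : (j, 44) ∉ secPar) {W : Subgroup ↥(X hK).G1}
    (hW : W ≤ (X hK).Uf j) (hTW : (X hK).Tg ≤ Subgroup.normalizer (W : Set ↥(X hK).G1))
    {W' : Subgroup ↥(X hK).G1} (hW' : W ⊓ (X hK).Uf (j + 1) = W') (hex : Ex hK η W' ((X hK).Uf 44)) :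
    Ex hK η W ((X hK).Uf 44) := by
  haveI : Fact (Nat.Prime 2) := ⟨Nat.prime_two⟩
  have hall : ∀ i ∈ secReps, F4Data.tab.N ≤ i ∧ i < F4Data.tab.n ∧ i ≤ 44 := by decide +kernel
  have hjN : F4Data.tab.N ≤ j ∧ j < F4Data.tab.n := ⟨(hall j hj).1, (hall j hj).2.1⟩
  have h44 : F4Data.tab.N ≤ 44 ∧ 44 < F4Data.tab.n := by decide +kernel
  rcases weights_pair hK hm 44 (by simp [secReps]) j hj (hall j hj).2.2 with
    ⟨c, hcG, hc'⟩ | ⟨-, h⟩
  swap
  · exact absurd h hne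
  let L0 := (X hK).layer hjN.1 hjN.2
  let LW : Layer (X hK).Tg W W' F :=
    { ρ := L0.ρ, χ := L0.χ
      add := fun a ha b hb => L0.add a (hW ha) b (hW hb)
      zero := fun a ha => by
        rw [L0.zero a (hW ha), ← hW', Subgroup.mem_inf]
        exact ⟨fun h => ⟨ha, h⟩, fun h => h.2⟩
      weight := fun t ht a ha => L0.weight t ht a (hW ha) }
  have hN : IsSection η ((X hK).Uf (44 + 1)) (⊥ : Subgroup Y) := Uf45 hK ▸ isSection_bot η
  have hnor : ∀ S : Subgroup Y, S ≤ Subgroup.normalizer ((⊥ : Subgroup Y) : Set Y) :=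
    fun S y _ => Subgroup.mem_normalizer_iff.2 fun z => by simp
  have ht : (⟨tor F4Data.tab F c, hcG⟩ : ↥(X hK).G1) ∈ (X hK).Tg := by
    show tor F4Data.tab F c ∈ F4Data.tab.D.diagonalSubgroup F
    rw [diagonalSubgroup_eq g0]; exact ⟨c, rfl⟩
  intro x y hx hy
  refine Subgroup.mem_bot.1 (CentralSection.pair η hc hs hTW ((X hK).Tg_norm 44)
    (le_trans hW ((X hK).Uf_anti hjN.1)) ((X hK).Uf_anti h44.1)
    (fun u hu v hv => (X hK).Uf_comm h44.1 hu hv) ((X hK).Uf_anti (by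
      rw [show F4Data.tab.N = 24 by decide +kernel]; norm_num)) hN (hnor _) (hnor _) hK
    LW ((X hK).layer h44.1 h44.2) (fun x y hx hy => Subgroup.mem_bot.2 (hex x y hx hy)) ht ?_ ?_ x y hx hy)
  · intro i hi
    show (X hK).chi j _ * (X hK).chi 44 _ ^ 2 ^ i ≠ 1
    rw [(X hK).chi_eq hjN.2 (c := c) rfl, (X hK).chi_eq h44.2 (c := c) rfl, ← Units.val_pow_eq_pow_val,
      ← Units.val_mul, Units.val_eq_one.ne]
    exact hc' i hi
  · show (X hK).chi j _ ≠ 0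
    rw [(X hK).chi_eq hjN.2 (c := c) rfl]
    exact Units.ne_zero _

theorem comm_xg24_28 (u : F) :
    ∃ y ∈ genS g0 F (Set.Ico (29 + 1) F4Data.tab.n),
      ⁅xg g0 24 (1 : F), xg g0 28 u⁆ = xg g0 29 u * y := by
  have hd : F4Data.tab.cTerms 24 28 = [(29, 1, 1, 1), (32, -1, 1, 2)] := by decide +kernel
  have hlt : 24 < F4Data.tab.n ∧ 28 < F4Data.tab.n ∧ (28 : ℕ) ≠ F4Data.tab.neg 24 := by decide +kernel
  have e := xg_comm gA hlt.1 hlt.2.1 (by norm_num) hlt.2.2 (1 : F) u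
  simp only [cVal, hd, List.map_cons, List.map_nil, List.prod_cons, List.prod_nil, mul_one,
    Int.cast_neg, Int.cast_one, pow_one, one_mul, one_pow, neg_one_mul, neg_mul, neg_neg, xg_neg2] at e
  set Z := xg g0 32 (u ^ 2) with hZ
  have hsq : ∀ (r : ℕ) (a : F), (xg g0 r a)⁻¹ = xg g0 r a := fun r a => by rw [xg_inv, xg_neg2]
  have hc29 : Commute (xg g0 29 u) (xg g0 28 u) :=
    comm2 (by decide +kernel) (by decide +kernel) (by decide +kernel) _ _
  refine ⟨(xg g0 28 u) * Z * (xg g0 28 u)⁻¹, ?_, ?_⟩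
  · exact (Subgroup.mem_normalizer_iff.1 (xg_normalizes_Ico gA (k := 29 + 1) (r := 28) (by decide +kernel)
      hlt.2.1 (by decide +kernel) u) _).1
      (xg_mem_genS g0 (S := Set.Ico (29 + 1) F4Data.tab.n) (r := 32) ⟨by norm_num, by decide +kernel⟩ _)
  · rw [commutatorElement_def, hsq 24, hsq 28]
    calc xg g0 24 1 * xg g0 28 u * xg g0 24 1 * xg g0 28 u
        = xg g0 24 1 * (xg g0 28 u * xg g0 24 1) * xg g0 28 u := by group
      _ = xg g0 24 1 * (xg g0 24 1 * xg g0 28 u * (xg g0 29 u * Z)) * xg g0 28 u := by rw [e]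
      _ = (xg g0 24 1 * xg g0 24 1) * (xg g0 28 u * xg g0 29 u) * Z * xg g0 28 u := by group
      _ = xg g0 29 u * (xg g0 28 u * Z * xg g0 28 u) := by
        rw [xg_add, CharTwo.add_self_eq_zero, xg_zero, one_mul, ← hc29.eq]; group

theorem W_norm (b : ℕ) :
    (X hK).Tg ≤ Subgroup.normalizer ((uMinus g0 F (wd b)).subgroupOf (X hK).G1 : Set ↥(X hK).G1) := by
  intro t ht
  obtain ⟨c, hc'⟩ := (X hK).exists_par ht
  refine Subgroup.mem_normalizer_iff.2 fun z => ?_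
  show (z : GL F4Data.tab.D.Idx F) ∈ uMinus g0 F (wd b) ↔
    ((t * z * t⁻¹ : ↥(X hK).G1) : GL F4Data.tab.D.Idx F) ∈ uMinus g0 F (wd b)
  rw [Subgroup.coe_mul, Subgroup.coe_mul, Subgroup.coe_inv, ← hc']
  exact Subgroup.mem_normalizer_iff.1 (tor_normalizes g0 (fun r hr => hr.2.1) c) _

theorem W28_norm : (X hK).Tg ≤ Subgroup.normalizer (W28 hK : Set ↥(X hK).G1) := fun t ht => by
  refine Subgroup.mem_normalizer_iff.2 fun z => ?_
  rw [W28, Subgroup.mem_inf, Subgroup.mem_inf, ← Subgroup.mem_normalizer_iff.1 ((X hK).Tg_norm 28 ht),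
    W25, ← Subgroup.mem_normalizer_iff.1 (W_norm hK 1 ht)]

include hm hs hc in
/-- the seed -/
theorem seed : Ex hK η ((X hK).Uf 29) ((X hK).Uf 44) := by
  have hbot : Ex hK η ⊥ ((X hK).Uf 44) := fun x y hx _ =>
    commutatorElement_eq_one_iff_mul_comm.2 (central η hc (Subgroup.mem_bot.1 hx) y)
  -- the layers above `29`
  have habove : ∀ d j, 30 ≤ j → 48 ≤ j + d → Ex hK η ((X hK).Uf j) ((X hK).Uf 44) := by
    intro d
    induction d with
    | zero =>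
      intro j _ hd
      rw [(X hK).Uf_top (show F4Data.tab.n ≤ j by
        rw [show F4Data.tab.n = 48 by decide +kernel]; omega)]
      exact hbot
    | succ d ih =>
      intro j hj hd
      by_cases hjr : j ∈ secReps
      · refine ex_top hK η hm hs hc hjr ?_ le_rfl ((X hK).Tg_norm j)
          (inf_eq_right.2 ((X hK).Uf_anti (Nat.le_succ j))) (ih (j + 1) (by omega) (by omega))
        simp [secPar]; omega
      · by_cases hjn : j < 48
        · intro x y hx hy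
          refine ih (j + 1) (by omega) (by omega) x y ?_ hy
          exact (X hK).Uf_zero (reps := secReps) zeroOK
            (show F4Data.tab.N ≤ j by rw [show F4Data.tab.N = 24 by decide +kernel]; omega)
            (show j < F4Data.tab.n by rw [show F4Data.tab.n = 48 by decide +kernel]; omega) hjr hx
        · exact ih j hj (by omega)
  have h30 := habove 18 30 le_rfl le_rfl
  have h24 : Ex hK η (W24 hK) ((X hK).Uf 44) :=
    ex_top hK η hm hs hc (j := 24) (by simp [secReps]) (by simp [secPar]) (W24_le hK) (W_norm hK 0)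
      (W24_ext hK) hbot
  have h28 : Ex hK η (W28 hK) ((X hK).Uf 44) :=
    ex_top hK η hm hs hc (j := 28) (by simp [secReps]) (by simp [secPar]) inf_le_left (W28_norm hK)
      (W28_ext hK) hbot
  intro x y hx hy
  -- the centraliser of `y`
  obtain ⟨a, z, hz, e⟩ : ∃ a : F, ∃ z ∈ genS g0 F (Set.Ico (29 + 1) F4Data.tab.n),
      ((η x : ↥(X hK).G1) : GL F4Data.tab.D.Idx F) = xg g0 29 a * z :=
    exists_split gA (by decide +kernel) hx
  let p24 : ↥(X hK).G1 := ⟨eP m 1, (eP_mem 1).2⟩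
  let p28 : ↥(X hK).G1 := ⟨_, (bU_mem (F := F) (m := m) 0 a).2⟩
  have hp24 : p24 ∈ W24 hK := (eP_mem (F := F) (m := m) 1).1
  have hp28 : p28 ∈ W28 hK := by
    refine Subgroup.mem_inf.2 ⟨?_, (bU_mem (F := F) (m := m) 0 a).1⟩
    show ((p28 : ↥(X hK).G1) : GL F4Data.tab.D.Idx F) ∈ genS g0 F (Set.Ico 28 F4Data.tab.n)
    simp only [p28]
    rw [bU_zero]
    exact mul_mem (xg_mem_genS g0 (S := Set.Ico 28 F4Data.tab.n) (r := 28) ⟨le_rfl, by decide +kernel⟩ _)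
      (xg_mem_genS g0 (S := Set.Ico 28 F4Data.tab.n) (r := 30) ⟨by norm_num, by decide +kernel⟩ _)
  have hd : (⁅p24, p28⁆)⁻¹ * η x ∈ (X hK).Uf (29 + 1) := by
    show (((⁅p24, p28⁆)⁻¹ * η x : ↥(X hK).G1) : GL F4Data.tab.D.Idx F) ∈
      genS g0 F (Set.Ico (29 + 1) F4Data.tab.n)
    rw [Subgroup.coe_mul, Subgroup.coe_inv,
      show ((⁅p24, p28⁆ : ↥(X hK).G1) : GL F4Data.tab.D.Idx F) = ⁅eP m (1 : F), (p28 : GL _ F)⁆ from
        map_commutatorElement (X hK).G1.subtype p24 p28]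
    obtain ⟨w, hw, ew⟩ := comm_xg24_28 a
    set S := genS g0 F (Set.Ico (29 + 1) F4Data.tab.n) with hS
    have hnorm : ∀ r ∈ [24, 28, 29], ∀ t : F, xg g0 r t ∈ Subgroup.normalizer (S : Set _) := by
      intro r hr t
      refine xg_normalizes_Ico gA (by decide +kernel) ?_ ?_ t <;> (revert hr; revert r; decide +kernel)
    have hA : ∃ A ∈ S, eP m (1 : F) = xg g0 24 1 * A := by
      refine ⟨xg g0 33 ((1 : F) ^ 2 ^ m), xg_mem_genS g0 (S := Set.Ico (29 + 1) F4Data.tab.n) (r := 33)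
        ⟨by norm_num, by decide +kernel⟩ _, ?_⟩
      rw [eP_word, (pair_comm _ _).eq]
    have hB : ∃ B ∈ S, (p28 : GL F4Data.tab.D.Idx F) = xg g0 28 a * B :=
      ⟨xg g0 30 (a ^ (2 * 2 ^ m)), xg_mem_genS g0 (S := Set.Ico (29 + 1) F4Data.tab.n) (r := 30)
        ⟨by norm_num, by decide +kernel⟩ _, bU_zero a⟩
    obtain ⟨A, hA, eA⟩ := hA
    obtain ⟨B, hB, eB⟩ := hB
    let H := Subgroup.normalizer (S : Set (GL F4Data.tab.D.Idx F))
    let π : H →* H ⧸ S.subgroupOf H :=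
      haveI : (S.subgroupOf H).Normal := Subgroup.normal_subgroupOf_of_le_normalizer le_rfl
      QuotientGroup.mk' _
    have hπ : ∀ (v : GL F4Data.tab.D.Idx F) (hv : v ∈ S), π ⟨v, Subgroup.le_normalizer hv⟩ = 1 :=
      fun v hv => (QuotientGroup.eq_one_iff _).2 hv
    let x24 : H := ⟨_, hnorm 24 (by simp) (1 : F)⟩
    let x28 : H := ⟨_, hnorm 28 (by simp) a⟩
    let x29 : H := ⟨_, hnorm 29 (by simp) a⟩
    let hH : ∀ {v}, v ∈ S → H := fun {v} hv => ⟨v, Subgroup.le_normalizer hv⟩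
    have key : π ((⁅x24 * hH hA, x28 * hH hB⁆)⁻¹ * (x29 * hH hz)) = 1 := by
      have hc2 : π ⁅x24, x28⁆ = π x29 := by
        rw [show ⁅x24, x28⁆ = x29 * hH hw from Subtype.ext (by
          show _ = xg g0 29 a * w
          rw [← ew]
          exact map_commutatorElement H.subtype x24 x28), map_mul, hπ w hw, mul_one]
      simp only [map_mul, map_inv, map_commutatorElement, hH, hπ A hA, hπ B hB, hπ z hz, mul_one]
      rw [← map_commutatorElement, hc2, inv_mul_cancel]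
    have hmem := (QuotientGroup.eq_one_iff _).1 key
    rw [Subgroup.mem_subgroupOf] at hmem
    rw [eA, eB, e]
    simpa [x24, x28, x29, hH, commutatorElement_def] using hmem
  obtain ⟨l24, hl24⟩ := hs p24
  obtain ⟨l28, hl28⟩ := hs p28
  have c24 := commutatorElement_eq_one_iff_mul_comm.1 (h24 l24 y (hl24 ▸ hp24) hy)
  have c28 := commutatorElement_eq_one_iff_mul_comm.1 (h28 l28 y (hl28 ▸ hp28) hy)
  obtain ⟨r, hr⟩ := hs ((⁅p24, p28⁆)⁻¹ * η x)
  have cr := commutatorElement_eq_one_iff_mul_comm.1 (h30 r y (hr ▸ hd) hy)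
  rw [comm_congr η hc (a := x) (a' := ⁅l24, l28⁆ * r) (b := y) (b' := y)
    (by rw [map_mul, map_commutatorElement, hl24, hl28, hr, mul_inv_cancel_left]) rfl,
    commutatorElement_eq_one_iff_mul_comm]
  have c : Commute ⁅l24, l28⁆ y := by
    rw [commutatorElement_def]
    exact ((Commute.mul_left c24 c28).mul_left (Commute.inv_left c24)).mul_left (Commute.inv_left c28)
  exact (c.mul_left cr).eq

/-- the words moving the `B₂` class -/
def moveW : ℕ → List ℕ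
  | 26 => [0]
  | 29 => [0, 1, 0]
  | 31 => [1, 0]
  | _ => []

theorem moveOK : (∀ p ∈ secPar, p ∈ [((25, 28) : ℕ × ℕ), (26, 36), (31, 40), (29, 44)]) ∧
    (∀ p ∈ [((25, 28) : ℕ × ℕ), (26, 36), (31, 40)], (∀ b ∈ moveW p.1, b < 2) ∧
      F4Data.tab.rw' (flatW wd (moveW p.1)) 25 = p.1 ∧ F4Data.tab.rw' (flatW wd (moveW p.1)) 28 = p.2 ∧
      (∀ r ∈ [27, 28, 30], p.1 + 1 ≤ F4Data.tab.rw' (flatW wd (moveW p.1)) r) ∧
      p.2 + 1 ≤ F4Data.tab.rw' (flatW wd (moveW p.1)) 30) ∧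
    ((∀ b ∈ moveW 29, b < 2) ∧ (∀ r ∈ [25, 27, 28, 30], 29 ≤ F4Data.tab.rw' (flatW wd (moveW 29)) r) ∧
      (∀ r ∈ [28, 30], 44 ≤ F4Data.tab.rw' (flatW wd (moveW 29)) r)) := by
  decide +kernel

include hm hs hc in
/-- the centre of the class commutes exactly with the class -/
theorem ex_class : Ex hK η (W25 hK) (W28 hK) := by
  obtain ⟨-, -, hb, h25, h28⟩ := moveOK
  obtain ⟨c, hc', hmem⟩ := (X hK).flat_lift (Ls := moveW 29) hb
  have hwd := (X hK).flat_wd (Ls := moveW 29) hb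
  rw [hc'] at hmem
  let gg : ↥(X hK).G1 := ⟨_, hmem⟩
  have hmv : ∀ (S : Set ℕ) (k : ℕ), (∀ r ∈ S, r < F4Data.tab.n ∧ k ≤ F4Data.tab.rw' (flatW wd (moveW 29)) r) →
      ∀ v : ↥(X hK).G1, (v : GL F4Data.tab.D.Idx F) ∈ genS g0 F S → gg * v * gg⁻¹ ∈ (X hK).Uf k := by
    intro S k hS v hv
    have h := Subgroup.mem_map_of_mem (MulAut.conj (nWd g0 F (flatW wd (moveW 29)))).toMonoidHom hv
    rw [genS_map_nWd g0 hwd (fun r hr => (hS r hr).1)] at h
    have h2 : nWd g0 F (flatW wd (moveW 29)) * v * (nWd g0 F (flatW wd (moveW 29)))⁻¹ ∈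
        genS g0 F (Set.Ico k F4Data.tab.n) := by
      refine genS_mono g0 ?_ h
      rintro _ ⟨r, hr, rfl⟩
      exact ⟨(hS r hr).2, rw'_lt g0 hwd (hS r hr).1⟩
    show ((gg * v * gg⁻¹ : ↥(X hK).G1) : GL F4Data.tab.D.Idx F) ∈ genS g0 F (Set.Ico k F4Data.tab.n)
    rw [Subgroup.coe_mul, Subgroup.coe_mul, Subgroup.coe_inv]
    show tor F4Data.tab F c * nWd g0 F (flatW wd (moveW 29)) * v *
      (tor F4Data.tab F c * nWd g0 F (flatW wd (moveW 29)))⁻¹ ∈ _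
    rw [show tor F4Data.tab F c * nWd g0 F (flatW wd (moveW 29)) * v *
      (tor F4Data.tab F c * nWd g0 F (flatW wd (moveW 29)))⁻¹ = tor F4Data.tab F c *
        (nWd g0 F (flatW wd (moveW 29)) * v * (nWd g0 F (flatW wd (moveW 29)))⁻¹) * (tor F4Data.tab F c)⁻¹
        by group]
    exact (Subgroup.mem_normalizer_iff.1 (tor_normalizes g0 (fun r hr => hr.2) c) _).1 h2
  have hlt : ∀ r ∈ [25, 27, 28, 30], r < F4Data.tab.n := by decide +kernel
  have hinv : ∀ r, r ∈ {r | F4Data.tab.N ≤ r ∧ r < F4Data.tab.n ∧ F4Data.tab.rw' (wd 1) r < F4Data.tab.N} →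
      r ∈ [25, 27, 28, 30] := by
    rintro r ⟨h1, h2, h3⟩
    have : r ∈ F4Data.tab.invSet (wd 1) := by simp [invSet, h1, h2, h3]
    rwa [inv1, List.mem_toFinset] at this
  obtain ⟨gl, hgl⟩ := hs gg
  intro x y hx hy
  have hx' := hmv _ 29 (fun r hr => ⟨hlt r (hinv r hr), h25 r (hinv r hr)⟩) (η x) hx
  obtain ⟨u, eu⟩ := W28_form hK hy
  have hy' : gg * η y * gg⁻¹ ∈ (X hK).Uf 44 := by
    refine hmv {r | r ∈ [28, 30]} 44 (fun r hr => ⟨?_, h28 r hr⟩) (η y) ?_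
    · exact hlt r (by simp at hr ⊢; omega)
    · rw [eu]
      exact mul_mem (xg_mem_genS g0 (S := {r | r ∈ [28, 30]}) (r := 28) (by simp) _)
        (xg_mem_genS g0 (S := {r | r ∈ [28, 30]}) (r := 30) (by simp) _)
  have h := seed hK η hm hs hc (gl * x * gl⁻¹) (gl * y * gl⁻¹)
    (by rw [map_mul, map_mul, map_inv, hgl]; exact hx')
    (by rw [map_mul, map_mul, map_inv, hgl]; exact hy')
  rw [show ⁅gl * x * gl⁻¹, gl * y * gl⁻¹⁆ = gl * ⁅x, y⁆ * gl⁻¹ by
    simp only [commutatorElement_def]; group] at h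
  exact conj_eq_one_iff.1 h

include hm hs hc in
/-- the exceptional pairs vanish -/
theorem special {j k : ℕ} (hp : (j, k) ∈ secPar) : (X hK).Special η j k := by
  intro N hN hNU hprev x y hx hy
  obtain ⟨hall, hmove, -⟩ := moveOK
  have hlist := hall _ hp
  simp only [List.mem_cons, List.not_mem_nil, or_false] at hlist
  by_cases h29 : (j, k) = (29, 44)
  · obtain ⟨rfl, rfl⟩ := Prod.mk.inj h29
    rw [seed hK η hm hs hc x y hx hy]
    exact one_mem _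
  have hmem : (j, k) ∈ [((25, 28) : ℕ × ℕ), (26, 36), (31, 40)] := by
    simp only [List.mem_cons, List.not_mem_nil, or_false]; tauto
  obtain ⟨hb, hj, hk, hj', hk'⟩ := hmove _ hmem
  simp only at hb hj hk hj' hk'
  have hbnd : ∀ r ∈ [j, k], F4Data.tab.N ≤ r ∧ r < F4Data.tab.n := by
    intro r hr
    rw [show F4Data.tab.N = 24 by decide +kernel, show F4Data.tab.n = 48 by decide +kernel]
    simp only [List.mem_cons, List.not_mem_nil, or_false, Prod.mk.injEq] at hmem hr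
    omega
  obtain ⟨c, hc', hGm⟩ := (X hK).flat_lift (Ls := moveW j) hb
  have hwd := (X hK).flat_wd (Ls := moveW j) hb
  rw [hc'] at hGm
  let gg : ↥(X hK).G1 := ⟨_, hGm⟩
  -- coordinates of the moved class
  have hlin : ∀ r < F4Data.tab.n, ∀ t : F, ∃ e : Fˣ,
      ∀ t : F, (gg : GL F4Data.tab.D.Idx F) * xg g0 r t * (gg : GL F4Data.tab.D.Idx F)⁻¹ =
        xg g0 (F4Data.tab.rw' (flatW wd (moveW j)) r) ((e : F) * t) := by
    intro r hr _
    obtain ⟨v, hv⟩ := mono_conj (F := F) g0 hwd c hr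
    exact ⟨v, hv⟩
  have hcmem : ∀ i r, r < F4Data.tab.n → i ≤ F4Data.tab.rw' (flatW wd (moveW j)) r → ∀ t : F,
      (gg : GL F4Data.tab.D.Idx F) * xg g0 r t * (gg : GL F4Data.tab.D.Idx F)⁻¹ ∈
        genS g0 F (Set.Ico i F4Data.tab.n) := by
    intro i r hr hi t
    obtain ⟨e, he⟩ := hlin r hr t
    rw [he]
    exact xg_mem_genS g0 (S := Set.Ico i F4Data.tab.n) ⟨hi, rw'_lt g0 hwd hr⟩ _
  have hlt : ∀ r ∈ [25, 27, 28, 30], r < F4Data.tab.n := by decide +kernel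
  -- an element of the moved class with the coordinate of `x`
  obtain ⟨a, xr, hxr, ex⟩ := exists_split gA (hbnd j (by simp)).1 (x := ((η x : ↥(X hK).G1) : GL F4Data.tab.D.Idx F)) hx
  obtain ⟨ea, hea⟩ := hlin 25 (hlt 25 (by simp)) 0
  let v1 : ↥(X hK).G1 := ⟨_, (bU_mem (F := F) (m := m) ((ea⁻¹ : Fˣ) * a) 0).2⟩
  have hv1 : v1 ∈ W25 hK := (bU_mem (F := F) (m := m) _ 0).1
  have hdx : (gg * v1 * gg⁻¹)⁻¹ * η x ∈ (X hK).Uf (j + 1) := by
    have hform : ∃ w ∈ genS g0 F (Set.Ico (j + 1) F4Data.tab.n),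
        ((gg * v1 * gg⁻¹ : ↥(X hK).G1) : GL F4Data.tab.D.Idx F) = xg g0 j a * w := by
      simp only [Subgroup.coe_mul, Subgroup.coe_inv, v1]
      rw [bU_word, bP]
      set A : F := ((ea⁻¹ : Fˣ) : F) * a
      refine ⟨(gg : GL F4Data.tab.D.Idx F) * xg g0 27 (A ^ 2 ^ m) * (gg : GL F4Data.tab.D.Idx F)⁻¹ *
          ((gg : GL F4Data.tab.D.Idx F) * xg g0 28 0 * (gg : GL F4Data.tab.D.Idx F)⁻¹) *
          ((gg : GL F4Data.tab.D.Idx F) * xg g0 30 (A * (A ^ 2 ^ m) ^ 2 + 0 ^ (2 * 2 ^ m)) *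
            (gg : GL F4Data.tab.D.Idx F)⁻¹),
        mul_mem (mul_mem (hcmem _ 27 (hlt 27 (by simp)) (hj' 27 (by simp)) _)
          (hcmem _ 28 (hlt 28 (by simp)) (hj' 28 (by simp)) _))
          (hcmem _ 30 (hlt 30 (by simp)) (hj' 30 (by simp)) _), ?_⟩
      rw [show xg g0 j a = (gg : GL F4Data.tab.D.Idx F) * xg g0 25 A * (gg : GL F4Data.tab.D.Idx F)⁻¹ by
        rw [hea, hj]; simp [A, ← mul_assoc]]
      group
    obtain ⟨w, hw, ew⟩ := hform
    refine ((X hK).mem_Uf).2 ?_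
    rw [Subgroup.coe_mul, Subgroup.coe_inv, ew, ex,
      show (xg g0 j a * w)⁻¹ * (xg g0 j a * xr) = w⁻¹ * xr by group]
    exact mul_mem (inv_mem hw) hxr
  -- an element of the moved centre with the coordinate of `y`
  obtain ⟨b, yr, hyr, ey⟩ := exists_split gA (hbnd k (by simp)).1 (x := ((η y : ↥(X hK).G1) : GL F4Data.tab.D.Idx F)) hy
  obtain ⟨eb, heb⟩ := hlin 28 (hlt 28 (by simp)) 0
  let v2 : ↥(X hK).G1 := ⟨_, (bU_mem (F := F) (m := m) 0 ((eb⁻¹ : Fˣ) * b)).2⟩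
  have hv2 : v2 ∈ W28 hK := by
    refine Subgroup.mem_inf.2 ⟨?_, (bU_mem (F := F) (m := m) 0 _).1⟩
    show ((v2 : ↥(X hK).G1) : GL F4Data.tab.D.Idx F) ∈ genS g0 F (Set.Ico 28 F4Data.tab.n)
    simp only [v2]
    rw [bU_zero]
    exact mul_mem (xg_mem_genS g0 (S := Set.Ico 28 F4Data.tab.n) (r := 28) ⟨le_rfl, by decide +kernel⟩ _)
      (xg_mem_genS g0 (S := Set.Ico 28 F4Data.tab.n) (r := 30) ⟨by norm_num, by decide +kernel⟩ _)
  set z2 := gg * v2 * gg⁻¹ with hz2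
  have hform2 : ∃ w ∈ genS g0 F (Set.Ico (k + 1) F4Data.tab.n),
      (z2 : GL F4Data.tab.D.Idx F) = xg g0 k b * w := by
    simp only [z2, Subgroup.coe_mul, Subgroup.coe_inv, v2]
    rw [bU_zero]
    set B : F := ((eb⁻¹ : Fˣ) : F) * b
    refine ⟨(gg : GL F4Data.tab.D.Idx F) * xg g0 30 (B ^ (2 * 2 ^ m)) * (gg : GL F4Data.tab.D.Idx F)⁻¹,
      hcmem _ 30 (hlt 30 (by simp)) hk' _, ?_⟩
    rw [show xg g0 k b = (gg : GL F4Data.tab.D.Idx F) * xg g0 28 B * (gg : GL F4Data.tab.D.Idx F)⁻¹ by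
      rw [heb, hk]; simp [B, ← mul_assoc]]
    group
  obtain ⟨w2, hw2, ew2⟩ := hform2
  have hdy : z2⁻¹ * η y ∈ (X hK).Uf (k + 1) := by
    refine ((X hK).mem_Uf).2 ?_
    rw [Subgroup.coe_mul, Subgroup.coe_inv, ew2, ey,
      show (xg g0 k b * w2)⁻¹ * (xg g0 k b * yr) = w2⁻¹ * yr by group]
    exact mul_mem (inv_mem hw2) hyr
  have hz2k : z2 ∈ (X hK).Uf k := by
    refine ((X hK).mem_Uf).2 ?_
    rw [ew2]
    exact mul_mem (xg_mem_genS g0 (S := Set.Ico k F4Data.tab.n) ⟨le_rfl, (hbnd k (by simp)).2⟩ _)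
      (genS_mono g0 (S := Set.Ico (k + 1) F4Data.tab.n) (S' := Set.Ico k F4Data.tab.n)
        (fun r hr => ⟨Nat.le_of_succ_le hr.1, hr.2⟩) hw2)
  obtain ⟨gl, hgl⟩ := hs gg
  obtain ⟨l1, hl1⟩ := hs v1
  obtain ⟨l2, hl2⟩ := hs v2
  obtain ⟨x', hx'⟩ := hs ((gg * v1 * gg⁻¹)⁻¹ * η x)
  obtain ⟨y', hy', ey'⟩ := hN.lift hdy
  set U1 := gl * l1 * gl⁻¹ with hU1
  set Z2 := gl * l2 * gl⁻¹ with hZ2
  have eU : η U1 = gg * v1 * gg⁻¹ := by simp [U1, map_mul, hgl, hl1]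
  have eZ : η Z2 = z2 := by simp [Z2, z2, map_mul, hgl, hl2]
  have hUZ : ⁅U1, Z2⁆ = 1 := by
    rw [hU1, hZ2, show ⁅gl * l1 * gl⁻¹, gl * l2 * gl⁻¹⁆ = gl * ⁅l1, l2⁆ * gl⁻¹ by
      simp only [commutatorElement_def]; group,
      ex_class hK η hm hs hc l1 l2 (hl1 ▸ hv1) (hl2 ▸ hv2), mul_one, mul_inv_cancel]
  have ηU : η U1 ∈ (X hK).Uf F4Data.tab.N := by
    have hjN : η x ∈ (X hK).Uf F4Data.tab.N := (X hK).Uf_anti (hbnd j (by simp)).1 hx
    have h1 := (X hK).Uf_anti (show F4Data.tab.N ≤ j + 1 by have := (hbnd j (by simp)).1; omega) hdx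
    rw [eU]
    simpa [mul_assoc] using mul_mem hjN (inv_mem h1)
  have hnc : ∀ v, η v ∈ (X hK).Uf F4Data.tab.N → ∀ n ∈ N, v * n * v⁻¹ ∈ N := fun v hv n hn =>
    (Subgroup.mem_normalizer_iff.1 (hNU hv) n).1 hn
  rw [comm_congr η hc (a := x) (a' := U1 * x') (b := y) (b' := Z2 * y')
    (by rw [map_mul, eU, hx', mul_inv_cancel_left])
    (by rw [map_mul, eZ, ey', mul_inv_cancel_left])]
  rw [show ⁅U1 * x', Z2 * y'⁆ = ⁅U1 * x', Z2⁆ * (Z2 * ⁅U1 * x', y'⁆ * Z2⁻¹) by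
    simp only [commutatorElement_def]; group]
  have hxx : η (U1 * x') ∈ (X hK).Uf F4Data.tab.N := by
    rw [map_mul, eU, hx', mul_inv_cancel_left]; exact (X hK).Uf_anti (hbnd j (by simp)).1 hx
  refine mul_mem ?_ (hnc Z2 (by rw [eZ]; exact (X hK).Uf_anti (hbnd k (by simp)).1 hz2k) _
    (comap_commutator_mem η hc hs hNU hxx hy'))
  rw [show ⁅U1 * x', Z2⁆ = U1 * ⁅x', Z2⁆ * U1⁻¹ * ⁅U1, Z2⁆ by
    simp only [commutatorElement_def]; group, hUZ, mul_one]
  exact hnc U1 ηU _ (hprev x' Z2 (hx' ▸ hdx) (eZ ▸ hz2k))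

end Cfsg.Agent.Chev.TwF4
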