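import Cfsg.Agent.Lib.CentralSection.TwSection
import Cfsg.Agent.Lib.Lie.TwF4

/-!
# Weights of the torus of `²F₄(2^(2m+1))`

With `θ = 2^m` and `N = 2θ² - 1` the weights are `u ^ (a + bθ)`; two orbits of roots either have
independent weights, told apart by a determinant small against `N`, or proportional ones.
-/

set_option autoImplicit false
set_option maxRecDepth 20000
set_option linter.unusedSectionVars false

namespace Cfsg.Agent.Chev.TwF4

open Cfsg.Lie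
open Tab

/-- representatives of the orbits of positive roots -/
def secReps : List ℕ := [24, 25, 26, 28, 29, 31, 32, 36, 38, 39, 40, 44]

theorem zeroOK : F4Data.tab.checkZero (fun r => F4Data.isog.π.getD r 0) secReps = true := by
  decide +kernel

/-- a polynomial of degree one in `θ` -/
def ev1 (θ : ℤ) (p : ℤ × ℤ) : ℤ := p.1 + p.2 * θ

/-- a polynomial of degree two in `θ` -/
def ev2 (θ : ℤ) (p : ℤ × ℤ × ℤ) : ℤ := p.1 + p.2.1 * θ + p.2.2 * θ ^ 2

/-- the product -/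
def mul1 (a b : ℤ × ℤ) : ℤ × ℤ × ℤ := (a.1 * b.1, a.1 * b.2 + a.2 * b.1, a.2 * b.2)

theorem ev2_mul1 (θ : ℤ) (a b : ℤ × ℤ) : ev2 θ (mul1 a b) = ev1 θ a * ev1 θ b := by
  simp only [ev2, mul1, ev1]; ring

/-- the exponent of the first parameter -/
def E1 (r : ℕ) : ℤ × ℤ := (F4Data.tab.A 3 r, F4Data.tab.A 0 r)

/-- the exponent of the second parameter -/
def E2 (r : ℕ) : ℤ × ℤ := (F4Data.tab.A 2 r, F4Data.tab.A 1 r)

/-- the determinant of two weights -/
def det (j k : ℕ) : ℤ × ℤ × ℤ :=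
  ((mul1 (E1 j) (E2 k)).1 - (mul1 (E2 j) (E1 k)).1,
    (mul1 (E1 j) (E2 k)).2.1 - (mul1 (E2 j) (E1 k)).2.1,
    (mul1 (E1 j) (E2 k)).2.2 - (mul1 (E2 j) (E1 k)).2.2)

theorem ev2_det (θ : ℤ) (j k : ℕ) :
    ev2 θ (det j k) = ev1 θ (E1 j) * ev1 θ (E2 k) - ev1 θ (E2 j) * ev1 θ (E1 k) := by
  rw [← ev2_mul1, ← ev2_mul1]; simp only [ev2, det]; ring

/-- the pairs of orbits with proportional weights, other than the diagonal -/
def secPar : List (ℕ × ℕ) := [(25, 28), (26, 36), (29, 44), (31, 40)]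

/-- a combination of the two exponents that is one at `r` -/
def secVec : ℕ → (ℤ × ℤ) × (ℤ × ℤ)
  | 24 => ((0, 0), (-1, 0))
  | 25 => ((-1, 0), (0, 0))
  | 26 => ((1, 0), (0, 0))
  | 28 => ((0, 0), (1, 0))
  | 29 => ((2, 2), (0, 0))
  | 31 => ((-1, -2), (0, 0))
  | 32 => ((0, 0), (1, 0))
  | 36 => ((2, -2), (0, 0))
  | 38 => ((1, 0), (0, 0))
  | 39 => ((0, 0), (2, 2))
  | 40 => ((0, -2), (0, 0))
  | 44 => ((0, 2), (0, 0))
  | _ => ((0, 0), (0, 0))

/-- the ratio of proportional weights -/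
def secRatio (j k : ℕ) : ℤ × ℤ := if j = k then (1, 0) else if k = 44 then (1, 2) else (1, 1)

/-- the combination at `r` of the vector of `j` -/
def comb (j r : ℕ) : ℤ × ℤ × ℤ :=
  ((mul1 (secVec j).1 (E1 r)).1 + (mul1 (secVec j).2 (E2 r)).1,
    (mul1 (secVec j).1 (E1 r)).2.1 + (mul1 (secVec j).2 (E2 r)).2.1,
    (mul1 (secVec j).1 (E1 r)).2.2 + (mul1 (secVec j).2 (E2 r)).2.2)

theorem ev2_comb (θ : ℤ) (j r : ℕ) :
    ev2 θ (comb j r) = ev1 θ (secVec j).1 * ev1 θ (E1 r) + ev1 θ (secVec j).2 * ev1 θ (E2 r) := by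
  rw [← ev2_mul1, ← ev2_mul1]; simp only [ev2, comb]; ring

/-- independent weights -/
def IndepOK (j k : ℕ) : Prop :=
  (2 * (det j k).1 + (det j k).2.2).natAbs ≤ 8 ∧ (2 * (det j k).2.1).natAbs ≤ 12 ∧
    (2 * (det j k).1 + (det j k).2.2 ≠ 0 ∨ 2 * (det j k).2.1 ≠ 0) ∧
    ev2 2 (det j k) % 7 ≠ 0 ∧ ev2 4 (det j k) % 31 ≠ 0

instance (j k : ℕ) : Decidable (IndepOK j k) := by unfold IndepOK; infer_instance

/-- proportional weights -/
def RatioOK (j k : ℕ) : Prop :=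
  (comb j k).2.1 = (secRatio j k).2 ∧ (comb j k).2.2 % 2 = 0 ∧
    2 * (comb j k).1 + (comb j k).2.2 = 2 * (secRatio j k).1

instance (j k : ℕ) : Decidable (RatioOK j k) := by unfold RatioOK; infer_instance

theorem tableOK : ∀ k ∈ secReps, ∀ j ∈ secReps, j ≤ k →
    ((j = k ∨ (j, k) ∈ secPar) ∧ RatioOK j j ∧ RatioOK j k) ∨ IndepOK j k := by
  decide +kernel

theorem small_not_dvd {L a b : ℕ} (hL : 5 ≤ L) (ha : a < L) (hb : b < L) :
    ¬ (2 ^ L - 1) ∣ 1 + 2 ^ a + 2 ^ b := by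
  obtain ⟨M, rfl⟩ : ∃ M, L = M + 2 := ⟨L - 2, by omega⟩
  have h8 : 8 ≤ 2 ^ M := le_trans (by norm_num : 8 ≤ 2 ^ 3) (Nat.pow_le_pow_right (by norm_num) (by omega))
  have hb' : ∀ x < M + 2, x = M + 1 ∨ 2 ^ x ≤ 2 ^ M := fun x hx => by
    rcases eq_or_lt_of_le (Nat.lt_succ_iff.1 hx) with h | h
    · exact Or.inl h
    · exact Or.inr (Nat.pow_le_pow_right (by norm_num) (by omega))
  have e1 : 2 ^ (M + 1) = 2 * 2 ^ M := by rw [pow_succ]; ring
  have e2 : 2 ^ (M + 2) = 4 * 2 ^ M := by rw [pow_succ, pow_succ]; ring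
  rintro ⟨c, hc⟩
  have hpos : 0 < 1 + 2 ^ a + 2 ^ b := by positivity
  rcases hb' a ha with rfl | h1 <;> rcases hb' b hb with rfl | h2
  all_goals
    rcases c with _ | _ | c
    · omega
    · omega
    · have : 2 * (2 ^ (M + 2) - 1) ≤ (2 ^ (M + 2) - 1) * (c + 1 + 1) := by
        rw [mul_comm]; exact Nat.mul_le_mul_left _ (by omega)
      omega

variable {F : Type*} [Field F] [CharP F 2] [Fintype F] {m : ℕ} (hK : Fintype.card F = 2 ^ (2 * m + 1))

theorem wt_par_exp (u : Fˣ) (x y : ℤ) (r : ℕ) :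
    wt F4Data.tab F (par m (u ^ x, u ^ y)) r =
      u ^ (x * ev1 (2 ^ m : ℕ) (E1 r) + y * ev1 (2 ^ m : ℕ) (E2 r)) := by
  simp only [wt, show F4Data.tab.l = 4 from rfl, Finset.prod_range_succ, Finset.prod_range_zero, one_mul,
    par, ← zpow_natCast, ← zpow_mul, ← _root_.zpow_add, ev1, E1, E2]
  congr 1
  ring

include hK in
theorem orderOf_gen {u : Fˣ} (hu : orderOf u = Nat.card Fˣ) :
    (orderOf u : ℤ) = 2 * ((2 ^ m : ℕ) : ℤ) ^ 2 - 1 := by
  rw [hu, TwField.card_units (q := 2 ^ (2 * m + 1)) (k := 1) (by rw [hK, pow_one]), pow_one,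
    Nat.cast_sub Nat.one_le_two_pow]
  push_cast
  ring

include hK in
theorem pow_two_pow_mod (u : Fˣ) (x : ℕ) : u ^ 2 ^ x = u ^ 2 ^ (x % (2 * m + 1)) := by
  have hL : u ^ 2 ^ (2 * m + 1) = u := Units.ext (by
    rw [Units.val_pow_eq_pow_val, ← hK, FiniteField.pow_card])
  have hq : ∀ q : ℕ, u ^ 2 ^ ((2 * m + 1) * q) = u := by
    intro q
    induction q with
    | zero => simp
    | succ q ih => rw [Nat.mul_succ, pow_add, pow_mul, ih, hL]
  conv_lhs => rw [← Nat.div_add_mod x (2 * m + 1), pow_add, pow_mul, hq]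

include hK in
/-- every orbit has a moving torus element -/
theorem weights_free (hm : 1 ≤ m) : ∀ k ∈ secReps,
    ∃ c, tor F4Data.tab F c ∈ tw F (2 ^ m) ∧ wt F4Data.tab F c k ≠ 1 := by
  intro k hk
  obtain ⟨u, hu⟩ := IsCyclic.exists_ofOrder_eq_natCard (α := Fˣ)
  set θ : ℤ := ((2 ^ m : ℕ) : ℤ)
  refine ⟨_, par_mem hK (u ^ ev1 θ (secVec k).1, u ^ ev1 θ (secVec k).2), ?_⟩
  rw [wt_par_exp, ← ev2_comb, Ne, ← orderOf_dvd_iff_zpow_eq_one, orderOf_gen hK hu]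
  have h := tableOK k hk k hk le_rfl
  have hR : RatioOK k k := by
    rcases h with ⟨-, h, -⟩ | h
    · exact h
    · exfalso
      revert h; revert k
      decide +kernel
  obtain ⟨h1, h2, h3⟩ := hR
  simp only [secRatio, if_true] at h1 h3
  have hθ : 2 ≤ θ := by
    have : 2 ^ 1 ≤ 2 ^ m := Nat.pow_le_pow_right (by norm_num) hm
    simp only [θ]; omega
  have e : ev2 θ (comb k k) = 1 + (comb k k).2.2 / 2 * (2 * θ ^ 2 - 1) := by
    obtain ⟨c, hc⟩ := Int.dvd_of_emod_eq_zero h2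
    rw [hc, Int.mul_ediv_cancel_left _ two_ne_zero]
    simp only [ev2, h1]
    rw [hc] at h3
    have hc1 : (comb k k).1 + c = 1 := by linarith
    linear_combination hc1 + θ ^ 2 * hc
  rw [e]
  intro hd
  have h4 := (dvd_add_left (Dvd.intro_left _ rfl)).1 hd
  have := Int.le_of_dvd one_pos h4
  nlinarith

include hK in
/-- two orbits have weights that are not Galois conjugate inverses, or are one of four pairs for `m = 1` -/
theorem weights_pair (hm : 1 ≤ m) : ∀ k ∈ secReps, ∀ j ∈ secReps, j ≤ k →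
    (∃ c, tor F4Data.tab F c ∈ tw F (2 ^ m) ∧
      ∀ i < 2 * m + 1, wt F4Data.tab F c j * wt F4Data.tab F c k ^ 2 ^ i ≠ 1) ∨
    (m = 1 ∧ (j, k) ∈ secPar) := by
  intro k hk j hj hjk
  obtain ⟨u, hu⟩ := IsCyclic.exists_ofOrder_eq_natCard (α := Fˣ)
  have hord := orderOf_gen hK hu
  set θ : ℤ := ((2 ^ m : ℕ) : ℤ) with hθd
  have hθ : 2 ≤ θ := by
    have : 2 ^ 1 ≤ 2 ^ m := Nat.pow_le_pow_right (by norm_num) hm
    simp only [θ]; omega
  rcases tableOK k hk j hj hjk with ⟨hcase, hjj, hjk'⟩ | ⟨h1, h2, h3, h4, h5⟩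
  swap
  · left
    refine ⟨_, par_mem hK (u ^ ev1 θ (E2 k), u ^ (-ev1 θ (E1 k))), fun i _ => ?_⟩
    rw [wt_par_exp, wt_par_exp, show ev1 θ (E2 k) * ev1 θ (E1 k) + -ev1 θ (E1 k) * ev1 θ (E2 k) = 0 by ring,
      zpow_zero, one_pow, mul_one, show ev1 θ (E2 k) * ev1 θ (E1 j) + -ev1 θ (E1 k) * ev1 θ (E2 j) =
        ev2 θ (det j k) by rw [ev2_det]; ring, Ne, ← orderOf_dvd_iff_zpow_eq_one, hord]
    intro hd
    rcases (show m = 1 ∨ m = 2 ∨ 3 ≤ m by omega) with rfl | rfl | hm3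
    · exact h4 (Int.emod_eq_zero_of_dvd (by simpa [θ] using hd))
    · exact h5 (Int.emod_eq_zero_of_dvd (by simpa [θ] using hd))
    have hθ8 : 8 ≤ θ := by
      have : 2 ^ 3 ≤ 2 ^ m := Nat.pow_le_pow_right (by norm_num) hm3
      simp only [θ]; omega
    set A := 2 * (det j k).1 + (det j k).2.2
    set B := 2 * (det j k).2.1
    have hAB : (2 * θ ^ 2 - 1) ∣ A + B * θ := by
      have e : A + B * θ = 2 * ev2 θ (det j k) - (det j k).2.2 * (2 * θ ^ 2 - 1) := by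
        simp only [A, B, ev2]; ring
      rw [e]
      exact dvd_sub (hd.mul_left 2) (Dvd.intro_left _ rfl)
    have hA : -8 ≤ A ∧ A ≤ 8 := by omega
    have hB : -12 ≤ B ∧ B ≤ 12 := by omega
    have hne : A + B * θ ≠ 0 := by
      intro h0
      rcases lt_trichotomy B 0 with hb | hb | hb
      · have : B = -1 ∨ B ≤ -2 := by omega
        rcases this with hb1 | hb1
        · omega
        · nlinarith
      · rw [hb, zero_mul, add_zero] at h0
        rcases h3 with h3 | h3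
        · exact h3 h0
        · exact h3 hb
      · have : B = 1 ∨ 2 ≤ B := by omega
        rcases this with hb1 | hb1
        · omega
        · nlinarith
    rcases lt_or_gt_of_ne hne with hneg | hpos
    · have := Int.le_of_dvd (by linarith : 0 < -(A + B * θ)) (dvd_neg.2 hAB)
      nlinarith
    · have := Int.le_of_dvd hpos hAB
      nlinarith
  -- proportional weights
  by_cases hbad : m = 1 ∧ (j, k) ∈ secPar
  · exact Or.inr hbad
  left
  refine ⟨_, par_mem hK (u ^ ev1 θ (secVec j).1, u ^ ev1 θ (secVec j).2), fun i hi => ?_⟩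
  have hred : ∀ r, RatioOK j r → wt F4Data.tab F (par m (u ^ ev1 θ (secVec j).1, u ^ ev1 θ (secVec j).2)) r =
      u ^ ev1 θ (secRatio j r) := by
    rintro r ⟨a1, a2, a3⟩
    rw [wt_par_exp, ← ev2_comb, ← mul_inv_eq_one, ← zpow_sub, ← orderOf_dvd_iff_zpow_eq_one, hord]
    obtain ⟨c, hc⟩ := Int.dvd_of_emod_eq_zero a2
    refine ⟨c, ?_⟩
    simp only [ev2, ev1]
    have e0 : (comb j r).1 = (secRatio j r).1 - c := by omega
    rw [hc, a1, e0]
    ring
  rw [hred j hjj, hred k hjk']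
  obtain ⟨d, hd, he⟩ : ∃ d : ℕ, d ≤ 2 ∧ secRatio j k = (1, (d : ℤ)) := by
    refine ⟨if j = k then 0 else if k = 44 then 2 else 1, by split_ifs <;> norm_num, ?_⟩
    simp only [secRatio]; split_ifs <;> rfl
  rw [show secRatio j j = (1, 0) by simp [secRatio], he, ev1, ev1,
    show ((1 : ℤ), (0 : ℤ)).1 + ((1 : ℤ), (0 : ℤ)).2 * θ = ((1 : ℕ) : ℤ) by simp,
    show ((1 : ℤ), (d : ℤ)).1 + ((1 : ℤ), (d : ℤ)).2 * θ = ((1 + d * 2 ^ m : ℕ) : ℤ) by simp [θ],
    zpow_natCast, zpow_natCast, pow_one, ← pow_mul, ← pow_succ']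
  have hN : orderOf u = 2 ^ (2 * m + 1) - 1 := by
    rw [hu, TwField.card_units (q := 2 ^ (2 * m + 1)) (k := 1) (by rw [hK, pow_one]), pow_one]
  intro hone
  have hsum : ∀ s : ℕ, u ^ ((1 + d * 2 ^ m) * 2 ^ i + 1) = u ^ s → ¬ (2 ^ (2 * m + 1) - 1) ∣ s → False :=
    fun s e hs => hs (hN ▸ orderOf_dvd_of_pow_eq_one (e ▸ hone))
  interval_cases d
  · refine hsum (2 ^ i + 1) (by simp) fun hdvd => ?_
    have h22 : 2 ^ i ≤ 2 ^ (2 * m) := Nat.pow_le_pow_right (by norm_num) (by omega)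
    have h23 : 2 ^ (2 * m + 1) = 2 * 2 ^ (2 * m) := by rw [pow_succ]; ring
    have h24 : 4 ≤ 2 ^ (2 * m) := le_trans (by norm_num : 4 ≤ 2 ^ 2) (Nat.pow_le_pow_right (by norm_num) (by omega))
    have := Nat.le_of_dvd (Nat.succ_pos _) hdvd
    omega
  all_goals
    have hm2 : 2 ≤ m := by
      rcases hcase with h | h
      · subst h; simp [secRatio] at he
      · by_contra hlt
        exact hbad ⟨by omega, h⟩
  · refine hsum (1 + 2 ^ i + 2 ^ ((m + i) % (2 * m + 1))) ?_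
      (small_not_dvd (by omega) hi (Nat.mod_lt _ (by omega)))
    rw [pow_add u _ (2 ^ ((m + i) % (2 * m + 1))), ← pow_two_pow_mod hK, ← pow_add]
    congr 1
    rw [pow_add 2 m i]; ring
  · refine hsum (1 + 2 ^ i + 2 ^ ((m + 1 + i) % (2 * m + 1))) ?_
      (small_not_dvd (by omega) hi (Nat.mod_lt _ (by omega)))
    rw [pow_add u _ (2 ^ ((m + 1 + i) % (2 * m + 1))), ← pow_two_pow_mod hK, ← pow_add]
    congr 1
    rw [pow_add 2 (m + 1) i, pow_succ 2 m]; ring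

end Cfsg.Agent.Chev.TwF4
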