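import Cfsg.Agent.Lib.CentralSection.AmalgamN
import Cfsg.Agent.Lib.CentralSection.TwSection
import Cfsg.Agent.Lib.Lie.TwCox

/-!
# The frame of a twisted group of any rank
-/

set_option autoImplicit false
set_option linter.unusedSectionVars false
set_option linter.style.haveILetI false

namespace Cfsg.Agent.Chev

open Cfsg.Lie
open Matrix hiding zpow_mul inv_zpow mul_inv_rev zpow_add zpow_neg
open Cfsg.Agent.CentralSection

namespace Tab

variable {T : Tab} {K : List (List ℕ)} {F : Type*} [Field F]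

/-- the braid word, as numbers -/
def bWord {m : ℕ} (M : ℕ) (i j : Fin m) : List ℕ := (braidW M i j).1.map Fin.val

/-- the checks on the Weyl group -/
def checkBraid (T : Tab) (w : ℕ → List ℕ) {m : ℕ} (M : Fin m → Fin m → ℕ) : Bool :=
  (List.finRange m).all fun i => (List.finRange m).all fun j => decide (i = j) ||
    ((Nat.beq (M i j) 2 || Nat.beq (M i j) 3 || Nat.beq (M i j) 4) &&
      allBelow (fun s => Nat.blt s T.N || Nat.ble T.N (T.rw' (w i) s) ||
        (Nat.ble T.N (T.rw' (flatW w (bWord (M i j) i j)) s) &&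
          Nat.blt (T.rw' (w (braidW (M i j) i j).2) (T.rw' (flatW w (bWord (M i j) i j)) s)) T.N)) T.n &&
      listBeq (T.keyL (flatW w (bWord (M i j) i j) ++ w i))
        (T.keyL (w (braidW (M i j) i j).2 ++ flatW w (bWord (M i j) i j))))

namespace Twist

variable {g : T.GoodK K} (X : Twist g F)

/-- the frame -/
noncomputable def frameN {m : ℕ} (hnb : X.nb = m) : FrameN ↥X.G1 m where
  U := (genS g.toGood F (Set.Ico T.N T.n)).subgroupOf X.G1
  T := (T.D.diagonalSubgroup F).subgroupOf X.G1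
  R i := (uMinus g.toGood F (X.w i)).subgroupOf X.G1
  n i := ⟨X.n i, X.n_mem i (by rw [hnb]; exact i.isLt)⟩

/-- `N¹/H¹` is the Coxeter group, the orbit representatives going to the simple reflections -/
theorem exists_weyl_simple [Finite F] (hB : X.Blocks) {q d : ℕ} (hq : 1 < q)
    (hblk : ∀ b < X.nb, ∃ k, Nat.card ↥(uMinus g.toGood F (X.w b) ⊓ X.G1) = q ^ k ∧
      k * d = (T.invSet (X.w b)).card) {M : CoxeterMatrix (Fin X.nb)}
    (hM : ∀ a b : Fin X.nb, T.checkOrd (X.w a ++ X.w b) (M a b) = true) :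
    ∃ φ : ↥(T.D.monomialSubgroup F ⊓ X.G1) →* M.Group,
      φ.ker = (T.D.diagonalSubgroup F ⊓ X.G1).subgroupOf (T.D.monomialSubgroup F ⊓ X.G1) ∧
      ∀ b : Fin X.nb, φ ⟨X.n b, Subgroup.mem_inf.2 ⟨X.n_mem_monomial b.isLt, X.n_mem b b.isLt⟩⟩ =
        M.simple b := by
  let e := (Equiv.ofBijective _ (X.sB1_bijective hB hq hblk)).symm
  have hM' : (BN.cox (X.bnPair hB hq hblk)).reindex e = M :=
    CoxeterMatrix.ext (funext fun a => funext fun b => by
      show orderOf (BN.σ (X.bnPair hB hq hblk) (X.sB1 hB hq hblk a) *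
        BN.σ (X.bnPair hB hq hblk) (X.sB1 hB hq hblk b)) = M a b
      rw [← orderOf_injective _ (X.w1Perm_injective hB hq hblk), map_mul, w1Perm_σ, w1Perm_σ,
        ← pL_append]
      exact orderOf_pL g.toGood (hM a b))
  have hcs : ∃ cs : CoxeterSystem M (BN.W (X.bnPair hB hq hblk)),
      ∀ b, cs.simple b = BN.σ (X.bnPair hB hq hblk) (X.sB1 hB hq hblk b) := by
    subst hM'
    exact ⟨(BN.coxeterSystem (X.bnPair hB hq hblk)).reindex e, fun b => by
      rw [CoxeterSystem.reindex_simple, BN.coxeterSystem_simple]; rfl⟩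
  obtain ⟨cs, hcs⟩ := hcs
  refine ⟨cs.mulEquiv.toMonoidHom.comp (X.toW1 hB hq hblk), ?_, fun b => ?_⟩
  · rw [← X.toW1_ker hB hq hblk]
    exact MonoidHom.ker_mulEquiv_comp _ _
  · show cs.mulEquiv (X.toW1 hB hq hblk _) = _
    rw [show X.toW1 hB hq hblk _ = BN.σ (X.bnPair hB hq hblk) (X.sB1 hB hq hblk b) from rfl, ← hcs]
    exact cs.mulEquiv.apply_symm_apply _

/-- the frame is axiomatic -/
theorem frameN_axioms [Finite F] (hB : X.Blocks) {m : ℕ} (hnb : X.nb = m) {M : CoxeterMatrix (Fin m)}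
    (hchk : T.checkBraid X.w (fun i j => M i j) = true) {p k : ℕ} [Fact p.Prime]
    (hcard : Nat.card ↥(T.D.posUnipotent F ⊓ X.G1) = p ^ k)
    {q d : ℕ} (hq : 1 < q)
    (hblk : ∀ b < X.nb, ∃ k, Nat.card ↥(uMinus g.toGood F (X.w b) ⊓ X.G1) = q ^ k ∧
      k * d = (T.invSet (X.w b)).card)
    (hord : ∀ a b : Fin m, T.checkOrd (X.w a ++ X.w b) (M a b) = true)
    {S : Set (GL T.D.Idx F)} (hS : X.G1 = Subgroup.closure S)
    (hsplit : ∀ x ∈ S, x ∈ genS g.toGood F (Set.Ico T.N T.n) ∨ x ∈ genS g.toGood F (Set.Iio T.N))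
    (hn : ∀ i, (X.frameN hnb).n i ∈ (X.frameN hnb).L i) :
    (X.frameN hnb).Axioms p M := by
  have hg := g.toGood
  set Φ := X.frameN hnb with hΦ
  have hb : ∀ i : Fin m, (i : ℕ) < X.nb := fun i => by rw [hnb]; exact i.isLt
  have hnval : ∀ i, ((Φ.n i : ↥X.G1) : GL T.D.Idx F) = X.n i := fun _ => rfl
  have hflat : ∀ Ls : List ℕ, (∀ b ∈ Ls, b < X.nb) →
      ∃ y ∈ Subgroup.closure (Set.range Φ.n), ((y : ↥X.G1) : GL T.D.Idx F) = (Ls.map X.n).prod := by
    intro Ls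
    induction Ls with
    | nil => exact fun _ => ⟨1, one_mem _, by simp⟩
    | cons b Ls ih =>
      intro hb'
      obtain ⟨y, hy, e⟩ := ih fun x hx => hb' x (List.mem_cons_of_mem _ hx)
      have hb2 : b < m := hnb ▸ hb' b List.mem_cons_self
      exact ⟨Φ.n ⟨b, hb2⟩ * y, mul_mem (Subgroup.subset_closure ⟨_, rfl⟩) hy, by simp [e, hnval]⟩
  have hnu : ∀ Ls : List (Fin m), (((Ls.map Φ.n).prod : ↥X.G1) : GL T.D.Idx F) =
      ((Ls.map Fin.val).map X.n).prod := by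
    intro Ls
    induction Ls with
    | nil => simp
    | cons a Ls ih =>
      rw [List.map_cons, List.prod_cons, Subgroup.coe_mul, ih]
      simp [hnval]
  have hbw : ∀ Ls : List (Fin m), ∀ b ∈ Ls.map Fin.val, b < X.nb := fun Ls b hb' => by
    obtain ⟨a, -, rfl⟩ := List.mem_map.1 hb'
    exact hb a
  simp only [checkBraid, List.all_eq_true, List.mem_finRange, forall_const, Bool.and_eq_true,
    allBelow_eq_true, Bool.or_eq_true, decide_eq_true_eq, nat_blt, Nat.ble_eq, nat_beq,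
    listBeq_iff] at hchk
  have hN0 : ∀ ν ∈ Φ.N0, (ν : GL T.D.Idx F) ∈ T.D.monomialSubgroup F := by
    have hle : Φ.N0 ≤ (T.D.monomialSubgroup F).subgroupOf X.G1 := by
      refine sup_le (fun x hx => Subgroup.mem_sup_left hx) ((Subgroup.closure_le _).2 ?_)
      rintro _ ⟨i, rfl⟩
      exact X.n_mem_monomial (hb i)
    exact fun ν hν => hle hν
  have hTR : ∀ i, Φ.T ≤ Subgroup.normalizer (Φ.R i : Set ↥X.G1) := by
    intro i x hx
    have hx' : (x : GL T.D.Idx F) ∈ T.D.diagonalSubgroup F := hx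
    rw [diagonalSubgroup_eq hg] at hx'
    obtain ⟨c, hc⟩ := hx'
    refine Subgroup.mem_normalizer_iff.2 fun z => ?_
    show (z : GL T.D.Idx F) ∈ uMinus hg F _ ↔ ((x * z * x⁻¹ : ↥X.G1) : GL T.D.Idx F) ∈ uMinus hg F _
    rw [Subgroup.coe_mul, Subgroup.coe_mul, Subgroup.coe_inv, ← hc]
    exact Subgroup.mem_normalizer_iff.1 (tor_normalizes hg (fun r hr => hr.2.1) c) _
  have hnT : ∀ i, Φ.n i ∈ Subgroup.normalizer (Φ.T : Set ↥X.G1) := by
    have hle : ∀ x ∈ T.D.monomialSubgroup F, ∀ t ∈ T.D.diagonalSubgroup F,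
        x * t * x⁻¹ ∈ T.D.diagonalSubgroup F := by
      intro x hx t ht
      have hm : x * t * x⁻¹ ∈ T.D.monomialSubgroup F :=
        mul_mem (mul_mem hx (Subgroup.mem_sup_left ht)) (inv_mem hx)
      have hk : (⟨x * t * x⁻¹, hm⟩ : ↥(T.D.monomialSubgroup F)) ∈ (toPerm hg (F := F)).ker := by
        rw [show (⟨x * t * x⁻¹, hm⟩ : ↥(T.D.monomialSubgroup F)) =
          ⟨x, hx⟩ * ⟨t, Subgroup.mem_sup_left ht⟩ * ⟨x, hx⟩⁻¹ from rfl]
        refine Subgroup.Normal.conj_mem (MonoidHom.normal_ker _) _ ?_ _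
        rw [toPerm_ker, Subgroup.mem_subgroupOf]; exact ht
      rw [toPerm_ker, Subgroup.mem_subgroupOf] at hk
      exact hk
    intro i
    refine Subgroup.mem_normalizer_iff.2 fun t => ⟨hle _ (X.n_mem_monomial (hb i)) _, fun ht => ?_⟩
    have := hle _ (inv_mem (X.n_mem_monomial (hb i))) _ ht
    refine Subgroup.mem_subgroupOf.2 ?_
    simpa [mul_assoc, hnval] using this
  have hUN : ∀ x ∈ Φ.U, x ∈ Φ.N0 → x = 1 := fun x hx hx' =>
    Subtype.ext (pos_inf_monomial hg hx (hN0 x hx'))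
  have hsq : ∀ i, Φ.n i * Φ.n i ∈ Φ.T := by
    intro i
    obtain ⟨c, hc, -⟩ := X.flat_lift (Ls := [(i : ℕ), (i : ℕ)]) (by simp [hb i])
    refine flat_le_diag (g := g) (X.flat_wd (Ls := [(i : ℕ), (i : ℕ)]) (by simp [hb i])) (c := c) (by rw [← hc]; simp [List.map_cons, hnval]) ?_
    refine keyL_eq.2 fun j hj => ?_
    have e : flatW X.w [(i : ℕ), (i : ℕ)] = X.w i ++ X.w i := by simp [flatW]
    have h2 := hB.sq i (hb i)
    rw [← pL_nil hg, pL_eq_iff hg (Wd.append_iff.2 ⟨X.w_wd (hb i), X.w_wd (hb i)⟩) (by simp [Wd])] at h2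
    rw [e]
    exact h2 _ (hg.smp_lt hj)
  have hchk' := fun (i j : Fin m) (h : i ≠ j) => (hchk i j).resolve_left h
  constructor
  case pU =>
    refine IsPGroup.of_card (n := k) ?_
    show Nat.card ↥((genS hg F (Set.Ico T.N T.n)).subgroupOf X.G1) = _
    rw [← hcard, ← posUnipotent_eq (F := F) hg, ← Subgroup.inf_subgroupOf_right]
    exact Nat.card_congr (Subgroup.subgroupOfEquivOfLe inf_le_right).toEquiv
  case R_le => exact fun i z hz => uMinus_le_pos hg _ hz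
  case T_U =>
    intro x hx
    have hx' : (x : GL T.D.Idx F) ∈ T.D.diagonalSubgroup F := hx
    rw [diagonalSubgroup_eq hg] at hx'
    obtain ⟨c, hc⟩ := hx'
    refine Subgroup.mem_normalizer_iff.2 fun z => ?_
    show (z : GL T.D.Idx F) ∈ genS hg F (Set.Ico T.N T.n) ↔
      ((x * z * x⁻¹ : ↥X.G1) : GL T.D.Idx F) ∈ genS hg F (Set.Ico T.N T.n)
    rw [Subgroup.coe_mul, Subgroup.coe_mul, Subgroup.coe_inv, ← hc]
    exact Subgroup.mem_normalizer_iff.1 (tor_normalizes hg (fun r hr => hr.2) c) _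
  case T_R => exact hTR
  case n_T => exact hnT
  case n_sq => exact hsq
  case n_mem => exact hn
  case U_N => exact hUN
  case split =>
    intro i u hu
    have hwd := X.w_wd (hb i)
    obtain ⟨v0, hv0, hv0w, z, hz, e⟩ := (pos_decomp g.toGoodA _ hwd le_rfl).1 (u : GL T.D.Idx F) hu
    obtain ⟨a, ha⟩ := X.n_eq i (hb i)
    obtain ⟨hsG, hsσ⟩ := X.G1_le _ (X.n_mem i (hb i))
    have hconj : ∀ x, X.n i * x * (X.n i)⁻¹ =
        tor T F a * (nWd hg F (X.w i) * x * (nWd hg F (X.w i))⁻¹) * (tor T F a)⁻¹ := fun x => by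
      rw [ha]; group
    have hcp : ∀ x, X.n i * x * (X.n i)⁻¹ ∈ genS hg F (Set.Ico T.N T.n) ↔
        nWd hg F (X.w i) * x * (nWd hg F (X.w i))⁻¹ ∈ genS hg F (Set.Ico T.N T.n) := fun x => by
      rw [hconj]; exact (Subgroup.mem_normalizer_iff.1 (tor_normalizes hg (fun r hr => hr.2) a) _).symm
    have hzfix : z ∈ X.G1 := by
      have hv0G : v0 ∈ T.D.group F := genS_le_group hg hv0
      have hzG : z ∈ T.D.group F := genS_le_group hg hz
      have h1 := X.σ_pos ((hcp v0).2 hv0w)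
      rw [X.σ_conj hsG hv0G, hsσ, hcp] at h1
      obtain ⟨-, hz'⟩ := pos_decomp_unique hg hwd h1 hv0w (X.σ_uMinus hwd (X.w_comm (hb i)) hz) hz (by
        rw [← X.σ_mul _ hv0G _ hzG, ← e]; exact (X.G1_le _ u.2).2)
      exact X.uMinus_fixed_mem _ hwd (X.w_comm (hb i)) le_rfl z hz hz'
    have hv01 : v0 ∈ X.G1 := by
      rw [show v0 = (u : GL T.D.Idx F) * z⁻¹ by rw [e, mul_inv_cancel_right]]
      exact X.G1.mul_mem u.2 (X.G1.inv_mem hzfix)
    exact ⟨⟨v0, hv01⟩, hv0, (hcp v0).2 hv0w, ⟨z, hzfix⟩, hz, Subtype.ext e⟩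
  case rank1 =>
    intro i z hz hzne
    have hwd := X.w_wd (hb i)
    obtain ⟨a, ha⟩ := X.n_eq i (hb i)
    rcases X.rank_one (hb i) (z := (z : GL T.D.Idx F)) hz z.2 with hB1 | ⟨b1, hb1, hb11, u, hu, hu1, e⟩
    · exfalso
      have hneg : X.n i * z * (X.n i)⁻¹ ∈ genS hg F (Set.Iio T.N) := by
        rw [show X.n i * z * (X.n i)⁻¹ = tor T F a * (nWd hg F (X.w i) * z * (nWd hg F (X.w i))⁻¹) *
          (tor T F a)⁻¹ by rw [ha]; group]
        exact (Subgroup.mem_normalizer_iff.1 (tor_normalizes hg (fun r hr => by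
          have := n_def (T := T); have : r < T.N := hr; omega) a) _).1 (uMinus_conj_neg hg hwd hz)
      exact hzne (Subtype.ext (conj_eq_one_iff.1 (borel_inf_neg hg hB1 hneg)))
    obtain ⟨v, hv, hv1, t, ht, rfl⟩ := X.borel_fixed hb1 hb11
    set J : Set ℕ := {j | j ∈ X.J i} with hJ
    set M' : Subgroup (GL T.D.Idx F) := T.D.diagonalSubgroup F ⊔ genS hg F (T.inJ J) with hM'
    have huM : ∀ y ∈ uMinus hg F (X.w i), y ∈ M' := fun y hy => Subgroup.mem_sup_right
      (genS_mono hg (fun r hr => ((X.mem_invSet_w (hb i)).1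
        (by simp [invSet, hr.1, hr.2.1, hr.2.2])).2.2) hy)
    have htM : ∀ c, tor T F c ∈ M' := fun c =>
      Subgroup.mem_sup_left (by rw [diagonalSubgroup_eq hg]; exact ⟨c, rfl⟩)
    have hnM : X.n i ∈ M' := by
      rw [ha]
      refine mul_mem (htM a) (Subgroup.list_prod_mem _ fun y hy => ?_)
      obtain ⟨j, hj, rfl⟩ := List.mem_map.1 hy
      have hjl := hwd j hj
      have h1 := smp_mem_inJ (J := J) hg hjl (X.w_mem i (hb i) j hj)
      refine Subgroup.mem_sup_right ?_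
      rw [show nG hg F j = nE hg (T.smp j) (1 : F) by simp [nG, nE], nE]
      exact mul_mem (mul_mem (xg_mem_genS hg h1 _) (xg_mem_genS hg (inJ_neg hg h1) _)) (xg_mem_genS hg h1 _)
    have hvM : v ∈ M' := by
      rw [show v = (X.n i * z * (X.n i)⁻¹) * u⁻¹ * (X.n i)⁻¹ * (tor T F t)⁻¹ by rw [e]; group]
      exact mul_mem (mul_mem (mul_mem (mul_mem (mul_mem hnM (huM _ hz)) (inv_mem hnM))
        (inv_mem (huM _ hu))) (inv_mem hnM)) (inv_mem (htM t))
    have hsup : genS hg F (Set.Ico T.N T.n) ≤ genS hg F (T.outJ J) ⊔ uMinus hg F (X.w i) := by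
      refine genS_le hg fun r hr c => ?_
      rcases outJ_or_inJ (J := J) hr.1 hr.2 with hout | hin
      · exact Subgroup.mem_sup_left (xg_mem_genS hg hout c)
      · have := (X.mem_invSet_w (hb i)).2 ⟨hr.1, hr.2, hin⟩
        simp only [invSet, Finset.mem_filter, Finset.mem_Ico] at this
        exact Subgroup.mem_sup_right (xg_mem_genS hg (S := {r | T.N ≤ r ∧ r < T.n ∧ T.rw' (X.w i) r < T.N})
          ⟨this.1.1, this.1.2, this.2⟩ c)
    have hnorm : uMinus hg F (X.w i) ≤ Subgroup.normalizer (genS hg F (T.outJ J) : Set (GL T.D.Idx F)) :=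
      (uMinus_le_pos hg _).trans (genS_le hg fun r hr c => outJ_normalized_pos g hr.1 hr.2 c)
    have hv' := hsup hv
    rw [← SetLike.mem_coe, Subgroup.coe_mul_of_right_le_normalizer_left _ _ hnorm] at hv'
    obtain ⟨v0, hv0, z0, hz0, ev⟩ := hv'
    have hv01 : v0 = 1 := radical_inf_levi g J hv0 (by
      rw [show v0 = v * z0⁻¹ by rw [← ev]; simp]
      exact mul_mem hvM (inv_mem (huM _ hz0)))
    have hvR : v ∈ uMinus hg F (X.w i) := by rw [← ev, hv01]; simpa using hz0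
    exact ⟨⟨v, hv1⟩, hvR, ⟨tor T F t, ht⟩, (by
      show tor T F t ∈ T.D.diagonalSubgroup F
      rw [diagonalSubgroup_eq hg]; exact ⟨t, rfl⟩), ⟨u, hu1⟩, hu, Subtype.ext (by simpa [hnval] using e)⟩
  case dich =>
    intro i ν hν
    obtain ⟨L, hL, hLc, c, hnc⟩ := X.mono_class (hN0 ν hν) ν.2
    have hwd := X.w_wd (hb i)
    obtain ⟨j0, hj0⟩ : ∃ j, j ∈ X.w i := by
      rcases hw : X.w i with _ | ⟨j, l⟩
      · obtain ⟨r, hr⟩ := hB.pos i (hb i)
        simp only [invSet, hw, Finset.mem_filter, Finset.mem_Ico, rw'_nil] at hr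
        omega
      · exact ⟨j, List.mem_cons_self⟩
    have hS' : ∀ r ∈ {r | T.N ≤ r ∧ r < T.n ∧ T.rw' (X.w i) r < T.N}, r < T.n := fun r hr => hr.2.1
    have hU : ∀ {A : List ℕ} (c : ℕ → Fˣ), T.Wd A →
        (∀ r ∈ {r | T.N ≤ r ∧ r < T.n ∧ T.rw' (X.w i) r < T.N}, T.N ≤ T.rw' A.reverse r) →
        ∀ y ∈ uMinus hg F (X.w i),
          (tor T F c * nWd hg F A)⁻¹ * y * (tor T F c * nWd hg F A) ∈ genS hg F (Set.Ico T.N T.n) := by
      intro A c hA hpos' y hy
      refine genS_mono hg ?_ (nWd_rev_conj hg hA c hS' hy)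
      rintro _ ⟨r, hr, rfl⟩
      exact ⟨hpos' r hr, rw'_lt hg hA.reverse (hS' r hr)⟩
    by_cases hsign : ∃ j ∈ X.J i, T.N ≤ T.rw' L.reverse (T.smp j)
    · obtain ⟨j, hj, hjpos⟩ := hsign
      refine Or.inl fun z hz => ?_
      show ((ν⁻¹ * z * ν : ↥X.G1) : GL T.D.Idx F) ∈ genS hg F (Set.Ico T.N T.n)
      rw [Subgroup.coe_mul, Subgroup.coe_mul, Subgroup.coe_inv, hnc]
      refine hU c hL (fun r hr => ?_) _ hz
      obtain ⟨h1, h2, h3⟩ := (X.mem_invSet_w (hb i)).1 (show r ∈ T.invSet (X.w i) by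
        simp [invSet, hr.1, hr.2.1, hr.2.2])
      exact X.block_pos hL.reverse (X.neg_comm_rev hL hLc) (hb i) hj hjpos r h1 h2 h3
    push Not at hsign
    have hall : ∀ r ∈ T.invSet (X.w i), T.rw' L.reverse r < T.N := fun r hr => by
      obtain ⟨h1, h2, h3⟩ := (X.mem_invSet_w (hb i)).1 hr
      exact X.block_neg hL.reverse (X.neg_comm_rev hL hLc) (hb i) (X.w_mem i (hb i) j0 hj0)
        (hsign j0 (X.w_mem i (hb i) j0 hj0)) r h1 h2 h3
    obtain ⟨a, ha⟩ := X.n_eq i (hb i)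
    obtain ⟨e', he'⟩ := torus_pass hg (nWd_mem_wSub (F := F) hg hwd) c
    refine Or.inr fun z hz => ?_
    show (((Φ.n i * ν)⁻¹ * z * (Φ.n i * ν) : ↥X.G1) : GL T.D.Idx F) ∈ genS hg F (Set.Ico T.N T.n)
    have hsn : X.n i * ν = tor T F (a * e') * nWd hg F (X.w i ++ L) := by
      rw [ha, hnc, map_mul, nWd_append]
      simp only [mul_assoc]
      rw [← mul_assoc (nWd hg F (X.w i)), he', mul_assoc]
    rw [Subgroup.coe_mul, Subgroup.coe_mul, Subgroup.coe_inv, Subgroup.coe_mul, hnval, hsn]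
    refine hU _ (Wd.append_iff.2 ⟨hwd, hL⟩) (fun r ⟨h1, h2, h3⟩ => ?_) _ hz
    have hinvol : ∀ r < T.n, T.rw' (X.w i).reverse r = T.rw' (X.w i) r := fun r hr => by
      have := hB.sq i (hb i)
      rw [pL_append, mul_eq_one_iff_eq_inv, pL_inv] at this
      exact ((pL_eq_iff hg hwd hwd.reverse).1 this r hr).symm
    rw [List.reverse_append, rw'_append, hinvol r h2]
    have hu := rw'_lt hg hwd h2
    have hm : T.neg (T.rw' (X.w i) r) ∈ T.invSet (X.w i) := by
      simp only [invSet, Finset.mem_filter, Finset.mem_Ico]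
      refine ⟨⟨(N_le_neg_iff hu).2 h3, neg_lt hu⟩, ?_⟩
      rw [rw'_neg hg hwd hu, ← hinvol _ hu, rw'_rev hg hwd h2]
      exact (neg_lt_N_iff h2).2 h1
    have := hall _ hm
    rwa [rw'_neg hg hL.reverse hu, neg_lt_N_iff (rw'_lt hg hL.reverse hu)] at this
  case T_comm => exact fun a ha b hb => X.Tg_comm ha hb
  case bond =>
    intro i j hij
    rcases (hchk' i j hij).1.1 with (h | h) | h
    exacts [Or.inl h, Or.inr (Or.inl h), Or.inr (Or.inr h)]
  case braidR =>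
    intro i j hij z hz
    obtain ⟨⟨-, hroots⟩, -⟩ := hchk' i j hij
    unfold bWord at hroots
    generalize braidW (M i j) i j = W at hroots ⊢
    obtain ⟨Ls, y⟩ := W
    dsimp only at hroots ⊢
    obtain ⟨c, hc, -⟩ := X.flat_lift (hbw Ls)
    have hsub : ∀ (y : Fin m), ∀ r ∈ {r | T.N ≤ r ∧ r < T.n ∧ T.rw' (X.w y) r < T.N}, r < T.n :=
      fun y r hr => hr.2.1
    have h2 := Subgroup.mem_map_of_mem (MulAut.conj (nWd hg F (flatW X.w (Ls.map Fin.val)))).toMonoidHom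
      (show (z : GL T.D.Idx F) ∈ uMinus hg F (X.w i) from hz)
    rw [uMinus, genS_map_nWd hg (X.flat_wd (hbw Ls)) (hsub i)] at h2
    have h3 : nWd hg F (flatW X.w (Ls.map Fin.val)) * z * (nWd hg F (flatW X.w (Ls.map Fin.val)))⁻¹ ∈
        uMinus hg F (X.w y) := by
      refine genS_mono hg ?_ h2
      rintro _ ⟨r, ⟨h1, h2', h3⟩, rfl⟩
      rcases hroots r h2' with (h4 | h4) | h4
      · omega
      · omega
      · exact ⟨h4.1, rw'_lt hg (X.flat_wd (hbw Ls)) h2', h4.2⟩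
    show (((Ls.map Φ.n).prod * z * (Ls.map Φ.n).prod⁻¹ : ↥X.G1) : GL T.D.Idx F) ∈ uMinus hg F (X.w y)
    rw [Subgroup.coe_mul, Subgroup.coe_mul, Subgroup.coe_inv, hnu, hc, show tor T F c *
      nWd hg F (flatW X.w (Ls.map Fin.val)) * z * (tor T F c * nWd hg F (flatW X.w (Ls.map Fin.val)))⁻¹ =
      tor T F c * (nWd hg F (flatW X.w (Ls.map Fin.val)) * z *
        (nWd hg F (flatW X.w (Ls.map Fin.val)))⁻¹) * (tor T F c)⁻¹ by group]
    exact (Subgroup.mem_normalizer_iff.1 (tor_normalizes hg (hsub y) c) _).1 h3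
  case braidN =>
    intro i j hij
    obtain ⟨-, hkey⟩ := hchk' i j hij
    unfold bWord at hkey
    generalize braidW (M i j) i j = W at hkey ⊢
    obtain ⟨Ls, y⟩ := W
    dsimp only at hkey ⊢
    set A := Ls.map Fin.val with hA
    have h1 : ∀ b ∈ A ++ [(i : ℕ)], b < X.nb := fun b hb' => by
      rcases List.mem_append.1 hb' with hb' | hb'
      · exact hbw Ls b hb'
      · rw [List.mem_singleton.1 hb']; exact hb i
    have h2 : ∀ b ∈ (y : ℕ) :: A, b < X.nb := fun b hb' => by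
      rcases List.mem_cons.1 hb' with rfl | hb'
      · exact hb y
      · exact hbw Ls b hb'
    have w1 : T.Wd (flatW X.w A ++ X.w i) := Wd.append_iff.2 ⟨X.flat_wd (hbw Ls), X.w_wd (hb i)⟩
    have w2 : T.Wd (X.w y ++ flatW X.w A) := Wd.append_iff.2 ⟨X.w_wd (hb y), X.flat_wd (hbw Ls)⟩
    obtain ⟨c, hc, -⟩ := X.flat_lift h1
    obtain ⟨c', hc', -⟩ := X.flat_lift h2
    obtain ⟨d, hd⟩ := nWd_same_perm (F := F) hg w1 w2 (pL_eq_of_simple hg w1 w2 (keyL_eq.1 hkey))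
    have e1 : flatW X.w (A ++ [(i : ℕ)]) = flatW X.w A ++ X.w i := by
      rw [flatW_append, flatW_singleton]
    have e2 : (((Ls.map Φ.n).prod * Φ.n i : ↥X.G1) : GL T.D.Idx F) = tor T F c * (tor T F d *
        nWd hg F (X.w y ++ flatW X.w A)) := by
      rw [← hd, ← e1, ← hc, Subgroup.coe_mul, hnu]; simp [hnval, hA]
    have e3 : ((Φ.n y * (Ls.map Φ.n).prod : ↥X.G1) : GL T.D.Idx F) = tor T F c' *
        nWd hg F (X.w y ++ flatW X.w A) := by
      rw [← flatW_cons, ← hc', Subgroup.coe_mul, hnu]; simp [hnval, hA]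
    show (((Ls.map Φ.n).prod * Φ.n i * (Ls.map Φ.n).prod⁻¹ * (Φ.n y)⁻¹ : ↥X.G1) : GL T.D.Idx F) ∈
      T.D.diagonalSubgroup F
    rw [show (Ls.map Φ.n).prod * Φ.n i * (Ls.map Φ.n).prod⁻¹ * (Φ.n y)⁻¹ =
      ((Ls.map Φ.n).prod * Φ.n i) * (Φ.n y * (Ls.map Φ.n).prod)⁻¹ by group,
      Subgroup.coe_mul, Subgroup.coe_inv, e2, e3, diagonalSubgroup_eq hg]
    refine ⟨c * d * c'⁻¹, ?_⟩
    rw [map_mul, map_mul, map_inv]; group
  case weyl =>
    subst hnb
    obtain ⟨φ, hker, hφ⟩ := X.exists_weyl_simple hB hq hblk hord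
    refine ⟨φ.comp ((X.G1.subtype.comp Φ.N0.subtype).codRestrict _
      fun x => Subgroup.mem_inf.2 ⟨hN0 x.1 x.2, x.1.2⟩), fun i => ?_, fun t ht => ?_⟩
    · exact hφ i
    · refine MonoidHom.mem_ker.1 ?_
      rw [← MonoidHom.comap_ker, Subgroup.mem_comap, hker, Subgroup.mem_subgroupOf]
      exact Subgroup.mem_inf.2 ⟨ht, t.2⟩
  case gen =>
    rw [eq_top_iff]
    intro x _
    set H := Φ.U ⊔ Subgroup.closure (Set.range Φ.n) with hH
    have hle : X.G1 ≤ H.map X.G1.subtype := by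
      refine hS.le.trans ((Subgroup.closure_le _).2 fun y hy => ?_)
      have hy1 : y ∈ X.G1 := hS ▸ Subgroup.subset_closure hy
      rcases hsplit y hy with hp | hnn
      · exact ⟨⟨y, hy1⟩, Subgroup.mem_sup_left hp, rfl⟩
      obtain ⟨L, hL, hLc, hneg⟩ := X.exists_longest_comm
      obtain ⟨Ls, hLs, hp⟩ := X.exists_flat _ hL hLc le_rfl
      obtain ⟨c, hc, hm⟩ := X.flat_lift hLs
      obtain ⟨nn, hnn', en⟩ := hflat Ls hLs
      have hfw := X.flat_wd hLs
      have hlt : ∀ r ∈ Set.Iio T.N, r < T.n := fun r hr => by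
        have := n_def (T := T); have : r < T.N := hr; omega
      have hneg' : ∀ s, T.N ≤ s → s < T.n → T.rw' (flatW X.w Ls) s < T.N := fun s h1 h2 => by
        rw [← (pL_eq_iff hg hL hfw).1 hp s h2]; exact hneg s h1 h2
      have h1 : (nn : GL T.D.Idx F)⁻¹ * y * nn ∈ genS hg F (Set.Ico T.N T.n) := by
        rw [en, hc]
        refine genS_mono hg ?_ (nWd_rev_conj hg hfw c hlt hnn)
        rintro _ ⟨r, hr, rfl⟩
        have hrn := hlt r hr
        have hv := rw'_lt hg hfw.reverse hrn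
        refine ⟨?_, hv⟩
        by_contra hh
        have h := hneg' _ ((N_le_neg_iff hv).2 (not_le.1 hh)) (neg_lt hv)
        rw [rw'_neg hg hfw hv, rw'_rev' hg hfw hrn, neg_lt_N_iff hrn] at h
        have : r < T.N := hr
        omega
      refine ⟨nn * (nn⁻¹ * ⟨y, hy1⟩ * nn) * nn⁻¹,
        mul_mem (mul_mem (Subgroup.mem_sup_right hnn') (Subgroup.mem_sup_left ?_))
          (inv_mem (Subgroup.mem_sup_right hnn')), ?_⟩
      · refine Subgroup.mem_subgroupOf.2 ?_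
        simpa using h1
      · simp only [Subgroup.coe_subtype, Subgroup.coe_mul, Subgroup.coe_inv]; group
    obtain ⟨x', hx', e⟩ := hle x.2
    rwa [show x = x' from Subtype.ext e.symm]

end Twist

end Tab

end Cfsg.Agent.Chev
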