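import Cfsg.Agent.Lib.CentralSection.Basic
import Mathlib.Algebra.Polynomial.Roots
import Mathlib.FieldTheory.Finite.Basic
import Mathlib.GroupTheory.OrderOfElement

/-!
# Weights

Commutators between two layers vanish modulo the section when the weights of a torus element on
them are not Galois conjugates of mutual inverses.
-/

set_option autoImplicit false
set_option linter.unusedSectionVars false
set_option linter.style.haveILetI false

namespace Cfsg.Agent.CentralSection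

open scoped commutatorElement
open Polynomial

/-- An invariant biadditive map on additive subgroups stable under the weights vanishes. -/
theorem vanish_on {F : Type*} [Field F] [Fintype F] {p N : ℕ} [Fact p.Prime] [CharP F p]
    (hcard : Fintype.card F = p ^ N) {A B : AddSubgroup F} {M : Type*} [AddCommGroup M]
    (φ : A →+ B →+ M) (k w : F) (hA : ∀ a ∈ A, w * a ∈ A) (hB : ∀ b ∈ B, k * b ∈ B)
    (hinv : ∀ (a : A) (b : B), φ ⟨w * a, hA _ a.2⟩ ⟨k * b, hB _ b.2⟩ = φ a b)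
    (hne : ∀ j < N, w * k ^ p ^ j ≠ 1) (hw : w ≠ 0) (a : A) (b : B) : φ a b = 0 := by
  classical
  obtain ⟨M', rfl⟩ : ∃ M', N = M' + 1 := by
    rcases N with _ | M'
    · have := Fintype.one_lt_card (α := F)
      rw [hcard, pow_zero] at this
      omega
    · exact ⟨M', rfl⟩
  let g : F[X] := ∏ j ∈ Finset.range (M' + 1), (Polynomial.X - C (k ^ p ^ j))
  have hfrob : g.map (frobenius F p) = g := by
    simp only [g, Polynomial.map_prod, Polynomial.map_sub, Polynomial.map_X, Polynomial.map_C, frobenius_def,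
      ← pow_mul, ← pow_succ]
    rw [Finset.prod_range_succ, Finset.prod_range_succ' (n := M')]
    congr 1
    rw [pow_zero, pow_one, ← hcard, FiniteField.pow_card]
  have hcoeff : ∀ i, ∃ n : ℕ, g.coeff i = (n : F) := by
    intro i
    have h := congrArg (fun q => Polynomial.coeff q i) hfrob
    simp only [Polynomial.coeff_map, frobenius_def] at h
    obtain ⟨z, hz⟩ := (_root_.mem_bot_iff_intCast p F).1 ((Subfield.mem_bot_iff_pow_eq_self (F := F) (p := p)).2 h)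
    obtain ⟨n, hn⟩ : ∃ n : ℕ, (z : F) = (n : F) :=
      ⟨(z : ZMod p).val, by
        rw [← map_natCast (ZMod.castHom dvd_rfl F), ZMod.natCast_zmod_val, map_intCast]⟩
    exact ⟨n, hz.symm.trans hn⟩
  choose n hn using hcoeff
  have heval : ∀ x : F, g.eval x = ∑ i ∈ Finset.range (g.natDegree + 1), n i • x ^ i := by
    intro x
    rw [Polynomial.eval_eq_sum_range]
    exact Finset.sum_congr rfl fun i _ => by rw [hn i, nsmul_eq_mul]
  have hgk : g.eval k = 0 := by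
    simp only [g, Polynomial.eval_prod]
    exact Finset.prod_eq_zero (Finset.mem_range.mpr (Nat.succ_pos M')) (by simp)
  have hgw : g.eval w⁻¹ ≠ 0 := by
    simp only [g, Polynomial.eval_prod, Finset.prod_ne_zero_iff]
    intro j hj
    simp only [eval_sub, eval_X, eval_C, sub_ne_zero]
    intro e
    exact hne j (Finset.mem_range.mp hj) (by rw [← e, mul_inv_cancel₀ hw])
  -- stability under powers
  have hwpow : ∀ i : ℕ, ∀ a ∈ A, w ^ i * a ∈ A := by
    intro i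
    induction i with
    | zero => simp
    | succ i ih => intro a ha; rw [pow_succ', mul_assoc]; exact hA _ (ih a ha)
  have hkpow : ∀ i : ℕ, ∀ b ∈ B, k ^ i * b ∈ B := by
    intro i
    induction i with
    | zero => simp
    | succ i ih => intro b hb; rw [pow_succ', mul_assoc]; exact hB _ (ih b hb)
  obtain ⟨e, he, hwe⟩ : ∃ e : ℕ, 1 ≤ e ∧ w ^ e = 1 := ⟨Fintype.card F - 1, by
    have := Fintype.one_lt_card (α := F); omega, FiniteField.pow_card_sub_one_eq_one w hw⟩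
  have hwinv : ∀ i : ℕ, ∀ a ∈ A, w⁻¹ ^ i * a ∈ A := by
    intro i a ha
    have : w⁻¹ = w ^ (e - 1) := by
      refine inv_eq_of_mul_eq_one_right ?_
      rw [← pow_succ', Nat.sub_add_cancel he, hwe]
    rw [this, ← pow_mul]
    exact hwpow _ a ha
  have hiter : ∀ (i : ℕ) (a : A) (b : B),
      φ a ⟨k ^ i * b, hkpow i _ b.2⟩ = φ ⟨w⁻¹ ^ i * a, hwinv i _ a.2⟩ b := by
    intro i
    induction i with
    | zero => intro a b; congr 2 <;> simp
    | succ i ih =>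
      intro a b
      have h1 := hinv ⟨w⁻¹ * a, by simpa using hwinv 1 _ a.2⟩ ⟨k ^ i * b, hkpow i _ b.2⟩
      have ea : (⟨w * (w⁻¹ * a), hA _ (by simpa using hwinv 1 _ a.2)⟩ : A) = a :=
        Subtype.ext (by simp [← mul_assoc, hw])
      have eb : (⟨k * (k ^ i * b), hB _ (hkpow i _ b.2)⟩ : B) = ⟨k ^ (i + 1) * b, hkpow _ _ b.2⟩ :=
        Subtype.ext (by simp [pow_succ', mul_assoc])
      rw [ea, eb] at h1
      rw [h1, ih]
      congr 2
      exact Subtype.ext (by simp [pow_succ, mul_assoc])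
  -- the polynomial in `w⁻¹`
  have hsum : ∀ a : A, (g.eval w⁻¹) * (a : F) ∈ A := fun a => by
    rw [heval, Finset.sum_mul]
    exact A.sum_mem fun i _ => by rw [smul_mul_assoc]; exact A.nsmul_mem (hwinv i _ a.2) _
  have key : ∀ a : A, φ ⟨g.eval w⁻¹ * a, hsum a⟩ b = 0 := fun a => by
    have e1 : (⟨g.eval w⁻¹ * a, hsum a⟩ : A) =
        ∑ i ∈ Finset.range (g.natDegree + 1), n i • (⟨w⁻¹ ^ i * a, hwinv i _ a.2⟩ : A) :=
      Subtype.ext (by simp [heval, Finset.sum_mul, smul_mul_assoc, mul_assoc])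
    have e2 : (0 : B) = ∑ i ∈ Finset.range (g.natDegree + 1), n i • (⟨k ^ i * b, hkpow i _ b.2⟩ : B) :=
      Subtype.ext (by
        simp only [AddSubgroup.coe_zero, AddSubgroup.val_finsetSum, AddSubgroupClass.coe_nsmul,
          ← smul_mul_assoc, ← Finset.sum_mul, ← heval, hgk, zero_mul])
    rw [e1, map_sum, AddMonoidHom.finsetSum_apply]
    simp only [map_nsmul, AddMonoidHom.nsmul_apply, ← hiter]
    simp only [← map_nsmul, ← map_sum, ← e2, map_zero]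
  -- multiplication by it is onto `A`
  have hsurj : Function.Surjective fun a : A => (⟨g.eval w⁻¹ * a, hsum a⟩ : A) :=
    Finite.injective_iff_surjective.1 fun a a' h =>
      Subtype.ext (mul_left_cancel₀ hgw (congrArg Subtype.val h))
  obtain ⟨a', rfl⟩ := hsurj a
  exact key a'

variable {X G : Type*} [Group X] [Group G] (ξ : X →* G) (hc : ξ.ker ≤ Subgroup.center X)
  (hs : Function.Surjective ξ)

/-- A coordinate on a layer `V / V'`, with weights for the torus. -/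
structure Layer (T V V' : Subgroup G) (F : Type*) [Field F] where
  /-- the coordinate -/
  ρ : G → F
  /-- the weight -/
  χ : G → F
  add : ∀ a ∈ V, ∀ b ∈ V, ρ (a * b) = ρ a + ρ b
  zero : ∀ a ∈ V, (ρ a = 0 ↔ a ∈ V')
  weight : ∀ t ∈ T, ∀ a ∈ V, ρ (t * a * t⁻¹) = χ t * ρ a

namespace Layer

variable {T V V' : Subgroup G} {F : Type*} [Field F] (L : Layer T V V' F)

theorem ρ_one : L.ρ 1 = 0 := by
  have := L.add 1 (one_mem _) 1 (one_mem _)
  rw [one_mul] at this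
  exact left_eq_add.1 this

theorem ρ_inv {a : G} (ha : a ∈ V) : L.ρ a⁻¹ = -L.ρ a := by
  have := L.add a ha a⁻¹ (inv_mem ha)
  rw [mul_inv_cancel, L.ρ_one] at this
  exact (neg_eq_of_add_eq_zero_right this.symm).symm

/-- the values of the coordinate -/
def range : AddSubgroup F where
  carrier := {x | ∃ a ∈ V, L.ρ a = x}
  zero_mem' := ⟨1, one_mem _, L.ρ_one⟩
  add_mem' := by rintro _ _ ⟨a, ha, rfl⟩ ⟨b, hb, rfl⟩; exact ⟨a * b, mul_mem ha hb, L.add a ha b hb⟩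
  neg_mem' := by rintro _ ⟨a, ha, rfl⟩; exact ⟨a⁻¹, inv_mem ha, L.ρ_inv ha⟩

theorem χ_mul_mem {t : G} (ht : t ∈ T) (hTV : T ≤ Subgroup.normalizer (V : Set G)) :
    ∀ x ∈ L.range, L.χ t * x ∈ L.range := by
  rintro _ ⟨a, ha, rfl⟩
  exact ⟨t * a * t⁻¹, (Subgroup.mem_normalizer_iff.1 (hTV ht) a).1 ha, L.weight t ht a ha⟩

include L in
/-- a layer with a weight different from one has no fixed points -/
theorem free (hTV : T ≤ Subgroup.normalizer (V : Set G)) {t : G} (ht : t ∈ T) (h1 : L.χ t ≠ 1) :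
    ∀ v ∈ V, ⁅t, v⁆ ∈ V' → v ∈ V' := fun v hv h => by
  have hconj : t * v * t⁻¹ ∈ V := (Subgroup.mem_normalizer_iff.1 (hTV ht) v).1 hv
  rw [← L.zero v hv]
  rw [commutatorElement_def, ← L.zero _ (mul_mem hconj (inv_mem hv)), L.add _ hconj _ (inv_mem hv),
    L.weight t ht v hv, L.ρ_inv hv, ← sub_eq_add_neg, ← sub_one_mul, mul_eq_zero] at h
  exact h.resolve_left (sub_ne_zero.2 h1)

end Layer

include hc hs in
/-- the commutators of two layers vanish modulo the section -/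
theorem pair {T U W W' V V' : Subgroup G} {N : Subgroup X}
    (hTW : T ≤ Subgroup.normalizer (W : Set G)) (hTV : T ≤ Subgroup.normalizer (V : Set G))
    (hWU : W ≤ U) (hVU : V ≤ U) (hUV : ∀ u ∈ U, ∀ v ∈ V, ⁅u, v⁆ ∈ V') (hV'U : V' ≤ U)
    (hN : IsSection ξ V' N) (hNU : U.comap ξ ≤ Subgroup.normalizer (N : Set X))
    (hNT : T.comap ξ ≤ Subgroup.normalizer (N : Set X))
    {F : Type*} [Field F] [Fintype F] {p e : ℕ} [Fact p.Prime] [CharP F p]
    (hcard : Fintype.card F = p ^ e)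
    (LW : Layer T W W' F) (LV : Layer T V V' F)
    (hW' : ∀ x y, ξ x ∈ W' → ξ y ∈ V → ⁅x, y⁆ ∈ N)
    {t : G} (ht : t ∈ T) (hne : ∀ j < e, LW.χ t * LV.χ t ^ p ^ j ≠ 1) (hw : LW.χ t ≠ 0) :
    ∀ x y, ξ x ∈ W → ξ y ∈ V → ⁅x, y⁆ ∈ N := by
  classical
  letI : CommGroup ξ.ker :=
    { (inferInstance : Group ξ.ker) with
      mul_comm := fun a b => Subtype.ext (central ξ hc a.2 b) }
  let L : G → X := Function.surjInv hs
  have hL : ∀ g, ξ (L g) = g := fun g => Function.surjInv_eq hs g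
  -- the `Z`-part of a commutator modulo `N`
  have hdec : ∀ x y, ξ x ∈ U → ξ y ∈ V → ∃ z : ξ.ker, ⁅x, y⁆ * (z : X)⁻¹ ∈ N := by
    intro x y hx hy
    obtain ⟨n, hn, en⟩ := hN.lift (show ξ ⁅x, y⁆ ∈ V' by rw [map_commutatorElement]; exact hUV _ hx _ hy)
    refine ⟨⟨n⁻¹ * ⁅x, y⁆, by rw [MonoidHom.mem_ker, map_mul, map_inv, en, inv_mul_cancel]⟩, ?_⟩
    simp only [_root_.mul_inv_rev, inv_inv, mul_inv_cancel_left]
    exact hn
  have huniq : ∀ (a : X) (z z' : ξ.ker), a * (z : X)⁻¹ ∈ N → a * (z' : X)⁻¹ ∈ N → z = z' := by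
    intro a z z' h h'
    have := mul_mem (inv_mem h') h
    rw [_root_.mul_inv_rev, inv_inv, mul_assoc, inv_mul_cancel_left] at this
    have := hN.inj _ this (by rw [map_mul, map_inv, show ξ z = 1 from z.2, show ξ z' = 1 from z'.2]; simp)
    exact Subtype.ext (mul_inv_eq_one.1 this).symm
  choose ψ hψ using hdec
  have hψ' : ∀ x y (hx : ξ x ∈ U) (hy : ξ y ∈ V) (z : ξ.ker), ⁅x, y⁆ * (z : X)⁻¹ ∈ N → ψ x y hx hy = z :=
    fun x y hx hy z h => huniq _ _ _ (hψ x y hx hy) h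
  have hnconj : ∀ a, ξ a ∈ U → ∀ n ∈ N, a * n * a⁻¹ ∈ N := fun a ha n hn =>
    (Subgroup.mem_normalizer_iff.1 (hNU ha) n).1 hn
  have hψl : ∀ a b y (ha : ξ a ∈ U) (hb : ξ b ∈ U) (hy : ξ y ∈ V),
      ψ (a * b) y (by rw [map_mul]; exact mul_mem ha hb) hy = ψ a y ha hy * ψ b y hb hy := by
    intro a b y ha hb hy
    refine hψ' _ _ _ _ _ ?_
    have h1 := hψ a y ha hy
    have h2 := hψ b y hb hy
    set za : X := (ψ a y ha hy : X) with hza
    set zb : X := (ψ b y hb hy : X) with hzb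
    have cb := central ξ hc (show ξ zb⁻¹ = 1 by rw [map_inv, hzb]; simp [show ξ (ψ b y hb hy : X) = 1 from (ψ b y hb hy).2])
    rw [Subgroup.coe_mul, ← hza, ← hzb, _root_.mul_inv_rev,
      show ⁅a * b, y⁆ = a * ⁅b, y⁆ * a⁻¹ * ⁅a, y⁆ by simp only [commutatorElement_def]; group]
    rw [show a * ⁅b, y⁆ * a⁻¹ * ⁅a, y⁆ * (zb⁻¹ * za⁻¹) = (a * (⁅b, y⁆ * zb⁻¹) * a⁻¹) * (⁅a, y⁆ * za⁻¹) by
      calc _ = a * ⁅b, y⁆ * ((a⁻¹ * ⁅a, y⁆) * zb⁻¹) * za⁻¹ := by group
        _ = a * ⁅b, y⁆ * (zb⁻¹ * (a⁻¹ * ⁅a, y⁆)) * za⁻¹ := by rw [cb (a⁻¹ * ⁅a, y⁆)]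
        _ = _ := by group]
    exact mul_mem (hnconj a ha _ h2) h1
  have hψr : ∀ x a b (hx : ξ x ∈ U) (ha : ξ a ∈ V) (hb : ξ b ∈ V),
      ψ x (a * b) hx (by rw [map_mul]; exact mul_mem ha hb) = ψ x a hx ha * ψ x b hx hb := by
    intro x a b hx ha hb
    refine hψ' _ _ _ _ _ ?_
    have h1 := hψ x a hx ha
    have h2 := hψ x b hx hb
    set za : X := (ψ x a hx ha : X) with hza
    set zb : X := (ψ x b hx hb : X) with hzb
    have ca := central ξ hc (show ξ za⁻¹ = 1 by rw [map_inv, hza]; simp [show ξ (ψ x a hx ha : X) = 1 from (ψ x a hx ha).2])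
    rw [Subgroup.coe_mul, ← hza, ← hzb, _root_.mul_inv_rev,
      show ⁅x, a * b⁆ = ⁅x, a⁆ * (a * ⁅x, b⁆ * a⁻¹) by simp only [commutatorElement_def]; group]
    rw [show ⁅x, a⁆ * (a * ⁅x, b⁆ * a⁻¹) * (zb⁻¹ * za⁻¹) = ⁅x, a⁆ * za⁻¹ * (a * (⁅x, b⁆ * zb⁻¹) * a⁻¹) by
      have cb := central ξ hc (show ξ zb⁻¹ = 1 by rw [map_inv, hzb]; simp [show ξ (ψ x b hx hb : X) = 1 from (ψ x b hx hb).2])
      calc _ = ⁅x, a⁆ * (a * ⁅x, b⁆ * a⁻¹ * zb⁻¹) * za⁻¹ := by group
        _ = ⁅x, a⁆ * (za⁻¹ * (a * ⁅x, b⁆ * a⁻¹ * zb⁻¹)) := by rw [mul_assoc, ← ca]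
        _ = ⁅x, a⁆ * za⁻¹ * (a * ⁅x, b⁆ * (a⁻¹ * zb⁻¹)) := by group
        _ = _ := by rw [← cb a⁻¹]; group]
    exact mul_mem h1 (hnconj a (hVU ha) _ h2)
  -- independence of the representatives
  have hWrep : ∀ x x' y (hx : ξ x ∈ W) (hx' : ξ x' ∈ W) (hy : ξ y ∈ V), LW.ρ (ξ x) = LW.ρ (ξ x') →
      ψ x y (hWU hx) hy = ψ x' y (hWU hx') hy := by
    intro x x' y hx hx' hy e
    have hd : ξ (x'⁻¹ * x) ∈ W := by rw [map_mul, map_inv]; exact mul_mem (inv_mem hx') hx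
    have h0 : ξ (x'⁻¹ * x) ∈ W' := by
      rw [← LW.zero _ hd, map_mul, map_inv, LW.add _ (inv_mem hx') _ hx, LW.ρ_inv hx', e, neg_add_cancel]
    have h1 : ψ (x'⁻¹ * x) y (hWU hd) hy = 1 := hψ' _ _ _ _ _ (by simpa using hW' _ _ h0 hy)
    have h2 := hψl x' (x'⁻¹ * x) y (hWU hx') (hWU hd) hy
    rw [h1, mul_one] at h2
    simpa only [mul_inv_cancel_left] using h2
  have hVrep : ∀ x y y' (hx : ξ x ∈ U) (hy : ξ y ∈ V) (hy' : ξ y' ∈ V), LV.ρ (ξ y) = LV.ρ (ξ y') →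
      ψ x y hx hy = ψ x y' hx hy' := by
    intro x y y' hx hy hy' e
    have hd : ξ (y'⁻¹ * y) ∈ V := by rw [map_mul, map_inv]; exact mul_mem (inv_mem hy') hy
    have h0 : ξ (y'⁻¹ * y) ∈ V' := by
      rw [← LV.zero _ hd, map_mul, map_inv, LV.add _ (inv_mem hy') _ hy, LV.ρ_inv hy', e, neg_add_cancel]
    obtain ⟨n, hn, en⟩ := hN.lift h0
    have h1 : ψ x (y'⁻¹ * y) hx hd = 1 := hψ' _ _ _ _ _ (by
      rw [comm_congr ξ hc (a := x) (a' := x) (b' := n) rfl en.symm]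
      simpa using comap_commutator_mem ξ hc hs hNU hx hn)
    have h2 := hψr x y' (y'⁻¹ * y) hx hy' hd
    rw [h1, mul_one] at h2
    simpa only [mul_inv_cancel_left] using h2
  -- the biadditive map
  have hrA : ∀ a : LW.range, ∃ x, ξ x ∈ W ∧ LW.ρ (ξ x) = a := fun a => by
    obtain ⟨g, hg, e⟩ := a.2; exact ⟨L g, by rwa [hL], by rwa [hL]⟩
  have hrB : ∀ b : LV.range, ∃ y, ξ y ∈ V ∧ LV.ρ (ξ y) = b := fun b => by
    obtain ⟨g, hg, e⟩ := b.2; exact ⟨L g, by rwa [hL], by rwa [hL]⟩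
  choose xa hxa exa using hrA
  choose yb hyb eyb using hrB
  let φ : LW.range →+ LV.range →+ Additive ξ.ker := AddMonoidHom.mk'
    (fun a => AddMonoidHom.mk' (fun b => Additive.ofMul (ψ (xa a) (yb b) (hWU (hxa a)) (hyb b)))
      fun b b' => by
        rw [← ofMul_mul, ← hψr]
        congr 1
        exact hVrep _ _ _ _ _ _ (by rw [eyb, map_mul, LV.add _ (hyb b) _ (hyb b'), eyb, eyb]; rfl))
    fun a a' => AddMonoidHom.ext fun b => by
      simp only [AddMonoidHom.add_apply, AddMonoidHom.mk'_apply]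
      rw [← ofMul_mul, ← hψl]
      congr 1
      exact hWrep _ _ _ (hxa _) (by rw [map_mul]; exact mul_mem (hxa a) (hxa a')) _
        (by rw [exa, map_mul, LW.add _ (hxa a) _ (hxa a'), exa, exa]; rfl)
  obtain ⟨τ, hτ⟩ := hs t
  have hinv : ∀ (a : LW.range) (b : LV.range),
      φ ⟨LW.χ t * a, LW.χ_mul_mem ht hTW _ a.2⟩ ⟨LV.χ t * b, LV.χ_mul_mem ht hTV _ b.2⟩ = φ a b := by
    intro a b
    set x' := τ * xa a * τ⁻¹
    set y' := τ * yb b * τ⁻¹
    have hx' : ξ x' ∈ W := by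
      simp only [x', map_mul, map_inv, hτ]
      exact (Subgroup.mem_normalizer_iff.1 (hTW ht) _).1 (hxa a)
    have hy' : ξ y' ∈ V := by
      simp only [y', map_mul, map_inv, hτ]
      exact (Subgroup.mem_normalizer_iff.1 (hTV ht) _).1 (hyb b)
    show Additive.ofMul _ = Additive.ofMul _
    congr 1
    rw [hWrep _ x' _ (hxa _) hx' _ (by
        rw [exa]; simp only [x', map_mul, map_inv, hτ]; rw [LW.weight t ht _ (hxa a), exa]),
      hVrep _ _ y' _ _ hy' (by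
        rw [eyb]; simp only [y', map_mul, map_inv, hτ]; rw [LV.weight t ht _ (hyb b), eyb])]
    refine hψ' _ _ _ _ _ ?_
    have h := (Subgroup.mem_normalizer_iff.1 (hNT (show ξ τ ∈ T from hτ ▸ ht)) _).1
      (hψ (xa a) (yb b) (hWU (hxa a)) (hyb b))
    set z : X := (ψ (xa a) (yb b) (hWU (hxa a)) (hyb b) : X) with hz
    have cz := central ξ hc (show ξ z⁻¹ = 1 by rw [map_inv, hz]; simp [show ξ (ψ (xa a) (yb b) (hWU (hxa a)) (hyb b) : X) = 1 from (ψ (xa a) (yb b) (hWU (hxa a)) (hyb b)).2])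
    rw [show ⁅x', y'⁆ * z⁻¹ = τ * (⁅xa a, yb b⁆ * z⁻¹) * τ⁻¹ by
      simp only [x', y', commutatorElement_def, mul_assoc]
      rw [cz τ⁻¹]; group]
    exact h
  intro x y hx hy
  have h0 := vanish_on hcard φ (LV.χ t) (LW.χ t) (LW.χ_mul_mem ht hTW) (LV.χ_mul_mem ht hTV) hinv hne hw
    ⟨_, ξ x, hx, rfl⟩ ⟨_, ξ y, hy, rfl⟩
  have h1 : ψ x y (hWU hx) hy = 1 := by
    rw [hWrep x _ y hx (hxa ⟨_, ξ x, hx, rfl⟩) hy (exa ⟨_, ξ x, hx, rfl⟩).symm,
      hVrep _ y _ _ hy (hyb ⟨_, ξ y, hy, rfl⟩) (eyb ⟨_, ξ y, hy, rfl⟩).symm]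
    exact congrArg Additive.toMul h0
  simpa [h1] using hψ x y (hWU hx) hy

end Cfsg.Agent.CentralSection
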